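import Cfsg.Agent.Lib.Recognition.PrimeOrders.Basic

/-!
Groups in which the centraliser of every involution is a 2-group.
-/

set_option autoImplicit false
set_option linter.unusedSectionVars false
set_option linter.style.haveILetI false

open Subgroup

namespace CfsgLib.Recognition.CIT

open CfsgLib.Recognition.PrimeOrders

/-- Involution centralisers are 2-groups. -/
def IsCIT (G : Type*) [Group G] : Prop :=
  ∀ t : G, orderOf t = 2 → IsPGroup 2 ↥(centralizer ({t} : Set G))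

variable {G : Type*} [Group G] [Finite G]

omit [Finite G] in
theorem eq_one_of_odd_of_two {x : G} (hodd : Odd (orderOf x)) {k : ℕ} (hk : x ^ 2 ^ k = 1) :
    x = 1 := by
  obtain ⟨j, -, hj⟩ := (Nat.dvd_prime_pow Nat.prime_two).1 (orderOf_dvd_of_pow_eq_one hk)
  rcases Nat.eq_zero_or_pos j with rfl | h0
  · exact orderOf_eq_one_iff.1 (by rw [hj, pow_zero])
  · rw [hj, Nat.odd_pow_iff h0.ne'] at hodd
    exact absurd hodd (by decide)

theorem eq_one_of_odd_of_pGroup {P : Subgroup G} (hP : IsPGroup 2 P) {x : G} (hx : x ∈ P)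
    (hodd : Odd (orderOf x)) : x = 1 := by
  obtain ⟨k, hk⟩ := hP ⟨x, hx⟩
  exact eq_one_of_odd_of_two hodd (congrArg Subtype.val hk : x ^ 2 ^ k = 1)

/-- Some 2-power makes the order odd. -/
theorem exists_odd_pow (x : G) : ∃ k, Odd (orderOf (x ^ 2 ^ k)) := by
  obtain ⟨k, m, hm, hkm⟩ := Nat.exists_eq_two_pow_mul_odd (orderOf_pos x).ne'
  refine ⟨k, ?_⟩
  rw [orderOf_pow' _ (by positivity), hkm, Nat.gcd_eq_right (Dvd.intro _ rfl),
    Nat.mul_div_cancel_left _ (by positivity)]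
  exact hm

theorem isPGroup_of_forall {K : Subgroup G} (h : ∀ d ∈ K, Odd (orderOf d) → d = 1) :
    IsPGroup 2 K := by
  rintro ⟨x, hx⟩
  obtain ⟨k, hk⟩ := exists_odd_pow x
  exact ⟨k, Subtype.ext (h _ (K.pow_mem hx _) hk)⟩

/-- A nontrivial element of a 2-group commutes with no nontrivial element of odd order. -/
theorem IsCIT.eq_one_of_commute (H : IsCIT G) {P : Subgroup G} (hP : IsPGroup 2 P) {x d : G}
    (hx : x ∈ P) (hx1 : x ≠ 1) (hd : Odd (orderOf d)) (h : d * x = x * d) : d = 1 := by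
  obtain ⟨k, hk⟩ := hP ⟨x, hx⟩
  obtain ⟨j, -, hj⟩ := (Nat.dvd_prime_pow Nat.prime_two).1
    (orderOf_dvd_of_pow_eq_one (congrArg Subtype.val hk : x ^ 2 ^ k = 1))
  obtain ⟨i, rfl⟩ : ∃ i, j = i + 1 := by
    refine ⟨j - 1, ?_⟩
    rcases Nat.eq_zero_or_pos j with rfl | h0
    · exact absurd (orderOf_eq_one_iff.1 (by rw [hj, pow_zero])) hx1
    · omega
  set t := x ^ 2 ^ i with ht
  have ht2 : orderOf t = 2 := by
    rw [ht, orderOf_pow' _ (by positivity), hj, pow_succ,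
      Nat.gcd_eq_right (Dvd.intro _ rfl), Nat.mul_div_cancel_left _ (by positivity)]
  refine eq_one_of_odd_of_pGroup (H t ht2) ?_ hd
  rw [Subgroup.mem_centralizer_singleton_iff]
  exact (Commute.pow_right h _)

/-- The centraliser of a nontrivial 2-subgroup is a 2-group. -/
theorem IsCIT.centralizer_isPGroup (H : IsCIT G) {P : Subgroup G} (hP : IsPGroup 2 P)
    (hP1 : P ≠ ⊥) : IsPGroup 2 ↥(centralizer (P : Set G)) := by
  obtain ⟨x, hx, hx1⟩ : ∃ x ∈ P, x ≠ 1 := by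
    by_contra h'
    push Not at h'
    exact hP1 ((Subgroup.eq_bot_iff_forall P).2 h')
  exact isPGroup_of_forall fun d hd hodd =>
    H.eq_one_of_commute hP hx hx1 hodd (Subgroup.mem_centralizer_iff.1 hd x hx).symm

/-- An element of odd order normalising a 2-group acts on it without fixed points, so twisting is
surjective. -/
theorem IsCIT.twist_surjective (H : IsCIT G) {C : Subgroup G} (hC : IsPGroup 2 C) {y : G}
    (hy : Odd (orderOf y)) (hy1 : y ≠ 1) (hn : ∀ c ∈ C, y * c * y⁻¹ ∈ C) :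
    ∀ k ∈ C, ∃ c ∈ C, c * (y * c * y⁻¹)⁻¹ = k := by
  intro k hk
  let f : C → C := fun c => ⟨(c : G) * (y * c * y⁻¹)⁻¹, C.mul_mem c.2 (C.inv_mem (hn _ c.2))⟩
  have hf : Function.Injective f := by
    intro a b e
    have e' : (a : G) * (y * a * y⁻¹)⁻¹ = b * (y * b * y⁻¹)⁻¹ := congrArg Subtype.val e
    have e2 : y * ((b : G)⁻¹ * a) * y⁻¹ = (b : G)⁻¹ * a := by
      calc y * ((b : G)⁻¹ * a) * y⁻¹ = (y * b * y⁻¹)⁻¹ * (y * a * y⁻¹) := by group
        _ = (b : G)⁻¹ * ((b : G) * (y * b * y⁻¹)⁻¹) * (y * a * y⁻¹) := by group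
        _ = (b : G)⁻¹ * a := by rw [← e']; group
    by_contra hab
    exact hy1 (H.eq_one_of_commute hC (C.mul_mem (C.inv_mem b.2) a.2)
      (fun h1 => hab (Subtype.ext (inv_mul_eq_one.1 h1).symm)) hy (mul_inv_eq_iff_eq_mul.1 e2))
  obtain ⟨c, hc⟩ := Finite.surjective_of_injective hf ⟨k, hk⟩
  exact ⟨c, c.2, congrArg Subtype.val hc⟩

/-- If `y` of odd order normalises the 2-group `C` and fixes the coset `sC`, it commutes with some
element of that coset. -/
theorem IsCIT.exists_commute_coset (H : IsCIT G) {C : Subgroup G} (hC : IsPGroup 2 C) {y s : G}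
    (hy : Odd (orderOf y)) (hn : ∀ c ∈ C, y * c * y⁻¹ ∈ C) (hs : s⁻¹ * (y * s * y⁻¹) ∈ C) :
    ∃ c ∈ C, y * (s * c) = (s * c) * y := by
  by_cases hy1 : y = 1
  · exact ⟨1, C.one_mem, by rw [hy1, mul_one, one_mul, mul_one]⟩
  obtain ⟨c, hc, e⟩ := H.twist_surjective hC hy hy1 hn _ hs
  refine ⟨c, hc, mul_inv_eq_iff_eq_mul.1 ?_⟩
  calc y * (s * c) * y⁻¹ = s * (s⁻¹ * (y * s * y⁻¹)) * (y * c * y⁻¹) := by group
    _ = s * c := by rw [← e]; group

end CfsgLib.Recognition.CIT
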