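import Cfsg.Agent.Lib.Recognition.CIT.PairShape
import Cfsg.Agent.Lib.Recognition.PrimeOrders.Finish

/-!
A self-centralising natural four-group gives `PSL(2, q)`.
-/

set_option autoImplicit false
set_option linter.unusedSectionVars false
set_option linter.style.haveILetI false

open Subgroup MulAction

namespace CfsgLib.Recognition.CIT

open CfsgLib.Recognition.PrimeOrders

universe u

variable {G : Type u} [Group G] [Finite G]

theorem IsCIT.psl_of_self_centralizing [IsSimpleGroup G] (H : IsCIT G) (hna : ¬ IsMulCommutative G)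
    {V T : Subgroup G} (hV : Natural V) (hC : centralizer (V : Set G) = V)
    (hT : IsSyl T (normalizer (V : Set G)))
    (hq : Nat.card ↥(V ⊓ centralizer (T : Set G)) = 2) :
    ∃ (F : Type) (_ : Field F) (_ : Fintype F),
      Nonempty (G ≃* Matrix.ProjectiveSpecialLinearGroup (Fin 2) F) := by
  classical
  haveI : Fact (Nat.Prime 2) := ⟨Nat.prime_two⟩
  have hVc : Nat.card V = 4 := by rw [hV.card_eq H hT, hq]
  have hVT : V ≤ T := hC ▸ hV.centralizer_le_syl H hT
  have hT8 : Nat.card T = 8 := by rw [hV.card_syl H hT, hC, hq, hVc]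
  obtain ⟨v, hv, hvW⟩ : ∃ v ∈ V, v ∉ V ⊓ centralizer (T : Set G) := by
    by_contra h'
    push Not at h'
    have := Subgroup.card_le_of_le h'
    rw [hVc, hq] at this
    omega
  have hv1 : v ≠ 1 := fun e => hvW (e ▸ Subgroup.one_mem _)
  obtain ⟨S, hTS⟩ := hT.2.1.exists_le_sylow
  have hSN : (S : Subgroup G) ⊓ normalizer (V : Set G) = T :=
    (Subgroup.eq_of_le_of_card_ge (le_inf hTS hT.1)
      (hT.2.2 _ inf_le_right (S.isPGroup'.to_le inf_le_left))).symm
  set R := (S : Subgroup G) ⊓ centralizer ({v} : Set G) with hR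
  have hVR : V ≤ R := fun x hx =>
    ⟨hTS (hVT hx), Subgroup.mem_centralizer_singleton_iff.2 (hV.elem.comm hx hv)⟩
  have hRV : R = V := by
    rcases eq_or_lt_of_le hVR with e | hlt
    · exact e.symm
    exfalso
    obtain ⟨x, hx, hxV⟩ :=
      SetLike.exists_of_lt (PrimeOrders.exists_normalizing (S.isPGroup'.to_le inf_le_left) hlt)
    exact hvW (hV.mem_W_of_commute H hT (hSN ▸ ⟨hx.1.1, hx.2⟩) (hC.symm ▸ hxV) hv
      (Subgroup.mem_centralizer_singleton_iff.1 hx.1.2))
  have hv2 : orderOf v = 2 := orderOf_eq_prime (by rw [pow_two]; exact hV.elem v hv) hv1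
  let vS : ↥(S : Subgroup G) := ⟨v, hTS (hVT hv)⟩
  have hcard : Nat.card ↥(centralizer ({vS} : Set ↥(S : Subgroup G))) = 4 := by
    rw [← hVc, ← hRV]
    exact Nat.card_congr
      { toFun := fun x => ⟨((x : ↥(S : Subgroup G)) : G), ⟨(x : ↥(S : Subgroup G)).2,
          Subgroup.mem_centralizer_singleton_iff.2
            (congrArg Subtype.val (Subgroup.mem_centralizer_singleton_iff.1 x.2))⟩⟩
        invFun := fun x => ⟨⟨x.1, x.2.1⟩, Subgroup.mem_centralizer_singleton_iff.2
          (Subtype.ext (Subgroup.mem_centralizer_singleton_iff.1 x.2.2))⟩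
        left_inv := fun _ => rfl
        right_inv := fun _ => rfl }
  have hS8 : 8 ≤ Nat.card ↥(S : Subgroup G) := hT8 ▸ Subgroup.card_le_of_le hTS
  obtain ⟨t, -, ht, -, htS, -, -, htc⟩ :=
    CfsgLib.Involution.SelfCentNoncyclic.exists_two_involutions hna S
  have hC2 := H t ht
  rcases Cfsg.Agent.S3224.result S.isPGroup' vS (by rw [Subgroup.orderOf_mk, hv2]) hcard with
    ⟨n, hφ⟩ | hqd | h4
  · obtain ⟨φ⟩ := hφ
    have hn : 2 ≤ n := by
      have h1 : Nat.card ↥(S : Subgroup G) = 2 * n := by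
        rw [Nat.card_congr φ.toEquiv, DihedralGroup.nat_card]
      omega
    obtain ⟨F, hF, hFt, -, he⟩ := CfsgLib.Characterizations.BSW.psl_of_dihedral S n hn ⟨φ⟩ t ht htS htc ⊥
      (by
        have hO : Cfsg.oddCore ↥(Subgroup.centralizer ({t} : Set G)) = ⊥ := by
          obtain ⟨j, hj⟩ := IsPGroup.iff_card.1
            (hC2.to_subgroup (Cfsg.oddCore ↥(Subgroup.centralizer ({t} : Set G))))
          have hodd := CfsgLib.Involution.ZStar.odd_card_oddCore (G := ↥(Subgroup.centralizer ({t} : Set G)))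
          refine Subgroup.card_eq_one.1 ?_
          rw [hj] at hodd ⊢
          rcases Nat.eq_zero_or_pos j with rfl | h
          · rw [pow_zero]
          · exact absurd ((Nat.odd_pow_iff h.ne').1 hodd) (by decide)
        rw [hO, Subgroup.map_bot])
      (fun h => absurd rfl h)
      (fun s _ hsn => absurd (Subgroup.mem_centralizer_iff.2 fun y hy => by
        rw [SetLike.mem_coe, Subgroup.mem_bot] at hy
        rw [hy, one_mul, mul_one]) hsn)
      (fun Y hY hY' => absurd (le_bot_iff.1 hY) hY')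
    exact ⟨F, hF, hFt, he⟩
  · exfalso
    obtain ⟨R', -, ⟨K, -, -, hK2, hKQ⟩, -⟩ := Cfsg.Agent.S1213.result S (Or.inl hqd)
      (CfsgLib.Involution.SelfCentNoncyclic.index_ne_two hna) t ht
    obtain ⟨j, hj⟩ := IsPGroup.iff_card.1 (hC2.to_subgroup K)
    rcases Nat.eq_zero_or_pos j with rfl | hjpos
    · obtain ⟨P⟩ : Nonempty (Sylow 2 K) := Sylow.nonempty
      obtain ⟨m, hm, ⟨e⟩⟩ := hKQ P
      have h1 : Nat.card (P : Subgroup K) ≤ Nat.card K := Subgroup.card_le_card_group _
      haveI : NeZero (2 ^ m) := ⟨by positivity⟩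
      rw [Nat.card_congr e.toEquiv, Nat.card_eq_fintype_card, QuaternionGroup.card, hj, pow_zero] at h1
      have := Nat.two_pow_pos m
      omega
    · obtain ⟨W, hW⟩ := Sylow.exists_subgroup_card_pow_prime 2 (n := j - 1)
        (G := K) (hj ▸ pow_dvd_pow 2 (Nat.sub_le j 1))
      refine hK2 W ?_
      have h1 := W.card_mul_index
      rw [hW, hj] at h1
      have h2 : 2 ^ j = 2 ^ (j - 1) * 2 := by rw [← pow_succ, Nat.sub_add_cancel hjpos]
      rw [h2] at h1
      exact Nat.eq_of_mul_eq_mul_left (Nat.two_pow_pos _) h1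
  · omega

end CfsgLib.Recognition.CIT
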