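import Cfsg.Agent.Lib.Recognition.CIT.Basic
import Cfsg.Agent.Lib.Involution.SelfCentNoncyclicMain

/-!
The fields over which `PSL(2, F)` has 2-groups as involution centralisers.
-/

set_option autoImplicit false
set_option linter.unusedSectionVars false
set_option linter.style.haveILetI false

open Subgroup
open scoped MatrixGroups

namespace CfsgLib.Recognition.CIT

open CfsgLib.Involution.SelfCentNoncyclic

variable {G : Type*} [Group G] [Finite G]

theorem IsCIT.field_condition (H : IsCIT G) {F : Type} [Field F] [Fintype F]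
    (φ : G ≃* Matrix.ProjectiveSpecialLinearGroup (Fin 2) F) :
    Fintype.card F = 9 ∨ (∃ n : ℕ, Fintype.card F = 2 ^ n) ∨
      ((Fintype.card F).Prime ∧
        ∃ k : ℕ, Fintype.card F = 2 ^ k + 1 ∨ Fintype.card F + 1 = 2 ^ k) := by
  classical
  obtain ⟨p, hpc⟩ := CharP.exists F
  obtain ⟨f, hp, hq⟩ := FiniteField.card F p
  haveI : Fact p.Prime := ⟨hp⟩
  by_cases hp2 : p = 2
  · exact Or.inr (Or.inl ⟨f, hp2 ▸ hq⟩)
  have hodd : Odd (Fintype.card F) := by
    rw [hq]; exact (hp.odd_of_ne_two hp2).pow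
  have h2 : (2 : F) ≠ 0 := fun h => hp2 ((Nat.prime_dvd_prime_iff_eq hp Nat.prime_two).1
    ((CharP.cast_eq_zero_iff F p 2).1 (by exact_mod_cast h)))
  set q := Fintype.card F with hqdef
  have hq3 : 3 ≤ q := by
    have : 2 ≤ q := Fintype.one_lt_card
    obtain ⟨r, hr⟩ := hodd
    omega
  have key : ∀ (g : SL(2, F)) (m : ℕ), orderOf g = 2 * m → Even m → ∃ j, m = 2 ^ j := by
    intro g m hg ⟨r, hr⟩
    have ho : orderOf (φ.symm (g : Matrix.ProjectiveSpecialLinearGroup (Fin 2) F)) = m :=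
      (MulEquiv.orderOf_eq φ.symm _).trans (psl_exists_order h2 hg)
    set c := φ.symm (g : Matrix.ProjectiveSpecialLinearGroup (Fin 2) F) with hc
    have hm0 : 0 < m := by
      have := orderOf_pos g
      omega
    have hx : orderOf (c ^ r) = 2 := by
      rw [orderOf_pow' c (by omega : r ≠ 0), ho, hr, ← two_mul, Nat.gcd_mul_left_left,
        Nat.mul_div_cancel _ (by omega : 0 < r)]
    have hcC : c ∈ Subgroup.centralizer ({c ^ r} : Set G) :=
      Subgroup.mem_centralizer_singleton_iff.2 ((Commute.refl c).pow_right r).eq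
    obtain ⟨j, hj⟩ := (H _ hx) ⟨c, hcC⟩
    have hd : m ∣ 2 ^ j := by
      rw [← ho]
      exact orderOf_dvd_of_pow_eq_one (congrArg Subtype.val hj)
    obtain ⟨i, -, hi⟩ := (Nat.dvd_prime_pow Nat.prime_two).1 hd
    exact ⟨i, hi⟩
  obtain ⟨r, hr⟩ := hodd
  rcases Nat.even_or_odd r with he | ⟨w, hw⟩
  · obtain ⟨g, hg⟩ := CfsgLib.Classical.exists_sl2_minus (F := F)
    obtain ⟨j, hj⟩ := key g r (by rw [hg, ← hqdef]; omega) he
    have hq' : p ^ (f : ℕ) = 2 ^ (j + 1) + 1 := by rw [← hq, hr, hj, pow_succ]; ring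
    rcases nine_or_prime_plus hp hp2 f.pos hq' with h | h
    · exact Or.inl (hq.trans h)
    · exact Or.inr (Or.inr ⟨hq ▸ h, j + 1, Or.inl (hq.trans hq')⟩)
  · obtain ⟨g, hg⟩ := CfsgLib.Classical.exists_sl2_plus (F := F) p
    obtain ⟨j, hj⟩ := key g (r + 1) (by rw [hg, ← hqdef]; omega) ⟨w + 1, by omega⟩
    have hq' : p ^ (f : ℕ) + 1 = 2 ^ (j + 1) := by rw [← hq, pow_succ, ← hj]; omega
    exact Or.inr (Or.inr ⟨hq ▸ prime_minus hp hp2 f.pos hq', j + 1, Or.inr (by rw [hq]; exact hq')⟩)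

end CfsgLib.Recognition.CIT
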