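import Cfsg.Agent.Lib.Recognition.CIT.Embedded
import Cfsg.Agent.Lib.Recognition.CIT.Field
import Cfsg.Agent.Lib.Perm.ZGroup.SuzukiUnique.Classify

/-!
The embedded case of the classification of simple CIT groups.
-/

set_option autoImplicit false
set_option linter.style.haveILetI false

open Subgroup
open scoped MatrixGroups

namespace CfsgLib.Recognition.CIT

variable {G : Type*} [Group G] [Finite G]

/-- A simple CIT group with a strongly embedded 2-local subgroup is `PSL(2, F)` or a Suzuki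
group. -/
theorem IsCIT.list_of_embedded [IsSimpleGroup G] (H : IsCIT G) (hna : ¬ IsMulCommutative G)
    {D : Subgroup G} (hD : IsPGroup 2 D) (hD1 : D ≠ ⊥)
    (hH : Cfsg.IsStronglyEmbedded (normalizer (D : Set G))) :
    (∃ (F : Type) (_ : Field F) (_ : Fintype F),
        (Fintype.card F = 9 ∨ (∃ n : ℕ, Fintype.card F = 2 ^ n) ∨
          ((Fintype.card F).Prime ∧
            ∃ k : ℕ, Fintype.card F = 2 ^ k + 1 ∨ Fintype.card F + 1 = 2 ^ k)) ∧
        Nonempty (G ≃* Matrix.ProjectiveSpecialLinearGroup (Fin 2) F)) ∨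
      Cfsg.Lie.IsoSuzuki G := by
  rcases CfsgLib.Perm.ZGroup.psl_or_isoSuzuki (H.isZassenhaus hna hD hD1 hH) with
    ⟨F, hF, hFt, ⟨φ⟩⟩ | h
  · exact Or.inl ⟨F, hF, hFt, H.field_condition φ, ⟨φ⟩⟩
  · exact Or.inr h

end CfsgLib.Recognition.CIT
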