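import Cfsg.Agent.Lib.Recognition.CIT.FourSylow

/-!
Involutions in the case of modules of order sixteen: one class, their products, square roots.
-/

set_option autoImplicit false
set_option linter.unusedSectionVars false
set_option linter.style.haveILetI false

open Subgroup

namespace CfsgLib.Recognition.CIT

open CfsgLib.Recognition.PrimeOrders

variable {G : Type*} [Group G] [Finite G]

theorem card_subtype_conj {α : G → Prop} {β : G → Prop} (g : G)
    (h : ∀ v, β (g * v * g⁻¹) ↔ α v) : Nat.card {v // β v} = Nat.card {v // α v} :=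
  (Nat.card_congr (Equiv.subtypeEquiv (MulAut.conj g).toEquiv fun v => (h v).symm)).symm

namespace Shape

variable {V V' T : Subgroup G}

theorem centralizer_inter (P : Shape V V' T) (H : IsCIT G) (hS : IsSyl T ⊤) {z : G}
    (hz : z ∈ V ⊓ V') (hz1 : z ≠ 1) : centralizer ({z} : Set G) = T := by
  refine (Subgroup.eq_of_le_of_card_ge (fun t ht =>
    Subgroup.mem_centralizer_singleton_iff.2 (P.W_fixed hz ht)) (hS.2.2 _ le_top ?_)).symm
  exact H z (orderOf_eq_prime (by rw [pow_two]; exact P.nat.elem z hz.1) hz1)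

/-- All involutions are conjugate. -/
theorem exists_conj_eq (P : Shape V V' T) (H : IsCIT G) (hS : IsSyl T ⊤) {z : G}
    (hz : z ∈ V ⊓ V') (hz1 : z ≠ 1) {t : G} (ht : orderOf t = 2) : ∃ g, g * z * g⁻¹ = t := by
  obtain ⟨m, -, hm⟩ := hS.conj_le (le_top : zpowers t ≤ ⊤)
    (CfsgLib.Involution.Basic.isPGroup_zpowers (p := 2) (k := 1) ht)
  have hm' : m * t * m⁻¹ ∈ T := hm (conj_mem_cj (mem_zpowers t))
  have hm2 : m * t * m⁻¹ * (m * t * m⁻¹) = 1 := by
    calc m * t * m⁻¹ * (m * t * m⁻¹) = m * (t * t) * m⁻¹ := by group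
      _ = 1 := by rw [CfsgLib.Involution.Dihedral.mul_self ht]; group
  have hm1 : m * t * m⁻¹ ≠ 1 := fun e => by
    rw [conj_eq_one_iff.1 e, orderOf_one] at ht; omega
  obtain ⟨g, w, hw, hw1, hgw⟩ := P.exists_conj_inter H hm' hm2 hm1
  rw [← P.inter] at hw hz
  obtain ⟨p, -, -, hp⟩ := P.nat.torus_trans H P.syl hz hz1 hw hw1
  refine ⟨m⁻¹ * g * p, ?_⟩
  calc m⁻¹ * g * p * z * (m⁻¹ * g * p)⁻¹ = m⁻¹ * (g * (p * z * p⁻¹) * g⁻¹) * m := by group
    _ = t := by rw [hp, hgw]; group

theorem card_involutions (P : Shape V V' T) (H : IsCIT G) (hS : IsSyl T ⊤) {z : G}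
    (hz : z ∈ V ⊓ V') (hz1 : z ≠ 1) : Nat.card {t : G // orderOf t = 2} = T.index := by
  have hzo : orderOf z = 2 := orderOf_eq_prime (by rw [pow_two]; exact P.nat.elem z hz.1) hz1
  have hC := P.centralizer_inter H hS hz hz1
  symm
  refine Nat.card_eq_of_bijective (fun q : G ⧸ T => ⟨q.out * z * q.out⁻¹, by
    rw [show q.out * z * q.out⁻¹ = MulAut.conj q.out z from rfl, MulEquiv.orderOf_eq, hzo]⟩) ⟨?_, ?_⟩
  · intro q q' e
    have e' : q.out * z * q.out⁻¹ = q'.out * z * q'.out⁻¹ := congrArg Subtype.val e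
    rw [← QuotientGroup.out_eq' q, ← QuotientGroup.out_eq' q', QuotientGroup.eq]
    refine hC.le (Subgroup.mem_centralizer_singleton_iff.2 ?_)
    calc q.out⁻¹ * q'.out * z = q.out⁻¹ * (q'.out * z * q'.out⁻¹) * q'.out := by group
      _ = z * (q.out⁻¹ * q'.out) := by rw [← e']; group
  · rintro ⟨t, ht⟩
    obtain ⟨g, rfl⟩ := P.exists_conj_eq H hS hz hz1 ht
    obtain ⟨n, hn⟩ := QuotientGroup.mk_out_eq_mul T g
    refine ⟨(g : G ⧸ T), Subtype.ext ?_⟩
    show (g : G ⧸ T).out * z * (g : G ⧸ T).out⁻¹ = g * z * g⁻¹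
    rw [hn]
    calc g * (n : G) * z * (g * n)⁻¹ = g * ((n : G) * z * (n : G)⁻¹) * g⁻¹ := by group
      _ = g * z * g⁻¹ := by rw [P.W_fixed hz n.2, mul_inv_cancel_right]

theorem pow_four (P : Shape V V' T) (H : IsCIT G) {t : G} (ht : t ∈ T) : t ^ 4 = 1 := by
  rw [show 4 = 2 * 2 from rfl, pow_mul, pow_two, pow_two]
  exact P.nat.elem _ (P.sq_mem_inter H ht).1

/-- The orders of the elements. -/
theorem order_cases (P : Shape V V' T) (H : IsCIT G) (hS : IsSyl T ⊤) (x : G) :
    Odd (orderOf x) ∨ orderOf x = 2 ∨ orderOf x = 4 := by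
  rcases Nat.even_or_odd (orderOf x) with he | ho
  · right
    obtain ⟨j, hj⟩ := he
    have hpos := orderOf_pos x
    have ht : orderOf (x ^ j) = 2 := by
      rw [orderOf_pow' _ (by omega), hj, Nat.gcd_eq_right ⟨2, by omega⟩, show j + j = 2 * j by ring,
        Nat.mul_div_cancel _ (by omega)]
    have hxC : x ∈ centralizer ({x ^ j} : Set G) :=
      Subgroup.mem_centralizer_singleton_iff.2 (Commute.self_pow x j).eq
    obtain ⟨m, -, hm⟩ := hS.conj_le (le_top : centralizer ({x ^ j} : Set G) ≤ ⊤) (H _ ht)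
    have h4 := P.pow_four H (hm (conj_mem_cj hxC))
    rw [conj_pow, conj_eq_one_iff] at h4
    obtain ⟨i, hi, he⟩ := (Nat.dvd_prime_pow Nat.prime_two).1
      (show orderOf x ∣ 2 ^ 2 from orderOf_dvd_of_pow_eq_one h4)
    interval_cases i <;> omega
  · exact Or.inl ho

theorem card_inter_eq (h4 : Nat.card ↥(V ⊓ V') = 4) : Set.ncard (↑(V ⊓ V') : Set G) = 4 := by
  rw [← Nat.card_coe_set_eq]; exact h4

theorem card_sdiff (P : Shape V V' T) (h4 : Nat.card ↥(V ⊓ V') = 4) :
    Set.ncard {v : G | v ∈ V ∧ v ∉ V'} = 12 := by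
  have e : {v : G | v ∈ V ∧ v ∉ V'} = (↑V : Set G) \ ↑(V ⊓ V') := by
    ext v
    simp only [Set.mem_setOf_eq, Set.mem_sdiff, SetLike.mem_coe, Subgroup.mem_inf]
    tauto
  rw [e, Set.ncard_sdiff (fun v hv => (Subgroup.mem_inf.1 hv).1), card_inter_eq h4,
    ← Nat.card_coe_set_eq]
  have := P.cardV
  rw [h4] at this
  simp only [SetLike.coe_sort_coe]
  omega

/-- The noncommuting pairs of involutions of `T` with the first in `V`. -/
def pairs (V V' : Subgroup G) (z : G) : Set (G × G) :=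
  {p | p.1 ∈ V ∧ p.1 ∉ V' ∧ p.2 ∈ V' ∧ p.1 * p.2 * (p.1 * p.2) = z}

theorem ncard_pairs (P : Shape V V' T) (H : IsCIT G) (h4 : Nat.card ↥(V ⊓ V') = 4) {z : G}
    (hz : z ∈ V ⊓ V') : (pairs V V' z).ncard = 48 := by
  classical
  have hb : ∀ v : {v : G | v ∈ V ∧ v ∉ V'}, ∃ b ∈ V', (v : G) * b * ((v : G) * b) = z := by
    intro v
    obtain ⟨s, hs, e⟩ := P.nat.exists_commutator H P.syl v.2.1
      (fun h => v.2.2 (P.inter ▸ h).2) (w := z) (by rw [P.inter]; exact hz)
    obtain ⟨b, hb, a, ha, rfl⟩ := P.symm.gen s hs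
    refine ⟨b, hb, ?_⟩
    calc (v : G) * b * ((v : G) * b) = (v : G) * (b * v * b⁻¹) := by
          rw [inv_eq_of_mul_eq_one_right (P.nat'.elem b hb)]; group
      _ = (v : G) * (b * (a * v * a⁻¹) * b⁻¹) := by
          rw [P.nat.elem.comm ha v.2.1, mul_inv_cancel_right]
      _ = z := by rw [← e]; group
  choose b hb hbz using hb
  let f : {v : G | v ∈ V ∧ v ∉ V'} × ↥(V ⊓ V') → pairs V V' z := fun p =>
    ⟨((p.1 : G), b p.1 * p.2), p.1.2.1, p.1.2.2, V'.mul_mem (hb _) p.2.2.2, by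
      calc (p.1 : G) * (b p.1 * p.2) * ((p.1 : G) * (b p.1 * p.2))
          = (p.1 : G) * b p.1 * ((p.2 : G) * (p.1 : G)) * (b p.1 * p.2) := by group
        _ = (p.1 : G) * b p.1 * ((p.1 : G) * (p.2 : G)) * (b p.1 * p.2) := by
          rw [P.nat.elem.comm p.2.2.1 p.1.2.1]
        _ = (p.1 : G) * b p.1 * (p.1 : G) * ((p.2 : G) * b p.1) * p.2 := by group
        _ = (p.1 : G) * b p.1 * (p.1 : G) * (b p.1 * (p.2 : G)) * p.2 := by
          rw [P.nat'.elem.comm p.2.2.2 (hb _)]
        _ = (p.1 : G) * b p.1 * ((p.1 : G) * b p.1) * ((p.2 : G) * p.2) := by group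
        _ = z := by rw [hbz, P.nat.elem _ p.2.2.1, mul_one]⟩
  have hf : Function.Bijective f := by
    constructor
    · rintro ⟨v, w⟩ ⟨v', w'⟩ e
      have e1 : (v : G) = v' ∧ b v * w = b v' * w' := Prod.ext_iff.1 (congrArg Subtype.val e)
      obtain rfl : v = v' := Subtype.ext e1.1
      exact Prod.ext rfl (Subtype.ext (mul_left_cancel e1.2))
    · rintro ⟨⟨v, c⟩, hv, hv', hc, hvc⟩
      let v₀ : {v : G | v ∈ V ∧ v ∉ V'} := ⟨v, hv, hv'⟩
      have hd : (b v₀)⁻¹ * c ∈ V' := V'.mul_mem (V'.inv_mem (hb _)) hc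
      have hcom : v * ((b v₀)⁻¹ * c) = (b v₀)⁻¹ * c * v := by
        have h1 : v * c * (v * c) = v * b v₀ * (v * b v₀) := (show v * c * (v * c) = z from hvc).trans
          (hbz v₀).symm
        have h2 : c * v * c = b v₀ * v * b v₀ := by
          have := congrArg (v⁻¹ * ·) h1
          simpa [mul_assoc] using this
        have hbb := inv_eq_of_mul_eq_one_right (P.nat'.elem _ (hb v₀))
        calc v * ((b v₀)⁻¹ * c) = v * b v₀ * c := by rw [hbb, mul_assoc]
          _ = (b v₀)⁻¹ * (b v₀ * v * b v₀) * c := by group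
          _ = (b v₀)⁻¹ * c * v * (c * c) := by rw [← h2]; group
          _ = _ := by rw [P.nat'.elem c hc, mul_one]
      have hW := P.nat'.mem_W_of_commute H P.syl' (P.le hv) (by rw [P.self']; exact hv') hd hcom
      rw [P.inter'] at hW
      exact ⟨(v₀, ⟨_, hW⟩), Subtype.ext (Prod.ext rfl (mul_inv_cancel_left _ c))⟩
  rw [← Nat.card_coe_set_eq, ← Nat.card_eq_of_bijective f hf, Nat.card_prod, Nat.card_coe_set_eq,
    P.card_sdiff h4, h4]

/-- An involution commutes with 26 others. -/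
theorem card_commuting (P : Shape V V' T) (H : IsCIT G) (hS : IsSyl T ⊤)
    (h4 : Nat.card ↥(V ⊓ V') = 4) {z : G} (hz : z ∈ V ⊓ V') (hz1 : z ≠ 1) :
    Nat.card {v : G // orderOf v = 2 ∧ orderOf (z * v) = 2} = 26 := by
  have hC := P.centralizer_inter H hS hz hz1
  have e : {v : G | orderOf v = 2 ∧ orderOf (z * v) = 2} = ((↑V : Set G) ∪ ↑V') \ {1, z} := by
    ext v
    simp only [Set.mem_setOf_eq, Set.mem_sdiff, Set.mem_union, SetLike.mem_coe, Set.mem_insert_iff,
      Set.mem_singleton_iff]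
    constructor
    · rintro ⟨hv, hzv⟩
      have hvv := CfsgLib.Involution.Dihedral.mul_self hv
      refine ⟨?_, ?_⟩
      · refine P.involution_mem H ?_ hvv
        rw [← hC, Subgroup.mem_centralizer_singleton_iff]
        have h := inv_eq_of_mul_eq_one_right (CfsgLib.Involution.Dihedral.mul_self hzv)
        rwa [mul_inv_rev, CfsgLib.Involution.Dihedral.inv_eq hv,
          inv_eq_of_mul_eq_one_right (P.nat.elem z hz.1)] at h
      · rintro (rfl | rfl)
        · simp at hv
        · rw [hvv, orderOf_one] at hzv; omega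
    · rintro ⟨hv, hne⟩
      push Not at hne
      have key : ∀ {U : Subgroup G}, Elem U → z ∈ U → v ∈ U →
          orderOf v = 2 ∧ orderOf (z * v) = 2 := by
        intro U hU hzU hvU
        refine ⟨orderOf_eq_prime (by rw [pow_two]; exact hU v hvU) hne.1,
          orderOf_eq_prime (by rw [pow_two]; exact hU _ (U.mul_mem hzU hvU)) fun e => hne.2 ?_⟩
        rw [eq_inv_of_mul_eq_one_right e, inv_eq_of_mul_eq_one_right (hU z hzU)]
      rcases hv with hv | hv
      · exact key P.nat.elem hz.1 hv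
      · exact key P.nat'.elem hz.2 hv
  show Nat.card {v : G | orderOf v = 2 ∧ orderOf (z * v) = 2} = 26
  rw [Nat.card_coe_set_eq, e, Set.ncard_sdiff (by
    rintro a (rfl | rfl)
    · exact Or.inl V.one_mem
    · exact Or.inl hz.1), Set.ncard_pair (Ne.symm hz1)]
  have h := Set.ncard_union_add_ncard_inter (↑V : Set G) ↑V'
  have h' : ((↑V : Set G) ∩ ↑V').ncard = 4 := by rw [← Subgroup.coe_inf]; exact card_inter_eq h4
  have h16 : ∀ {U : Subgroup G}, Nat.card U = 16 → (↑U : Set G).ncard = 16 := fun hU => by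
    rw [← Nat.card_coe_set_eq]; exact hU
  rw [h', h16 (by rw [P.cardV, h4]), h16 (by rw [P.cardV', h4])] at h
  omega

/-- The pairs of involutions whose product squares to a given involution. -/
theorem card_square_pairs (P : Shape V V' T) (H : IsCIT G) (hS : IsSyl T ⊤)
    (h4 : Nat.card ↥(V ⊓ V') = 4) {z : G} (hz : z ∈ V ⊓ V') (hz1 : z ≠ 1) :
    Nat.card {p : G × G // orderOf p.1 = 2 ∧ orderOf p.2 = 2 ∧ p.1 * p.2 * (p.1 * p.2) = z} = 96 := by
  have hC := P.centralizer_inter H hS hz hz1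
  have hz' : z ∈ V' ⊓ V := ⟨hz.2, hz.1⟩
  have h4' : Nat.card ↥(V' ⊓ V) = 4 := by rw [inf_comm]; exact h4
  have hne : ∀ {U W : Subgroup G}, ∀ p ∈ pairs U W z, p.1 ≠ 1 ∧ p.1 ∉ W := fun p hp =>
    ⟨fun e => hp.2.1 (e ▸ Subgroup.one_mem _), hp.2.1⟩
  have e : {p : G × G | orderOf p.1 = 2 ∧ orderOf p.2 = 2 ∧ p.1 * p.2 * (p.1 * p.2) = z} =
      pairs V V' z ∪ pairs V' V z := by
    ext ⟨u, v⟩
    simp only [Set.mem_setOf_eq, Set.mem_union]
    constructor
    · rintro ⟨hu, hv, huv⟩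
      have huu := CfsgLib.Involution.Dihedral.mul_self hu
      have hvv := CfsgLib.Involution.Dihedral.mul_self hv
      have hzi : z⁻¹ = z := inv_eq_of_mul_eq_one_right (P.nat.elem z hz.1)
      have hvu : z = v * u * (v * u) := by
        rw [← hzi, ← huv, mul_inv_rev, mul_inv_rev, CfsgLib.Involution.Dihedral.inv_eq hu,
          CfsgLib.Involution.Dihedral.inv_eq hv]
      have huT : u ∈ T := by
        rw [← hC, Subgroup.mem_centralizer_singleton_iff]
        calc u * z = (u * u) * (v * u * v) := by rw [← huv]; group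
          _ = v * u * v * (u * u) := by rw [huu, one_mul, mul_one]
          _ = z * u := by rw [hvu]; group
      have hvT : v ∈ T := by
        rw [← hC, Subgroup.mem_centralizer_singleton_iff]
        calc v * z = (v * v) * (u * v * u) := by rw [hvu]; group
          _ = u * v * u * (v * v) := by rw [hvv, one_mul, mul_one]
          _ = z * v := by rw [← huv]; group
      have hcomm : u * v ≠ v * u := fun e => hz1 <| by
        rw [← huv]
        calc u * v * (u * v) = u * v * (v * u) := by rw [← e]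
          _ = u * (v * v) * u := by group
          _ = 1 := by rw [hvv, mul_one, huu]
      rcases P.involution_mem H huT huu with hu' | hu'
      · refine Or.inl ⟨hu', fun h => ?_, ?_, huv⟩
        · exact hcomm (P.W_fixed ⟨hu', h⟩ hvT).symm
        · exact (P.involution_mem H hvT hvv).resolve_left fun h => hcomm (P.nat.elem.comm hu' h)
      · refine Or.inr ⟨hu', fun h => ?_, ?_, huv⟩
        · exact hcomm (P.W_fixed ⟨h, hu'⟩ hvT).symm
        · exact (P.involution_mem H hvT hvv).resolve_right fun h => hcomm (P.nat'.elem.comm hu' h)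
    · intro hp
      have key : ∀ {U W : Subgroup G}, Elem U → Elem W → (u, v) ∈ pairs U W z →
          orderOf u = 2 ∧ orderOf v = 2 ∧ u * v * (u * v) = z := by
        intro U W hU hW hp
        refine ⟨orderOf_eq_prime (by rw [pow_two]; exact hU u hp.1) (hne _ hp).1,
          orderOf_eq_prime (by rw [pow_two]; exact hW v hp.2.2.1) fun e => hz1 ?_, hp.2.2.2⟩
        rw [← show u * v * (u * v) = z from hp.2.2.2, e, mul_one]
        exact hU u hp.1
      rcases hp with hp | hp
      · exact key P.nat.elem P.nat'.elem hp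
      · exact key P.nat'.elem P.nat.elem hp
  show Nat.card {p : G × G | orderOf p.1 = 2 ∧ orderOf p.2 = 2 ∧ p.1 * p.2 * (p.1 * p.2) = z} = 96
  rw [Nat.card_coe_set_eq, e, Set.ncard_union_eq
    (Set.disjoint_left.2 fun p hp hp' => hp.2.1 hp'.1), P.ncard_pairs H h4 hz,
    P.symm.ncard_pairs H h4' hz']

/-- At least twelve square roots. -/
theorem le_card_roots (P : Shape V V' T) (H : IsCIT G) (h4 : Nat.card ↥(V ⊓ V') = 4) {z : G}
    (hz : z ∈ V ⊓ V') : 12 ≤ Nat.card {y : G // y * y = z} := by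
  classical
  haveI := Fintype.ofFinite G
  haveI : Fintype (pairs V V' z) := Fintype.ofFinite _
  haveI := Fintype.ofFinite ↥(V ⊓ V')
  let F : pairs V V' z → {y : G // y * y = z} := fun p => ⟨p.1.1 * p.1.2, p.2.2.2.2⟩
  have h := Finset.card_le_mul_card_image (f := F) Finset.univ 4 fun y hy => by
    obtain ⟨p₀, -, hp₀⟩ := Finset.mem_image.1 hy
    rw [← h4, Nat.card_eq_fintype_card, ← Finset.card_univ]
    refine Finset.card_le_card_of_injOn (fun p => if hm : F p = y then ⟨p₀.1.1⁻¹ * p.1.1, ?_⟩ else 1)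
      (fun _ _ => by simp) ?_
    · have e : p.1.1 * p.1.2 = p₀.1.1 * p₀.1.2 := congrArg Subtype.val (hm.trans hp₀.symm)
      refine ⟨V.mul_mem (V.inv_mem p₀.2.1) p.2.1, ?_⟩
      rw [show p₀.1.1⁻¹ * p.1.1 = p₀.1.2 * p.1.2⁻¹ by
        rw [eq_mul_inv_iff_mul_eq, mul_assoc, e, inv_mul_cancel_left]]
      exact V'.mul_mem p₀.2.2.2.1 (V'.inv_mem p.2.2.2.1)
    · intro a ha a' ha' e
      simp only [Finset.coe_filter, Finset.mem_univ, true_and, Set.mem_setOf_eq] at ha ha'
      have e1 := congrArg (fun w : ↥(V ⊓ V') => (w : G)) e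
      simp only [dif_pos ha, dif_pos ha'] at e1
      replace e1 := mul_left_cancel e1
      have e2 : a.1.1 * a.1.2 = a'.1.1 * a'.1.2 := congrArg Subtype.val (ha.trans ha'.symm)
      rw [e1, mul_right_inj] at e2
      exact Subtype.ext (Prod.ext e1 e2)
  rw [Finset.card_univ, ← Nat.card_eq_fintype_card, Nat.card_coe_set_eq, P.ncard_pairs H h4 hz] at h
  have h2 := Finset.card_le_univ (Finset.univ.image F)
  rw [← Nat.card_eq_fintype_card] at h2
  omega

end Shape

end CfsgLib.Recognition.CIT
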