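import Cfsg.Agent.Lib.Recognition.CIT.Local
import Cfsg.Agent.Lib.Recognition.PrimeOrders.Global

/-!
Conjugates of natural modules.
-/

set_option autoImplicit false
set_option linter.unusedSectionVars false
set_option linter.style.haveILetI false

open Subgroup

namespace CfsgLib.Recognition.CIT

open CfsgLib.Recognition.PrimeOrders

variable {G : Type*} [Group G]

theorem cj_inf (g : G) (A B : Subgroup G) :
    PrimeOrders.cj g (A ⊓ B) = PrimeOrders.cj g A ⊓ PrimeOrders.cj g B := by
  ext x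
  simp only [mem_cj, Subgroup.mem_inf]

theorem O2_cj (g : G) (M : Subgroup G) : O2 (PrimeOrders.cj g M) = PrimeOrders.cj g (O2 M) := by
  have key : ∀ (g : G) (M : Subgroup G),
      PrimeOrders.cj g (O2 M) ≤ O2 (PrimeOrders.cj g M) := by
    intro g M
    refine le_O2 (cj_mono (O2_le M)) ?_ (isPGroup_cj (O2_isPGroup M))
    intro m hm q hq
    rw [mem_cj] at hm hq ⊢
    have := O2_conj _ hm _ hq
    have e : g⁻¹ * m * g * (g⁻¹ * q * g) * (g⁻¹ * m * g)⁻¹ = g⁻¹ * (m * q * m⁻¹) * g := by group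
    rwa [e] at this
  refine le_antisymm ?_ (key g M)
  have h := cj_mono (g := g) (key g⁻¹ (PrimeOrders.cj g M))
  rwa [cj_inv_cj, cj_cj_inv] at h

variable [Finite G]

theorem Natural.cj {V : Subgroup G} (h : Natural V) (g : G) : Natural (PrimeOrders.cj g V) := by
  refine ⟨?_, cj_ne_bot h.ne, ?_, ?_, ?_⟩
  · intro v hv
    rw [mem_cj] at hv
    calc v * v = g * ((g⁻¹ * v * g) * (g⁻¹ * v * g)) * g⁻¹ := by group
      _ = 1 := by rw [h.elem _ hv]; group
  · intro w hw hw2 hwc
    rw [centralizer_cj, mem_cj] at hw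
    rw [mem_cj]
    refine h.self _ hw ?_ fun q hq => ?_
    · calc g⁻¹ * w * g * (g⁻¹ * w * g) = g⁻¹ * (w * w) * g := by group
        _ = 1 := by rw [hw2]; group
    · have h' := hwc _ ((centralizer_cj g V).symm ▸ conj_mem_cj (g := g) hq)
      calc g⁻¹ * w * g * q = g⁻¹ * (w * (g * q * g⁻¹)) * g := by group
        _ = q * (g⁻¹ * w * g) := by rw [h']; group
  · rw [normalizer_cj, O2_cj, centralizer_cj]
    exact cj_mono h.red
  · obtain ⟨A, hAN, hAe, hAC, hAq, hAb⟩ := h.off
    refine ⟨PrimeOrders.cj g A, by rw [normalizer_cj]; exact cj_mono hAN, ?_, ?_, ?_, ?_⟩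
    · intro a ha
      rw [mem_cj] at ha
      calc a * a = g * ((g⁻¹ * a * g) * (g⁻¹ * a * g)) * g⁻¹ := by group
        _ = 1 := by rw [hAe _ ha]; group
    · rw [centralizer_cj]
      intro hle
      have := cj_mono (g := g⁻¹) hle
      rw [cj_inv_cj, cj_inv_cj] at this
      exact hAC this
    · intro a ha b hb v hv
      rw [mem_cj] at ha hb hv
      have := congrArg (fun x => g * x * g⁻¹) (hAq _ ha _ hb _ hv)
      simpa [mul_assoc] using this
    · rw [card_cj, card_cj, centralizer_cj, centralizer_cj, ← cj_inf, ← cj_inf, card_cj, card_cj]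
      exact hAb

end CfsgLib.Recognition.CIT
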