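import Cfsg.Agent.Lib.Recognition.CIT.Basic
import Cfsg.Agent.Lib.Recognition.CIT.Conj
import Cfsg.Agent.Lib.Involution.Dihedral
import Cfsg.Agent.Lib.LocalEven.StrongCore.CKernel

/-!
Centralisers of the inverted elements of odd order in a CIT group: abelian Hall TI subgroups.
-/

set_option autoImplicit false
set_option linter.unusedSectionVars false
set_option linter.style.haveILetI false

open Subgroup

namespace CfsgLib.Recognition.CIT

open CfsgLib.Recognition.PrimeOrders

variable {G : Type*} [Group G] [Finite G]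

/-- Nontrivial elements of odd order inverted by an involution. -/
def Inverted (x : G) : Prop :=
  Odd (orderOf x) ∧ x ≠ 1 ∧ ∃ u, orderOf u = 2 ∧ u * x * u⁻¹ = x⁻¹

/-- An involution normalising a subgroup of odd order inverts it. -/
theorem IsCIT.inverts_of_normalizing (H : IsCIT G) {A : Subgroup G} (hA : Odd (Nat.card A)) {s : G}
    (hs : orderOf s = 2) (hn : s ∈ normalizer (A : Set G)) : ∀ a ∈ A, s * a * s⁻¹ = a⁻¹ := by
  have hss : s * s = 1 := CfsgLib.Involution.Dihedral.mul_self hs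
  have hsi : s⁻¹ = s := CfsgLib.Involution.Dihedral.inv_eq hs
  let f : A → A := fun a => ⟨(a : G)⁻¹ * (s * a * s⁻¹),
    A.mul_mem (A.inv_mem a.2) (conj_mem_of_normalizer hn a.2)⟩
  have hf : Function.Injective f := by
    intro a b e
    have e' : (a : G)⁻¹ * (s * a * s⁻¹) = (b : G)⁻¹ * (s * b * s⁻¹) := congrArg Subtype.val e
    have h1 : s * ((b : G) * (a : G)⁻¹) * s⁻¹ = (b : G) * (a : G)⁻¹ := by
      calc s * ((b : G) * (a : G)⁻¹) * s⁻¹
          = (b : G) * ((b : G)⁻¹ * (s * b * s⁻¹)) * (s * a * s⁻¹)⁻¹ := by group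
        _ = (b : G) * (a : G)⁻¹ := by rw [← e']; group
    have h2 := eq_one_of_odd_of_pGroup (H s hs)
      (Subgroup.mem_centralizer_singleton_iff.2 (mul_inv_eq_iff_eq_mul.1 h1).symm)
      (Odd.of_dvd_nat hA (Subgroup.orderOf_dvd_natCard A (A.mul_mem b.2 (A.inv_mem a.2))))
    exact Subtype.ext (mul_inv_eq_one.1 h2).symm
  intro d hd
  obtain ⟨a, ha⟩ := Finite.surjective_of_injective hf ⟨d, hd⟩
  rw [show d = (a : G)⁻¹ * (s * a * s⁻¹) from (congrArg Subtype.val ha).symm]
  calc s * ((a : G)⁻¹ * (s * a * s⁻¹)) * s⁻¹ = s * (a : G)⁻¹ * s * a * (s * s)⁻¹ := by group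
    _ = ((a : G)⁻¹ * (s * a * s⁻¹))⁻¹ := by
        rw [hss, hsi, inv_one, mul_one, mul_inv_rev, mul_inv_rev, mul_inv_rev, inv_inv, hsi]; group

namespace Inverted

variable {x : G}

theorem odd_card (hx : Inverted x) (H : IsCIT G) :
    Odd (Nat.card ↥(centralizer ({x} : Set G))) := by
  by_contra hc
  haveI : Fact (Nat.Prime 2) := ⟨Nat.prime_two⟩
  obtain ⟨t, ht⟩ := exists_prime_orderOf_dvd_card' (G := ↥(centralizer ({x} : Set G))) 2
    (even_iff_two_dvd.1 (Nat.not_odd_iff_even.1 hc))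
  exact hx.2.1 (eq_one_of_odd_of_pGroup (H (t : G) (by rw [Subgroup.orderOf_coe, ht]))
    (Subgroup.mem_centralizer_singleton_iff.2 (Subgroup.mem_centralizer_singleton_iff.1 t.2).symm) hx.1)

theorem mem_normalizer {u : G} (hu : u * x * u⁻¹ = x⁻¹) (hu2 : orderOf u = 2) :
    u ∈ normalizer ((centralizer ({x} : Set G) : Subgroup G) : Set G) := by
  rw [mem_normalizer_iff_cj]
  refine Subgroup.eq_of_le_of_card_ge ?_ (card_cj _ _).ge
  rintro _ ⟨a, ha, rfl⟩
  replace ha := Subgroup.mem_centralizer_singleton_iff.1 ha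
  refine Subgroup.mem_centralizer_singleton_iff.2 ?_
  show u * a * u⁻¹ * x = x * (u * a * u⁻¹)
  have h1 : u⁻¹ * x⁻¹ * u = x := by rw [← hu]; group
  have h2 : u⁻¹ * x * u = x⁻¹ := by
    have := congrArg (·⁻¹) h1
    simpa [mul_assoc] using this
  calc u * a * u⁻¹ * x = u * (a * (u⁻¹ * x * u)) * u⁻¹ := by group
    _ = u * ((u⁻¹ * x * u) * a) * u⁻¹ := by
      rw [h2, (Commute.inv_right (show Commute a x from ha)).eq]
    _ = x * (u * a * u⁻¹) := by group

theorem inverts (hx : Inverted x) (H : IsCIT G) {u : G} (hu2 : orderOf u = 2)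
    (hu : u * x * u⁻¹ = x⁻¹) : ∀ a ∈ centralizer ({x} : Set G), u * a * u⁻¹ = a⁻¹ :=
  H.inverts_of_normalizing (hx.odd_card H) hu2 (mem_normalizer hu hu2)

theorem comm (hx : Inverted x) (H : IsCIT G) {a b : G} (ha : a ∈ centralizer ({x} : Set G))
    (hb : b ∈ centralizer ({x} : Set G)) : a * b = b * a := by
  obtain ⟨u, hu2, hu⟩ := hx.2.2
  have h := hx.inverts H hu2 hu
  have h1 : u * (a * b) * u⁻¹ = a⁻¹ * b⁻¹ := by rw [← h a ha, ← h b hb]; group
  rw [h _ (Subgroup.mul_mem _ ha hb), mul_inv_rev] at h1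
  have h2 := congrArg (·⁻¹) h1
  simpa using h2

theorem self_mem : x ∈ centralizer ({x} : Set G) := Subgroup.mem_centralizer_singleton_iff.2 rfl

theorem of_mem (hx : Inverted x) (H : IsCIT G) {y : G} (hy : y ∈ centralizer ({x} : Set G))
    (hy1 : y ≠ 1) : Inverted y := by
  obtain ⟨u, hu2, hu⟩ := hx.2.2
  exact ⟨Odd.of_dvd_nat (hx.odd_card H) (Subgroup.orderOf_dvd_natCard _ hy), hy1, u, hu2,
    hx.inverts H hu2 hu y hy⟩

theorem centralizer_eq (hx : Inverted x) (H : IsCIT G) {y : G}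
    (hy : y ∈ centralizer ({x} : Set G)) (hy1 : y ≠ 1) :
    centralizer ({y} : Set G) = centralizer ({x} : Set G) := by
  refine le_antisymm (fun a ha => ?_) fun a ha =>
    Subgroup.mem_centralizer_singleton_iff.2 (hx.comm H ha hy)
  exact Subgroup.mem_centralizer_singleton_iff.2 ((hx.of_mem H hy hy1).comm H ha
    (Subgroup.mem_centralizer_singleton_iff.2 (Subgroup.mem_centralizer_singleton_iff.1 hy).symm))

theorem exists_sylow_le (hx : Inverted x) (H : IsCIT G) {p : ℕ} [Fact p.Prime]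
    (hp : p ∣ Nat.card ↥(centralizer ({x} : Set G))) :
    ∃ P : Sylow p G, (P : Subgroup G) ≤ centralizer ({x} : Set G) ∧
      (P : Subgroup G) ≠ ⊥ := by
  obtain ⟨⟨y, hy⟩, hyo⟩ := exists_prime_orderOf_dvd_card' (G := ↥(centralizer ({x} : Set G))) p hp
  rw [Subgroup.orderOf_mk] at hyo
  have hy1 : y ≠ 1 := fun e => by
    rw [e, orderOf_one] at hyo
    exact (Fact.out : p.Prime).ne_one hyo.symm
  obtain ⟨P, hP⟩ := (IsPGroup.of_card (p := p) (n := 1)
    (show Nat.card (zpowers y) = p ^ 1 by rw [Nat.card_zpowers, hyo, pow_one])).exists_le_sylow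
  have hyP : y ∈ (P : Subgroup G) := hP (mem_zpowers y)
  haveI : Nontrivial ↥(P : Subgroup G) :=
    ⟨⟨⟨y, hyP⟩, 1, fun e => hy1 (congrArg Subtype.val e)⟩⟩
  haveI := P.isPGroup'.center_nontrivial
  obtain ⟨⟨z, hz⟩, hz1⟩ := exists_ne (1 : Subgroup.center ↥(P : Subgroup G))
  have hzy : (z : G) ∈ centralizer ({x} : Set G) := by
    rw [← hx.centralizer_eq H hy hy1]
    exact Subgroup.mem_centralizer_singleton_iff.2
      (congrArg Subtype.val (Subgroup.mem_center_iff.1 hz ⟨y, hyP⟩)).symm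
  have hz1' : (z : G) ≠ 1 := fun e => hz1 (Subtype.ext (Subtype.ext e))
  refine ⟨P, fun w hw => ?_, fun e => hy1 (Subgroup.mem_bot.1 (e ▸ hyP))⟩
  rw [← hx.centralizer_eq H hzy hz1']
  exact Subgroup.mem_centralizer_singleton_iff.2
    (congrArg Subtype.val (Subgroup.mem_center_iff.1 hz ⟨w, hw⟩))

theorem not_dvd_index (hx : Inverted x) (H : IsCIT G) {p : ℕ} [Fact p.Prime]
    (hp : p ∣ Nat.card ↥(centralizer ({x} : Set G))) :
    ¬ p ∣ (centralizer ({x} : Set G)).index := by
  obtain ⟨P, hP, -⟩ := hx.exists_sylow_le H hp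
  exact fun h => P.not_dvd_index (h.trans (Subgroup.index_dvd_of_le hP))

theorem conj_of_dvd (hx : Inverted x) (H : IsCIT G) {y : G} (hy : Inverted y) {p : ℕ} [Fact p.Prime]
    (hpx : p ∣ Nat.card ↥(centralizer ({x} : Set G)))
    (hpy : p ∣ Nat.card ↥(centralizer ({y} : Set G))) :
    ∃ g, centralizer ({y} : Set G) = PrimeOrders.cj g (centralizer ({x} : Set G)) := by
  obtain ⟨P, hP, hP1⟩ := hx.exists_sylow_le H hpx
  obtain ⟨Q, hQ, -⟩ := hy.exists_sylow_le H hpy
  obtain ⟨g, hg⟩ := MulAction.exists_smul_eq G P Q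
  have hPQ : PrimeOrders.cj g (P : Subgroup G) = (Q : Subgroup G) := by rw [← hg]; rfl
  obtain ⟨z, hz, hz1⟩ := exists_ne_one hP1
  refine ⟨g, ?_⟩
  have h1 : g * z * g⁻¹ ∈ centralizer ({y} : Set G) := hQ (hPQ ▸ conj_mem_cj hz)
  rw [← hy.centralizer_eq H h1 (fun e => hz1 (conj_eq_one_iff.1 e)),
    ← hx.centralizer_eq H (hP hz) hz1]
  ext a
  rw [mem_cj, Subgroup.mem_centralizer_singleton_iff, Subgroup.mem_centralizer_singleton_iff]
  constructor
  · intro e
    calc g⁻¹ * a * g * z = g⁻¹ * (a * (g * z * g⁻¹)) * g := by group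
      _ = z * (g⁻¹ * a * g) := by rw [e]; group
  · intro e
    calc a * (g * z * g⁻¹) = g * (g⁻¹ * a * g * z) * g⁻¹ := by group
      _ = g * z * g⁻¹ * a := by rw [e]; group

/-- A complement of the centraliser in its normaliser. -/
theorem exists_complement (hx : Inverted x) (H : IsCIT G) {u : G} (hu2 : orderOf u = 2)
    (hu : u * x * u⁻¹ = x⁻¹) :
    ∃ E : Subgroup G, E ≤ centralizer ({u} : Set G) ∧ u ∈ E ∧ (∀ s ∈ E, s * s = 1 → s = 1 ∨ s = u) ∧
      Nat.card ↥(normalizer ((centralizer ({x} : Set G) : Subgroup G) : Set G)) =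
        Nat.card ↥(centralizer ({x} : Set G)) * Nat.card E ∧
      Nat.card E ∣ Nat.card ↥(centralizer ({x} : Set G)) - 1 := by
  set A := centralizer ({x} : Set G) with hA
  have hodd : Odd (Nat.card A) := hx.odd_card H
  have hinv := hx.inverts H hu2 hu
  have huN : u ∈ normalizer (A : Set G) := mem_normalizer hu hu2
  have huu : u * u = 1 := CfsgLib.Involution.Dihedral.mul_self hu2
  have hui : u⁻¹ = u := CfsgLib.Involution.Dihedral.inv_eq hu2
  set E := normalizer (A : Set G) ⊓ centralizer ({u} : Set G) with hE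
  have hE2 : IsPGroup 2 E := (H u hu2).to_le inf_le_right
  have huE : u ∈ E := ⟨huN, Subgroup.mem_centralizer_singleton_iff.2 rfl⟩
  refine ⟨E, inf_le_right, huE, fun s hs hss => ?_, ?_, ?_⟩
  · by_contra hc
    push Not at hc
    have hs2 : orderOf s = 2 := orderOf_eq_prime (by rw [pow_two]; exact hss) hc.1
    have hsx := H.inverts_of_normalizing hodd hs2 hs.1 x self_mem
    have hsu : s * u ∈ A := Subgroup.mem_centralizer_singleton_iff.2 <| by
      have h1 : s * x⁻¹ * s⁻¹ = x := by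
        have := congrArg (·⁻¹) hsx
        simpa [mul_assoc] using this
      refine mul_inv_eq_iff_eq_mul.1 ?_
      calc s * u * x * (s * u)⁻¹ = s * (u * x * u⁻¹) * s⁻¹ := by group
        _ = x := by rw [hu, h1]
    have hsq : (s * u) ^ 2 = 1 := by
      have e : s * u = u * s := Subgroup.mem_centralizer_singleton_iff.1 hs.2
      calc (s * u) ^ 2 = s * (u * s) * u := by rw [pow_two]; group
        _ = (s * s) * (u * u) := by rw [← e]; group
        _ = 1 := by rw [hss, huu, one_mul]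
    have h1 := eq_one_of_odd_of_two (k := 1)
      (Odd.of_dvd_nat hodd (Subgroup.orderOf_dvd_natCard A hsu)) (by rwa [pow_one])
    exact hc.2 (by rw [mul_eq_one_iff_eq_inv.1 h1, hui])
  · have hAN : A ≤ normalizer (A : Set G) := Subgroup.le_normalizer
    let f : A × E → normalizer (A : Set G) := fun p =>
      ⟨(p.1 : G) * p.2, Subgroup.mul_mem _ (hAN p.1.2) p.2.2.1⟩
    rw [← Nat.card_prod]
    refine (Nat.card_eq_of_bijective f ⟨?_, ?_⟩).symm
    · rintro ⟨a, e⟩ ⟨a', e'⟩ h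
      have h' : (a : G) * e = a' * e' := congrArg Subtype.val h
      have h2 : (a' : G)⁻¹ * a = (e' : G) * (e : G)⁻¹ := by
        rw [eq_mul_inv_iff_mul_eq, mul_assoc, h', inv_mul_cancel_left]
      have h1 := eq_one_of_odd_of_pGroup hE2 (h2 ▸ E.mul_mem e'.2 (E.inv_mem e.2))
        (Odd.of_dvd_nat hodd (Subgroup.orderOf_dvd_natCard A (A.mul_mem (A.inv_mem a'.2) a.2)))
      rw [inv_mul_eq_one] at h1
      rw [← h1] at h'
      exact Prod.ext (Subtype.ext h1.symm) (Subtype.ext (mul_left_cancel h'))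
    · rintro ⟨m, hm⟩
      set a₀ := u * m * u⁻¹ * m⁻¹ with ha₀
      have ha₀A : a₀ ∈ A := by
        have hm' : m⁻¹ * x * m ∈ A := by
          have := conj_mem_of_normalizer ((normalizer (A : Set G)).inv_mem hm) (show x ∈ A from self_mem)
          rwa [inv_inv] at this
        have e1 := hinv _ hm'
        refine Subgroup.mem_centralizer_singleton_iff.2 (mul_inv_eq_iff_eq_mul.1 ?_)
        calc a₀ * x * a₀⁻¹ = u * (m * (u⁻¹ * (m⁻¹ * x * m) * u) * m⁻¹) * u⁻¹ := by rw [ha₀]; group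
          _ = u * (m * (u * (m⁻¹ * x * m) * u⁻¹) * m⁻¹) * u⁻¹ := by rw [hui]
          _ = u * x⁻¹ * u⁻¹ := by rw [e1]; group
          _ = x := by
              have := congrArg (·⁻¹) hu
              simpa [mul_assoc] using this
      obtain ⟨k, hk⟩ := hodd
      set c := a₀ ^ (k + 1) with hc
      have hcA : c ∈ A := A.pow_mem ha₀A _
      have hcc : c * c = a₀ := by
        rw [hc, ← pow_add, show k + 1 + (k + 1) = Nat.card A + 1 by omega, pow_succ,
          orderOf_dvd_iff_pow_eq_one.1 (Subgroup.orderOf_dvd_natCard A ha₀A), one_mul]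
      have hcm : c * m ∈ E := by
        refine ⟨Subgroup.mul_mem _ (hAN hcA) hm, Subgroup.mem_centralizer_singleton_iff.2 ?_⟩
        refine (mul_inv_eq_iff_eq_mul.1 ?_).symm
        calc u * (c * m) * u⁻¹ = (u * c * u⁻¹) * (u * m * u⁻¹ * m⁻¹) * m := by group
          _ = c⁻¹ * a₀ * m := by rw [hinv c hcA]
          _ = c * m := by rw [← hcc]; group
      exact ⟨(⟨c⁻¹, A.inv_mem hcA⟩, ⟨c * m, hcm⟩), Subtype.ext (inv_mul_cancel_left c m)⟩
  · refine CfsgLib.LocalEven.StrongCore.card_dvd_sub_one_of_fpf (fun e he => he.1)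
      fun m hm hm1 v hv hmv => ?_
    exact H.eq_one_of_commute hE2 hm hm1
      (Odd.of_dvd_nat hodd (Subgroup.orderOf_dvd_natCard A hv)) hmv.symm.eq

/-- The involutions inverting `x`. -/
theorem card_inverting (hx : Inverted x) (H : IsCIT G) :
    Nat.card {v : G // orderOf v = 2 ∧ v * x * v⁻¹ = x⁻¹} =
      Nat.card ↥(centralizer ({x} : Set G)) := by
  obtain ⟨u, hu2, hu⟩ := hx.2.2
  have huu : u * u = 1 := CfsgLib.Involution.Dihedral.mul_self hu2
  have hui : u⁻¹ = u := CfsgLib.Involution.Dihedral.inv_eq hu2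
  refine (Nat.card_eq_of_bijective (fun a : centralizer ({x} : Set G) => ?_) ?_).symm
  · refine ⟨u * a, ?_, ?_⟩
    · have h := hx.inverts H hu2 hu a a.2
      refine orderOf_eq_prime ?_ fun e => ?_
      · calc (u * (a : G)) ^ 2 = (u * a * u⁻¹) * (u * u) * (a : G) := by rw [pow_two]; group
          _ = 1 := by rw [h, huu, mul_one, inv_mul_cancel]
      · have hua : u ∈ centralizer ({x} : Set G) := by
          rw [mul_eq_one_iff_eq_inv.1 e]
          exact Subgroup.inv_mem _ a.2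
        have := Subgroup.orderOf_dvd_natCard _ hua
        rw [hu2] at this
        exact (Nat.not_even_iff_odd.2 (hx.odd_card H)) (even_iff_two_dvd.2 this)
    · calc u * (a : G) * x * (u * a)⁻¹ = u * ((a : G) * x * (a : G)⁻¹) * u⁻¹ := by group
        _ = x⁻¹ := by rw [Subgroup.mem_centralizer_singleton_iff.1 a.2, mul_inv_cancel_right, hu]
  · constructor
    · intro a b e
      exact Subtype.ext (mul_left_cancel (congrArg Subtype.val e))
    · rintro ⟨v, hv2, hv⟩
      refine ⟨⟨u⁻¹ * v, Subgroup.mem_centralizer_singleton_iff.2 (mul_inv_eq_iff_eq_mul.1 ?_)⟩,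
        Subtype.ext (mul_inv_cancel_left u v)⟩
      calc u⁻¹ * v * x * (u⁻¹ * v)⁻¹ = u⁻¹ * (v * x * v⁻¹) * u := by group
        _ = x := by rw [hv, ← hu]; group

/-- The conjugates of the centraliser cover the elements with the same centraliser order. -/
theorem card_class_mul (hx : Inverted x) (H : IsCIT G) :
    Nat.card {y : G // Inverted y ∧ Nat.card ↥(centralizer ({y} : Set G)) =
        Nat.card ↥(centralizer ({x} : Set G))} *
      Nat.card ↥(normalizer ((centralizer ({x} : Set G) : Subgroup G) : Set G)) =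
    (Nat.card ↥(centralizer ({x} : Set G)) - 1) * Nat.card G := by
  classical
  set A := centralizer ({x} : Set G) with hA
  set N := normalizer (A : Set G) with hN
  have hcj : ∀ (g : G) {a : G}, a ∈ A → a ≠ 1 →
      centralizer ({g * a * g⁻¹} : Set G) = PrimeOrders.cj g A := by
    intro g a ha ha1
    rw [show A = centralizer ({a} : Set G) from (hx.centralizer_eq H ha ha1).symm]
    ext y
    rw [mem_cj, Subgroup.mem_centralizer_singleton_iff, Subgroup.mem_centralizer_singleton_iff]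
    constructor
    · intro e
      calc g⁻¹ * y * g * a = g⁻¹ * (y * (g * a * g⁻¹)) * g := by group
        _ = a * (g⁻¹ * y * g) := by rw [e]; group
    · intro e
      calc y * (g * a * g⁻¹) = g * (g⁻¹ * y * g * a) * g⁻¹ := by group
        _ = g * a * g⁻¹ * y := by rw [e]; group
  have hmem : ∀ (g : G) {a : G}, a ∈ A → a ≠ 1 → Inverted (g * a * g⁻¹) ∧
      Nat.card ↥(centralizer ({g * a * g⁻¹} : Set G)) = Nat.card A := by
    intro g a ha ha1
    obtain ⟨ho, -, u, hu2, hu⟩ := hx.of_mem H ha ha1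
    refine ⟨⟨?_, fun e => ha1 (conj_eq_one_iff.1 e), g * u * g⁻¹, ?_, ?_⟩, by rw [hcj g ha ha1, card_cj]⟩
    · rw [show g * a * g⁻¹ = MulAut.conj g a from rfl, MulEquiv.orderOf_eq]; exact ho
    · rw [show g * u * g⁻¹ = MulAut.conj g u from rfl, MulEquiv.orderOf_eq]; exact hu2
    · calc g * u * g⁻¹ * (g * a * g⁻¹) * (g * u * g⁻¹)⁻¹ = g * (u * a * u⁻¹) * g⁻¹ := by group
        _ = (g * a * g⁻¹)⁻¹ := by rw [hu]; group
  have hA1 : Nat.card A - 1 = Nat.card {a : A // a ≠ 1} := by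
    haveI := Fintype.ofFinite A
    rw [Nat.card_eq_fintype_card (α := {a : A // a ≠ 1}), Fintype.card_subtype_compl,
      Fintype.card_subtype_eq, ← Nat.card_eq_fintype_card]
  suffices key : Nat.card {y : G // Inverted y ∧ Nat.card ↥(centralizer ({y} : Set G)) = Nat.card A} =
      Nat.card ({a : A // a ≠ 1} × (G ⧸ N)) by
    rw [key, hA1, ← Subgroup.card_mul_index N, Subgroup.index, Nat.card_prod]; ring
  refine (Nat.card_eq_of_bijective (fun p : {a : A // a ≠ 1} × (G ⧸ N) =>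
    ⟨p.2.out * (p.1.1 : G) * p.2.out⁻¹,
      hmem p.2.out p.1.1.2 fun e => p.1.2 (Subtype.ext e)⟩) ⟨?_, ?_⟩).symm
  · rintro ⟨a, q⟩ ⟨a', q'⟩ e
    have e' : q.out * (a.1 : G) * q.out⁻¹ = q'.out * (a'.1 : G) * q'.out⁻¹ := congrArg Subtype.val e
    have h1 := hcj q.out a.1.2 fun h => a.2 (Subtype.ext h)
    rw [e', hcj q'.out a'.1.2 fun h => a'.2 (Subtype.ext h)] at h1
    have hq : q = q' := by
      rw [← QuotientGroup.out_eq' q, ← QuotientGroup.out_eq' q', QuotientGroup.eq]
      show q.out⁻¹ * q'.out ∈ normalizer (A : Set G)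
      rw [mem_normalizer_iff_cj, ← cj_cj, h1, cj_inv_cj]
    subst hq
    exact Prod.ext (Subtype.ext (Subtype.ext (mul_left_cancel (mul_right_cancel e')))) rfl
  · rintro ⟨y, hy, hcard⟩
    haveI : Fact (Nat.minFac (Nat.card A)).Prime := ⟨Nat.minFac_prime fun e => hx.2.1
      (by simpa [e] using Subgroup.orderOf_dvd_natCard A (show x ∈ A from self_mem))⟩
    obtain ⟨g, hg⟩ := hx.conj_of_dvd H hy (Nat.minFac_dvd _) (hcard ▸ Nat.minFac_dvd _)
    obtain ⟨n, hn⟩ := QuotientGroup.mk_out_eq_mul N g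
    have hyA : (g * (n : G))⁻¹ * y * (g * n) ∈ A := by
      have h1 : y ∈ PrimeOrders.cj (g * (n : G)) A := by
        rw [← cj_cj, mem_normalizer_iff_cj.1 n.2, ← hg]
        exact self_mem
      exact mem_cj.1 h1
    refine ⟨(⟨⟨_, hyA⟩, fun e => hy.2.1 ?_⟩, (g : G ⧸ N)), Subtype.ext ?_⟩
    · have e' : (g * (n : G))⁻¹ * y * (g * n) = 1 := congrArg Subtype.val e
      calc y = (g * (n : G)) * ((g * (n : G))⁻¹ * y * (g * n)) * (g * (n : G))⁻¹ := by group
        _ = 1 := by rw [e']; group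
    · show ((g : G ⧸ N)).out * ((g * (n : G))⁻¹ * y * (g * n)) * ((g : G ⧸ N)).out⁻¹ = y
      rw [hn]; group

end Inverted

end CfsgLib.Recognition.CIT
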