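import Cfsg.Agent.Lib.Recognition.CIT.FourSylow
import Cfsg.Agent.Lib.Recognition.CIT.Inverted

/-!
Three and five divide centraliser orders of inverted elements.
-/

set_option autoImplicit false
set_option linter.unusedSectionVars false
set_option linter.style.haveILetI false

open Subgroup

namespace CfsgLib.Recognition.CIT

open CfsgLib.Recognition.PrimeOrders

variable {G : Type*} [Group G] [Finite G]

theorem divisors_960 : ∀ d ∈ Nat.divisors 960, d % 2 = 1 →
    ((5 ∣ d → 960 / d % 5 ≠ 1) ∧ (3 ∣ d → 960 / d % 3 = 1 → d = 15)) := by decide +kernel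

/-- An element of odd prime order with even normaliser is inverted. -/
theorem IsCIT.inverted_or (H : IsCIT G) {M : Subgroup G} (hM : Nat.card M = 960) {p : ℕ}
    [Fact p.Prime] (hp : p = 3 ∨ p = 5) {r : M} (hr : orderOf r = p) :
    Inverted (r : G) ∨ p = 3 ∧ Nat.card ↥(normalizer (zpowers r : Set M)) = 15 := by
  classical
  set R := zpowers r with hR
  set N := normalizer (R : Set M) with hN
  have hRcard : Nat.card R = p ^ 1 := by rw [Nat.card_zpowers, hr, pow_one]
  have hfac : p ^ 1 = p ^ (Nat.card M).factorization p := by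
    have hp' : p.Prime := Fact.out
    have h1 : (Nat.card M).factorization p = 1 := by
      rw [hM]
      rcases hp with rfl | rfl
      · rw [show 960 = 3 ^ 1 * 320 from rfl, Nat.factorization_mul (by norm_num) (by norm_num),
          Finsupp.add_apply, hp'.factorization_pow, Finsupp.single_eq_same,
          Nat.factorization_eq_zero_of_not_dvd (by norm_num)]
      · rw [show 960 = 5 ^ 1 * 192 from rfl, Nat.factorization_mul (by norm_num) (by norm_num),
          Finsupp.add_apply, hp'.factorization_pow, Finsupp.single_eq_same,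
          Nat.factorization_eq_zero_of_not_dvd (by norm_num)]
    rw [h1]
  let P : Sylow p M := Sylow.ofCard R (hRcard.trans hfac)
  have hmod : N.index % p = 1 := by
    have h : Nat.card (Sylow p M) = N.index := P.card_eq_index_normalizer
    have h2 : Nat.card (Sylow p M) ≡ 1 [MOD p] := card_sylow_modEq_one _ _
    rw [h] at h2
    rw [show 1 = 1 % p from (Nat.mod_eq_of_lt (Fact.out : p.Prime).one_lt).symm]
    exact h2
  have hmul : Nat.card N * N.index = 960 := by rw [Subgroup.card_mul_index, hM]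
  have hpN : p ∣ Nat.card N := by
    have := Subgroup.card_dvd_of_le (Subgroup.le_normalizer : R ≤ N)
    rwa [hRcard, pow_one] at this
  rcases Nat.even_or_odd (Nat.card N) with hev | hodd
  · left
    haveI : Fact (Nat.Prime 2) := ⟨Nat.prime_two⟩
    obtain ⟨⟨s, hsN⟩, hs⟩ := exists_prime_orderOf_dvd_card' (G := N) 2 (even_iff_two_dvd.1 hev)
    rw [Subgroup.orderOf_mk] at hs
    have hodd : Odd (orderOf (r : G)) := by
      rw [Subgroup.orderOf_coe, hr]
      rcases hp with rfl | rfl <;> decide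
    refine ⟨hodd, fun e => ?_, (s : G), by rw [Subgroup.orderOf_coe, hs], ?_⟩
    · replace e : r = 1 := Subtype.ext e
      rw [e, orderOf_one] at hr
      exact (Fact.out : p.Prime).ne_one hr.symm
    refine H.inverts_of_normalizing (A := zpowers (r : G)) (by rw [Nat.card_zpowers]; exact hodd)
      (by rw [Subgroup.orderOf_coe, hs]) ?_ _ (mem_zpowers _)
    rw [mem_normalizer_iff_cj]
    refine Subgroup.eq_of_le_of_card_ge ?_ (card_cj _ _).ge
    rintro _ ⟨_, ⟨i, rfl⟩, rfl⟩
    obtain ⟨j, hj⟩ := conj_mem_of_normalizer hsN (show r ^ i ∈ R from ⟨i, rfl⟩)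
    exact ⟨j, by simpa using congrArg Subtype.val hj⟩
  · have hd : Nat.card N ∈ Nat.divisors 960 :=
      Nat.mem_divisors.2 ⟨⟨N.index, hmul.symm⟩, by norm_num⟩
    have hidx : 960 / Nat.card N = N.index := by
      rw [← hmul, Nat.mul_div_cancel_left _ Nat.card_pos]
    obtain ⟨h5, h3⟩ := divisors_960 _ hd (Nat.odd_iff.1 hodd)
    rw [hidx] at h5 h3
    rcases hp with rfl | rfl
    · exact Or.inr ⟨rfl, h3 hpN hmod⟩
    · exact absurd hmod (h5 hpN)

namespace Shape

variable {V V' T : Subgroup G}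

theorem card_normalizer_module (P : Shape V V' T) (H : IsCIT G) (h4 : Nat.card ↥(V ⊓ V') = 4) :
    Nat.card ↥(normalizer (V : Set G)) = 960 := by
  rw [P.nat.card_normalizer H P.syl, P.self, P.inter, P.cardV, h4]

theorem exists_five (P : Shape V V' T) (H : IsCIT G) (h4 : Nat.card ↥(V ⊓ V') = 4) :
    ∃ r : G, Inverted r ∧ 5 ∣ Nat.card ↥(centralizer ({r} : Set G)) := by
  haveI : Fact (Nat.Prime 5) := ⟨Nat.prime_five⟩
  have hM := P.card_normalizer_module H h4
  obtain ⟨r, hr⟩ := exists_prime_orderOf_dvd_card' (G := normalizer (V : Set G)) 5 (by rw [hM]; norm_num)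
  refine ⟨r, (H.inverted_or hM (Or.inr rfl) hr).resolve_right (fun h => absurd h.1 (by norm_num)), ?_⟩
  rw [← hr, ← Subgroup.orderOf_coe]
  exact Subgroup.orderOf_dvd_natCard _ (Subgroup.mem_centralizer_singleton_iff.2 rfl)

theorem exists_three (P : Shape V V' T) (H : IsCIT G) (h4 : Nat.card ↥(V ⊓ V') = 4) :
    ∃ r : G, Inverted r ∧ 3 ∣ Nat.card ↥(centralizer ({r} : Set G)) := by
  classical
  haveI : Fact (Nat.Prime 3) := ⟨Nat.prime_three⟩
  haveI : Fact (Nat.Prime 5) := ⟨Nat.prime_five⟩
  have hM := P.card_normalizer_module H h4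
  obtain ⟨k, hk⟩ := exists_prime_orderOf_dvd_card' (G := normalizer (V : Set G)) 3 (by rw [hM]; norm_num)
  rcases H.inverted_or hM (Or.inl rfl) hk with h | ⟨-, h15⟩
  · refine ⟨k, h, ?_⟩
    rw [← hk, ← Subgroup.orderOf_coe]
    exact Subgroup.orderOf_dvd_natCard _ (Subgroup.mem_centralizer_singleton_iff.2 rfl)
  obtain ⟨⟨r, hrN⟩, hr⟩ := exists_prime_orderOf_dvd_card'
    (G := normalizer (zpowers k : Set ↥(normalizer (V : Set G)))) 5 (by rw [h15]; norm_num)
  rw [Subgroup.orderOf_mk] at hr
  -- an element of order five centralises the group of order three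
  obtain ⟨j, hj⟩ := conj_mem_of_normalizer hrN (mem_zpowers k)
  have hrk : r * k * r⁻¹ = k := by
    have h5 : r ^ 5 = 1 := hr ▸ pow_orderOf_eq_one r
    have hiter : ∀ n : ℕ, r ^ n * k * (r ^ n)⁻¹ = k ^ (j ^ n) := by
      intro n
      induction n with
      | zero => simp
      | succ n ih =>
        have e : r ^ (n + 1) * k * (r ^ (n + 1))⁻¹ = r ^ n * (r * k * r⁻¹) * (r ^ n)⁻¹ := by
          rw [pow_succ]; group
        rw [e, ← hj, pow_succ, zpow_mul, ← ih, conj_zpow]
    have e5 := hiter 5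
    rw [h5, one_mul, inv_one, mul_one] at e5
    have h3 : (3 : ℤ) ∣ j ^ 5 - 1 := by
      have := orderOf_dvd_iff_zpow_eq_one.2 (show k ^ (j ^ 5 - 1) = 1 by
        rw [zpow_sub, ← e5, zpow_one, mul_inv_cancel])
      rwa [hk] at this
    have hj3 : (3 : ℤ) ∣ j - 1 := by
      have hcase : j % 3 = 0 ∨ j % 3 = 1 ∨ j % 3 = 2 := by omega
      rcases hcase with e | e | e
      · exfalso
        obtain ⟨a, ha⟩ := Int.dvd_of_emod_eq_zero e
        have : (3 : ℤ) ∣ j ^ 5 := ⟨a * j ^ 4, by rw [← mul_assoc, ← ha]; ring⟩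
        omega
      · omega
      · exfalso
        have h : j ^ 5 % 3 = (2 : ℤ) ^ 5 % 3 := Int.ModEq.pow 5 (show j ≡ 2 [ZMOD 3] from e)
        norm_num at h
        omega
    rw [← hj]
    show k ^ j = k
    obtain ⟨a, ha⟩ := hj3
    rw [show j = (orderOf k : ℤ) * a + 1 by rw [hk]; push_cast; omega, zpow_add, zpow_mul,
      zpow_natCast, pow_orderOf_eq_one, one_zpow, one_mul, zpow_one]
  have hr' : Inverted (r : G) :=
    (H.inverted_or hM (Or.inr rfl) hr).resolve_right (fun h => absurd h.1 (by norm_num))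
  refine ⟨r, hr', ?_⟩
  rw [← hk, ← Subgroup.orderOf_coe]
  exact Subgroup.orderOf_dvd_natCard _ (Subgroup.mem_centralizer_singleton_iff.2
    (congrArg Subtype.val (mul_inv_eq_iff_eq_mul.1 hrk)).symm)

end Shape

end CfsgLib.Recognition.CIT
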