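import Cfsg.Agent.Lib.Recognition.CIT.FourArith
import Cfsg.Agent.Lib.Recognition.CIT.FourInvolutions
import Cfsg.Agent.Lib.Recognition.CIT.FourLocal

/-!
The order of a simple CIT group with a pair of natural modules of order sixteen.
-/

set_option autoImplicit false
set_option linter.unusedSectionVars false
set_option linter.style.haveILetI false

open Subgroup

namespace CfsgLib.Recognition.CIT

open CfsgLib.Recognition.PrimeOrders

variable {G : Type*} [Group G] [Finite G]

namespace Shape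

variable {V V' T : Subgroup G}

/-- The complement has order 2, 4 or 8. -/
theorem complement_order (P : Shape V V' T) (H : IsCIT G) (hS : IsSyl T ⊤)
    (h4 : Nat.card ↥(V ⊓ V') = 4) {z : G} (hz : z ∈ V ⊓ V') (hz1 : z ≠ 1) {u : G} (hu : orderOf u = 2)
    {E : Subgroup G} (hEu : E ≤ centralizer ({u} : Set G)) (huE : u ∈ E)
    (hone : ∀ s ∈ E, s * s = 1 → s = 1 ∨ s = u) :
    Nat.card E = 2 ∨ Nat.card E = 4 ∨ Nat.card E = 8 := by
  classical
  haveI : Fact (Nat.Prime 2) := ⟨Nat.prime_two⟩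
  obtain ⟨j, hj⟩ := IsPGroup.iff_card.1 ((H u hu).to_le hEu)
  have hj1 : 1 ≤ j := by
    by_contra h0
    rw [show j = 0 by omega, pow_zero, Subgroup.card_eq_one] at hj
    rw [hj, Subgroup.mem_bot] at huE
    rw [huE, orderOf_one] at hu; omega
  obtain ⟨g, hg⟩ := P.exists_conj_eq H hS hz hz1 hu
  set E' := PrimeOrders.cj g⁻¹ E with hE'
  have hE'T : E' ≤ T := fun a ha => by
    rw [← P.centralizer_inter H hS hz hz1, Subgroup.mem_centralizer_singleton_iff]
    have ha' : g * a * g⁻¹ ∈ E := by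
      have := mem_cj.1 ha
      rwa [inv_inv] at this
    have e := Subgroup.mem_centralizer_singleton_iff.1 (hEu ha')
    calc a * z = g⁻¹ * ((g * a * g⁻¹) * (g * z * g⁻¹)) * g := by group
      _ = z * a := by rw [hg, e, ← hg]; group
  have hle : Nat.card ↥(E' ⊓ V) ≤ 2 := by
    have hsub : (↑(E' ⊓ V) : Set G) ⊆ {1, g⁻¹ * u * g} := by
      intro a ha
      obtain ⟨ha1, ha2⟩ := Subgroup.mem_inf.1 ha
      have ha' : g * a * g⁻¹ ∈ E := by
        have := mem_cj.1 ha1
        rwa [inv_inv] at this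
      rcases hone _ ha' (by
        calc g * a * g⁻¹ * (g * a * g⁻¹) = g * (a * a) * g⁻¹ := by group
          _ = 1 := by rw [P.nat.elem a ha2]; group) with e | e
      · exact Or.inl (conj_eq_one_iff.1 e)
      · refine Or.inr ?_
        rw [Set.mem_singleton_iff, ← e]; group
    have := Set.ncard_le_ncard hsub (Set.toFinite _)
    rw [← Nat.card_coe_set_eq] at this
    exact this.trans ((Set.ncard_insert_le _ _).trans (by rw [Set.ncard_singleton]))
  have h1 := card_mul_le E' V
  have h2 : Nat.card ↥(E' ⊔ V) ≤ 64 := by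
    have := Subgroup.card_le_of_le (sup_le hE'T P.le : E' ⊔ V ≤ T)
    rwa [P.cardT, h4] at this
  rw [P.cardV, h4, card_cj, hj] at h1
  have h3 := Nat.mul_le_mul h2 hle
  have h8 : 2 ^ j ≤ 2 ^ 3 := by omega
  have hj3 : j ≤ 3 := (Nat.pow_le_pow_iff_right (by norm_num)).1 h8
  rw [hj]
  interval_cases j <;> simp

/-- The data of a class. -/
theorem class_data (P : Shape V V' T) (H : IsCIT G) (hS : IsSyl T ⊤)
    (h4 : Nat.card ↥(V ⊓ V') = 4) {z : G} (hz : z ∈ V ⊓ V') (hz1 : z ≠ 1) {x : G} (hx : Inverted x) :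
    ∃ e, (e = 2 ∨ e = 4 ∨ e = 8) ∧ e ∣ Nat.card ↥(centralizer ({x} : Set G)) - 1 ∧
      Nat.card {y : G // Inverted y ∧ Nat.card ↥(centralizer ({y} : Set G)) =
        Nat.card ↥(centralizer ({x} : Set G))} * (Nat.card ↥(centralizer ({x} : Set G)) * e) =
      (Nat.card ↥(centralizer ({x} : Set G)) - 1) * Nat.card G := by
  obtain ⟨u, hu2, hu⟩ := hx.2.2
  obtain ⟨E, hEu, huE, hone, hN, hdvd⟩ := hx.exists_complement H hu2 hu
  exact ⟨_, P.complement_order H hS h4 hz hz1 hu2 hEu huE hone, hdvd, hN ▸ hx.card_class_mul H⟩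

/-- The order. -/
theorem card_eq_four (P : Shape V V' T) (H : IsCIT G) (hS : IsSyl T ⊤)
    (h4 : Nat.card ↥(V ⊓ V') = 4) : Nat.card G = 20160 := by
  classical
  haveI : Fact (Nat.Prime 2) := ⟨Nat.prime_two⟩
  haveI := Fintype.ofFinite G
  obtain ⟨z, hz, hz1⟩ := exists_ne_one (A := V ⊓ V') (fun e => by
    rw [e, Subgroup.card_bot] at h4; omega)
  set b := T.index with hb
  have hT64 : Nat.card T = 64 := by rw [P.cardT, h4]
  have hG : Nat.card G = 64 * b := by rw [← Subgroup.card_mul_index T, hT64]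
  have hbpos : 0 < b := Nat.pos_of_ne_zero Subgroup.index_ne_zero_of_finite
  have hbodd : ¬ 2 ∣ b := by
    obtain ⟨S, hTS⟩ := hS.2.1.exists_le_sylow
    rw [hb, Subgroup.eq_of_le_of_card_ge hTS (hS.2.2 _ le_top S.isPGroup')]
    exact S.not_dvd_index
  -- involutions
  set I : Finset G := Finset.univ.filter fun t => orderOf t = 2 with hI
  have hIcard : I.card = b := by
    rw [hb, ← P.card_involutions H hS hz hz1, Nat.card_eq_fintype_card, Fintype.card_subtype]
  have hImem : ∀ {t}, t ∈ I ↔ orderOf t = 2 := by simp [hI]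
  have hsub : ∀ (α : G → Prop), (Finset.univ.filter α).card = Nat.card {v // α v} := fun α => by
    rw [Nat.card_eq_fintype_card, Fintype.card_subtype]
  have hord4 : ∀ {y t : G}, orderOf t = 2 → y * y = t → orderOf y = 4 := by
    intro y t ht e
    refine orderOf_eq_prime_pow (p := 2) (n := 1) ?_ ?_
    · rw [pow_one, pow_two, e]
      intro h; rw [h, orderOf_one] at ht; omega
    · rw [show 2 ^ (1 + 1) = 2 * 2 from rfl, pow_mul, pow_two y, e, pow_two,
        CfsgLib.Involution.Dihedral.mul_self ht]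
  have hsq4 : ∀ {y : G}, orderOf y = 4 → orderOf (y * y) = 2 := by
    intro y e
    rw [← pow_two, orderOf_pow' _ (by norm_num), e]
    rfl
  -- the inverted elements
  set X : Finset G := Finset.univ.filter Inverted with hX
  set A : G → ℕ := fun x => Nat.card ↥(centralizer ({x} : Set G)) with hA
  have hXmem : ∀ {x}, x ∈ X ↔ Inverted x := by simp [hX]
  -- pairs of involutions
  set Q : Finset (G × G) := I ×ˢ I with hQ
  let κ : G × G → Fin 4 := fun p => if p.1 * p.2 = 1 then 0 else
    if orderOf (p.1 * p.2) = 2 then 1 else if orderOf (p.1 * p.2) = 4 then 2 else 3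
  have hQmem : ∀ {p : G × G}, p ∈ Q ↔ orderOf p.1 = 2 ∧ orderOf p.2 = 2 := by
    intro p; simp [hQ, hImem]
  have k0 : ∀ p, κ p = 0 ↔ p.1 * p.2 = 1 := by
    intro p; simp only [κ]; split_ifs <;> simp_all
  have k1 : ∀ p, κ p = 1 ↔ orderOf (p.1 * p.2) = 2 := by
    intro p; simp only [κ]; split_ifs with a b c <;> simp_all
  have k2 : ∀ p, κ p = 2 ↔ orderOf (p.1 * p.2) = 4 := by
    intro p; simp only [κ]; split_ifs with a b c <;> simp_all
  have k3 : ∀ p, κ p = 3 ↔ p.1 * p.2 ≠ 1 ∧ orderOf (p.1 * p.2) ≠ 2 ∧ orderOf (p.1 * p.2) ≠ 4 := by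
    intro p; simp only [κ]; split_ifs <;> simp_all
  have hQ0 : (Q.filter fun p => κ p = 0).card = b := by
    rw [← hIcard]
    refine Finset.card_bij' (fun p _ => p.1) (fun t _ => (t, t)) ?_ ?_ ?_ ?_
    · intro p hp; exact hImem.2 (hQmem.1 (Finset.mem_filter.1 hp).1).1
    · intro t ht
      exact Finset.mem_filter.2 ⟨hQmem.2 ⟨hImem.1 ht, hImem.1 ht⟩,
        (k0 _).2 (CfsgLib.Involution.Dihedral.mul_self (hImem.1 ht))⟩
    · rintro ⟨u, v⟩ hp
      obtain ⟨hp1, hp2⟩ := Finset.mem_filter.1 hp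
      refine Prod.ext rfl ?_
      show u = v
      exact (CfsgLib.Involution.Dihedral.inv_eq (show orderOf u = 2 from (hQmem.1 hp1).1)).symm.trans
        (inv_eq_of_mul_eq_one_right ((k0 _).1 hp2))
    · intro t _; rfl
  have hQ1 : (Q.filter fun p => κ p = 1).card = 26 * b := by
    rw [Finset.card_eq_sum_card_fiberwise (f := Prod.fst) (t := I)
      (fun p hp => hImem.2 (hQmem.1 (Finset.mem_filter.1 hp).1).1), ← hIcard, mul_comm,
      ← smul_eq_mul, ← Finset.sum_const]
    refine Finset.sum_congr rfl fun t ht => ?_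
    obtain ⟨g, hg⟩ := P.exists_conj_eq H hS hz hz1 (hImem.1 ht)
    rw [← P.card_commuting H hS h4 hz hz1, ← card_subtype_conj g (β := fun v =>
      orderOf v = 2 ∧ orderOf (t * v) = 2) (fun v => by
        rw [← hg, show g * z * g⁻¹ * (g * v * g⁻¹) = g * (z * v) * g⁻¹ by group,
          show g * v * g⁻¹ = MulAut.conj g v from rfl,
          show g * (z * v) * g⁻¹ = MulAut.conj g (z * v) from rfl,
          MulEquiv.orderOf_eq, MulEquiv.orderOf_eq]), ← hsub]
    refine Finset.card_bij' (fun p _ => p.2) (fun v _ => (t, v)) ?_ ?_ ?_ ?_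
    · rintro ⟨u, v⟩ hp
      simp only [Finset.mem_filter, hQmem, k1] at hp
      obtain ⟨⟨⟨-, h2⟩, h3⟩, rfl⟩ := hp
      simp only [Finset.mem_filter, Finset.mem_univ, true_and]
      exact ⟨h2, h3⟩
    · intro v hv
      simp only [Finset.mem_filter, Finset.mem_univ, true_and] at hv
      simp only [Finset.mem_filter, hQmem, k1]
      exact ⟨⟨⟨hImem.1 ht, hv.1⟩, hv.2⟩, trivial⟩
    · rintro ⟨u, v⟩ hp
      simp only [Finset.mem_filter] at hp
      exact Prod.ext hp.2.symm rfl
    · intro v _; rfl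
  have hQ2 : (Q.filter fun p => κ p = 2).card = 96 * b := by
    rw [Finset.card_eq_sum_card_fiberwise (f := fun p => p.1 * p.2 * (p.1 * p.2)) (t := I)
      (fun p hp => hImem.2 (hsq4 ((k2 p).1 (Finset.mem_filter.1 hp).2))), ← hIcard, mul_comm,
      ← smul_eq_mul, ← Finset.sum_const]
    refine Finset.sum_congr rfl fun t ht => ?_
    obtain ⟨g, hg⟩ := P.exists_conj_eq H hS hz hz1 (hImem.1 ht)
    rw [← P.card_square_pairs H hS h4 hz hz1]
    have e := Nat.card_congr (Equiv.subtypeEquiv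
      ((MulAut.conj g).toEquiv.prodCongr (MulAut.conj g).toEquiv)
      (p := fun p : G × G => orderOf p.1 = 2 ∧ orderOf p.2 = 2 ∧ p.1 * p.2 * (p.1 * p.2) = z)
      (q := fun p : G × G => orderOf p.1 = 2 ∧ orderOf p.2 = 2 ∧ p.1 * p.2 * (p.1 * p.2) = t) (fun p => by
        show _ ↔ orderOf (MulAut.conj g p.1) = 2 ∧ orderOf (MulAut.conj g p.2) = 2 ∧
          MulAut.conj g p.1 * MulAut.conj g p.2 * (MulAut.conj g p.1 * MulAut.conj g p.2) = t
        rw [← map_mul, ← map_mul, MulEquiv.orderOf_eq, MulEquiv.orderOf_eq,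
          show t = MulAut.conj g z from hg.symm, EmbeddingLike.apply_eq_iff_eq]))
    rw [e, Nat.card_eq_fintype_card, Fintype.card_subtype]
    congr 1
    ext p
    simp only [Finset.mem_filter, Finset.mem_univ, true_and, hQmem, k2]
    constructor
    · rintro ⟨⟨⟨h1, h2⟩, -⟩, h3⟩; exact ⟨h1, h2, h3⟩
    · rintro ⟨h1, h2, h3⟩; exact ⟨⟨⟨h1, h2⟩, hord4 (hImem.1 ht) h3⟩, h3⟩
  have hQ3 : (Q.filter fun p => κ p = 3).card = ∑ x ∈ X, A x := by
    rw [Finset.card_eq_sum_card_fiberwise (f := fun p => p.1 * p.2) (t := X) (fun p hp => by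
      obtain ⟨hp1, hp2⟩ := Finset.mem_filter.1 hp
      obtain ⟨h1, h2⟩ := hQmem.1 hp1
      obtain ⟨a, b', c⟩ := (k3 p).1 hp2
      refine hXmem.2 ⟨((P.order_cases H hS _).resolve_right (not_or.2 ⟨b', c⟩)), a, p.1, h1, ?_⟩
      rw [mul_inv_rev, CfsgLib.Involution.Dihedral.inv_eq h1, CfsgLib.Involution.Dihedral.inv_eq h2,
        ← mul_assoc, CfsgLib.Involution.Dihedral.mul_self h1, one_mul])]
    refine Finset.sum_congr rfl fun x hx => ?_
    have hx' := hXmem.1 hx
    show _ = Nat.card _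
    rw [← hx'.card_inverting H, ← hsub]
    refine Finset.card_bij' (fun p _ => p.1) (fun u _ => (u, u * x)) ?_ ?_ ?_ ?_
    · rintro ⟨u, v⟩ hp
      simp only [Finset.mem_filter, hQmem] at hp
      obtain ⟨⟨⟨h1, h2⟩, -⟩, h3⟩ := hp
      simp only [Finset.mem_filter, Finset.mem_univ, true_and]
      refine ⟨h1, ?_⟩
      rw [← h3]
      show u * (u * v) * u⁻¹ = (u * v)⁻¹
      rw [mul_inv_rev, CfsgLib.Involution.Dihedral.inv_eq h1, CfsgLib.Involution.Dihedral.inv_eq h2,
        ← mul_assoc, CfsgLib.Involution.Dihedral.mul_self h1, one_mul]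
    · intro u hu
      simp only [Finset.mem_filter, Finset.mem_univ, true_and] at hu
      obtain ⟨h1, h2⟩ := hu
      have huu := CfsgLib.Involution.Dihedral.mul_self h1
      simp only [Finset.mem_filter, hQmem]
      refine ⟨⟨⟨h1, orderOf_eq_prime ?_ fun e => ?_⟩, ?_⟩, ?_⟩
      · calc (u * x) ^ 2 = (u * x * u⁻¹) * (u * u) * x := by rw [pow_two]; group
          _ = 1 := by rw [h2, huu, mul_one, inv_mul_cancel]
      · have := hx'.1
        rw [← inv_eq_of_mul_eq_one_right e, orderOf_inv, h1] at this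
        exact absurd this (by decide)
      · rw [k3]
        simp only [← mul_assoc, huu, one_mul]
        refine ⟨hx'.2.1, fun e => ?_, fun e => ?_⟩ <;>
          · have := hx'.1
            rw [e] at this
            exact absurd this (by decide)
      · rw [← mul_assoc, huu, one_mul]
    · rintro ⟨u, v⟩ hp
      simp only [Finset.mem_filter, hQmem] at hp
      refine Prod.ext rfl ?_
      show u * x = v
      rw [← hp.2, ← mul_assoc, CfsgLib.Involution.Dihedral.mul_self hp.1.1.1, one_mul]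
    · intro u _; rfl
  have hpairs : b * b = 123 * b + ∑ x ∈ X, A x := by
    have h := Finset.card_eq_sum_card_fiberwise (f := κ) (s := Q) (t := Finset.univ)
      (fun p _ => Finset.mem_univ _)
    rw [Fin.sum_univ_four, hQ0, hQ1, hQ2, hQ3, Finset.card_product, hIcard] at h
    omega
  -- elements
  set Y : Finset G := Finset.univ.filter fun y => orderOf y = 4 with hY
  have hYcard : 12 * b ≤ Y.card := by
    rw [Finset.card_eq_sum_card_fiberwise (f := fun y => y * y) (t := I)
      (fun y hy => hImem.2 (hsq4 (Finset.mem_filter.1 hy).2)), ← hIcard, mul_comm, ← smul_eq_mul,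
      ← Finset.sum_const]
    refine Finset.sum_le_sum fun t ht => ?_
    obtain ⟨g, hg⟩ := P.exists_conj_eq H hS hz hz1 (hImem.1 ht)
    refine (P.le_card_roots H h4 hz).trans (le_of_eq ?_)
    rw [← card_subtype_conj g (β := fun y => y * y = t) (fun v => by
      rw [← hg, show g * v * g⁻¹ * (g * v * g⁻¹) = g * (v * v) * g⁻¹ by group]
      exact ⟨fun e => mul_left_cancel (mul_right_cancel e), fun e => by rw [e]⟩), ← hsub]
    congr 1
    ext y
    simp only [Finset.mem_filter, Finset.mem_univ, true_and, hY]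
    exact ⟨fun e => ⟨hord4 (hImem.1 ht) e, e⟩, fun e => e.2⟩
  have helem : 1 + b + 12 * b + X.card ≤ 64 * b := by
    have hd1 : Disjoint I Y := Finset.disjoint_left.2 fun a ha ha' => by
      have h1 := hImem.1 ha
      rw [(Finset.mem_filter.1 ha').2] at h1; omega
    have hd2 : Disjoint (I ∪ Y) X := Finset.disjoint_left.2 fun a ha ha' => by
      have h1 := (hXmem.1 ha').1
      rcases Finset.mem_union.1 ha with h | h
      · rw [hImem.1 h] at h1; exact absurd h1 (by decide)
      · rw [(Finset.mem_filter.1 h).2] at h1; exact absurd h1 (by decide)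
    have hd3 : (1 : G) ∉ I ∪ Y ∪ X := by
      simp only [Finset.mem_union, hImem, hXmem, hY, Finset.mem_filter, Finset.mem_univ, true_and,
        orderOf_one]
      rintro ((h | h) | h)
      · omega
      · omega
      · exact h.2.1 rfl
    have h := Finset.card_le_univ (insert (1 : G) (I ∪ Y ∪ X))
    rw [Finset.card_insert_of_notMem hd3, Finset.card_union_of_disjoint hd2,
      Finset.card_union_of_disjoint hd1, hIcard, ← Nat.card_eq_fintype_card, hG] at h
    omega
  -- classes
  set S : Finset ℕ := X.image A with hSdef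
  set f : ℕ → ℕ := fun n => (X.filter fun x => A x = n).card with hf
  have hdata : ∀ n ∈ S, ∃ e, (e = 2 ∨ e = 4 ∨ e = 8) ∧ e ∣ n - 1 ∧
      f n * (n * e) = (n - 1) * (64 * b) := by
    intro n hn
    obtain ⟨x, hx, rfl⟩ := Finset.mem_image.1 hn
    obtain ⟨e, he, hd, heq⟩ := P.class_data H hS h4 hz hz1 (hXmem.1 hx)
    refine ⟨e, he, hd, ?_⟩
    rw [← hG, ← heq]
    congr 1
    rw [← hsub]
    show (X.filter fun y => A y = A x).card = _
    congr 1
    ext y
    simp [hX, hA]
  choose! e he hed hef using hdata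
  have hodd : ∀ n ∈ S, Odd n := fun n hn => by
    obtain ⟨x, hx, rfl⟩ := Finset.mem_image.1 hn
    exact (hXmem.1 hx).odd_card H
  have hn3 : ∀ n ∈ S, 3 ≤ n := fun n hn => by
    obtain ⟨x, hx, rfl⟩ := Finset.mem_image.1 hn
    obtain ⟨k, hk⟩ := hodd _ hn
    have h1 : 1 < A x := by
      have hx1 := hXmem.1 hx
      exact Finite.one_lt_card_iff_nontrivial.2 ⟨⟨⟨x, Inverted.self_mem⟩, 1,
        fun e => hx1.2.1 (congrArg Subtype.val e)⟩⟩
    omega
  have hfn : ∀ n ∈ S, n * f n = 64 / e n * (n - 1) * b := by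
    intro n hn
    have he0 : 0 < e n := by rcases he n hn with h | h | h <;> omega
    have h64 : e n * (64 / e n) = 64 := by rcases he n hn with h | h | h <;> rw [h]
    refine Nat.eq_of_mul_eq_mul_right he0 ?_
    calc n * f n * e n = f n * (n * e n) := by ring
      _ = (n - 1) * (64 * b) := hef n hn
      _ = 64 / e n * (n - 1) * b * e n := by
        conv_lhs => rw [← h64]
        ring
  have hsumA : ∑ x ∈ X, A x = b * ∑ n ∈ S, 64 / e n * (n - 1) := by
    rw [← Finset.sum_fiberwise_of_maps_to (g := A) (t := S) (fun x hx => Finset.mem_image_of_mem A hx),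
      Finset.mul_sum]
    refine Finset.sum_congr rfl fun n hn => ?_
    rw [Finset.sum_congr rfl (fun x hx => (Finset.mem_filter.1 hx).2), Finset.sum_const, smul_eq_mul,
      mul_comm]
    show n * f n = _
    rw [hfn n hn, mul_comm b]
  have hXsum : X.card = ∑ n ∈ S, f n :=
    Finset.card_eq_sum_card_fiberwise fun x hx => Finset.mem_image_of_mem A hx
  have h315 : b = 315 := by
    refine FourArith.arith S (fun n => 64 / e n) f hbpos ?_ hodd hn3 ?_ ?_ ?_ ?_ hfn ?_ ?_ ?_
    · intro n hn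
      rcases he n hn with h | h | h <;> simp [h]
    · intro m hm n hn hmn
      by_contra hc
      obtain ⟨p, hp, hpm, hpn⟩ := Nat.Prime.not_coprime_iff_dvd.1 hc
      obtain ⟨x, hx, rfl⟩ := Finset.mem_image.1 hm
      obtain ⟨y, hy, rfl⟩ := Finset.mem_image.1 hn
      haveI : Fact p.Prime := ⟨hp⟩
      obtain ⟨g, hg⟩ := (hXmem.1 hx).conj_of_dvd H (hXmem.1 hy) hpm hpn
      refine hmn ?_
      show Nat.card _ = Nat.card _
      rw [hg, card_cj]
    · intro n hn
      obtain ⟨x, hx, rfl⟩ := Finset.mem_image.1 hn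
      have h1 : A x ∣ 64 * b := hG ▸ Subgroup.card_subgroup_dvd_card _
      refine Nat.Coprime.dvd_of_dvd_mul_left ?_ h1
      rw [show 64 = 2 ^ 6 from rfl]
      exact Nat.Coprime.pow_right _ (Nat.coprime_two_right.2 (hodd _ hn))
    · intro n hn
      obtain ⟨a, ha⟩ := hed n hn
      refine ⟨a, ?_⟩
      show 64 / e n * (n - 1) = 64 * a
      rw [ha, ← mul_assoc]
      rcases he n hn with h | h | h <;> norm_num [h]
    · have h := hpairs
      rw [hsumA, mul_comm 123 b, ← mul_add] at h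
      exact Nat.eq_of_mul_eq_mul_left hbpos h
    · rw [← hXsum]; omega
    · obtain ⟨r, hr, hd⟩ := P.exists_three H h4
      exact ⟨A r, Finset.mem_image_of_mem A (hXmem.2 hr), hd⟩
    · obtain ⟨r, hr, hd⟩ := P.exists_five H h4
      exact ⟨A r, Finset.mem_image_of_mem A (hXmem.2 hr), hd⟩
  rw [hG, h315]

end Shape

end CfsgLib.Recognition.CIT
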