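import Cfsg.Agent.Lib.Recognition.CIT.FourSylow
import Cfsg.Agent.Lib.SmallGroups.M21

/-!
A simple CIT group of order 20160 with a pair of natural modules of order sixteen is `PSL(3, 4)`:
the conjugates of the two modules are the points and lines of a plane of order four.
-/

set_option autoImplicit false
set_option linter.unusedSectionVars false
set_option linter.style.haveILetI false

open Subgroup
open scoped Pointwise

namespace CfsgLib.Recognition.CIT

open CfsgLib.Recognition.PrimeOrders

open CfsgLib.SmallGroups in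
/-- A simple group of order 20160 acting faithfully on a plane of order four is `PSL(3, 4)`. -/
theorem nonempty_equiv_of_plane {α : Type*} [Fintype α] [DecidableEq α] (hα : Fintype.card α = 21)
    {L : Set (Finset α)} (hL : Cfsg.IsSteinerSystem 2 5 L) {A : Type*} [Group A] [IsSimpleGroup A]
    (hA : Nat.card A = 20160) (a : A →* Cfsg.setSystemAut L) (ha : Function.Injective a)
    (F : Type) [Field F] [Fintype F] (hF : Fintype.card F = 4) :
    Nonempty (A ≃* Matrix.ProjectiveSpecialLinearGroup (Fin 3) F) := by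
  classical
  have hP := M21.card_points hF
  have : Finite (M21.P3 F) := Nat.finite_of_card_ne_zero (by rw [hP]; norm_num)
  have : Fintype (M21.P3 F) := Fintype.ofFinite _
  rw [Nat.card_eq_fintype_card] at hP
  obtain ⟨E, hE⟩ := Sporadic.PlaneFour.unique hP hα (M21.isSteiner_proj hF) hL
  let act : Matrix.ProjectiveSpecialLinearGroup (Fin 3) F →* Equiv.Perm α :=
    E.permCongrHom.toMonoidHom.comp (MulAction.toPermHom _ (M21.P3 F))
  have hact : ∀ g, act g ∈ Cfsg.setSystemAut L := fun g => by
    set σ := MulAction.toPermHom (Matrix.ProjectiveSpecialLinearGroup (Fin 3) F) (M21.P3 F) g with hσdef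
    have hσ : σ • M21.projLines F = M21.projLines F := M21.smul_projLines g
    have key : ∀ l : Finset (M21.P3 F), act g • l.image E = (σ • l).image E := fun l => by
      show (l.image E).image (act g) = (l.image σ).image E
      rw [Finset.image_image, Finset.image_image]
      congr 1
      funext x
      simp [act, hσdef]
    show act g • L = L
    conv_lhs => rw [← hE]
    conv_rhs => rw [← hE, ← hσ]
    rw [← Set.image_smul, ← Set.image_smul, Set.image_image, Set.image_image]
    exact Set.image_congr' key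
  have hsimple := CfsgLib.Classical.psl_fin_isSimpleGroup (F := F) (k := 3) (by norm_num) (by norm_num)
  let b : Matrix.ProjectiveSpecialLinearGroup (Fin 3) F →* Cfsg.setSystemAut L :=
    act.codRestrict _ hact
  have hb : Function.Injective b := by
    rw [← MonoidHom.ker_eq_bot_iff]
    refine (b.normal_ker).eq_bot_or_eq_top.resolve_right fun htop => ?_
    obtain ⟨x, y, hxy⟩ := Fintype.exists_pair_of_one_lt_card (show 1 < Fintype.card (M21.P3 F) by omega)
    obtain ⟨g, hg⟩ := MulAction.exists_smul_eq (Matrix.SpecialLinearGroup (Fin 3) F) x y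
    have h1 : b (QuotientGroup.mk g) = 1 := MonoidHom.mem_ker.1 (htop ▸ Subgroup.mem_top _)
    have h2 : act (QuotientGroup.mk g) (E x) = E x := by
      rw [show act (QuotientGroup.mk g) = 1 from congrArg Subtype.val h1]; rfl
    simp only [act, MonoidHom.comp_apply, MulEquiv.coe_toMonoidHom, Equiv.permCongrHom_coe,
      Equiv.permCongr_apply, Equiv.symm_apply_apply, MulAction.toPermHom_apply, MulAction.toPerm_apply,
      EmbeddingLike.apply_eq_iff_eq] at h2
    rw [Matrix.ProjectiveSpecialLinearGroup.smul_proj_mk, hg] at h2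
    exact hxy h2.symm
  have hle := M21.card_aut_le hα hL
  have ea : Nat.card a.range = 20160 := by
    rw [← Nat.card_congr (MonoidHom.ofInjective ha).toEquiv, hA]
  have eb : Nat.card b.range = 20160 := by
    rw [← Nat.card_congr (MonoidHom.ofInjective hb).toEquiv, M21.card_psl F hF]
  have : IsSimpleGroup b.range := MathieuSimple.isSimpleGroup_congr' (MonoidHom.ofInjective hb)
  exact ⟨(MonoidHom.ofInjective ha).trans
    ((MulEquiv.subgroupCongr (M21.eq_of_simple hle _ _ eb ea).symm).trans
      (MonoidHom.ofInjective hb).symm)⟩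

variable {G : Type*} [Group G] [Finite G]

namespace Shape

variable {V V' T : Subgroup G}

theorem card_normalizer_four (P : Shape V V' T) (H : IsCIT G) (h4 : Nat.card ↥(V ⊓ V') = 4) :
    Nat.card ↥(normalizer (V : Set G)) = 960 := by
  rw [P.nat.card_normalizer H P.syl, P.inter, h4, P.self, P.cardV, h4]

theorem inf_normalizer (P : Shape V V' T) (H : IsCIT G) :
    normalizer (V : Set G) ⊓ normalizer (T : Set G) =
      normalizer (V : Set G) ⊓ normalizer (V' : Set G) := by
  refine le_antisymm (fun x hx => ⟨hx.1, P.normalizer_other H hx.1 hx.2⟩) fun x hx => ⟨hx.1, ?_⟩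
  show x ∈ normalizer (T : Set G)
  rw [mem_normalizer_iff_cj]
  refine Subgroup.eq_of_le_of_card_ge ?_ (card_cj x T).ge
  rintro _ ⟨t, ht, rfl⟩
  obtain ⟨v, hv, v', hv', rfl⟩ := P.gen t ht
  rw [map_mul]
  exact T.mul_mem (P.le (conj_mem_of_normalizer hx.1 hv)) (P.le' (conj_mem_of_normalizer hx.2 hv'))

/-- The stabiliser of a flag has index five in the stabiliser of a point. -/
theorem card_flag (P : Shape V V' T) (H : IsCIT G) (h4 : Nat.card ↥(V ⊓ V') = 4) :
    Nat.card ↥(normalizer (V : Set G) ⊓ normalizer (V' : Set G)) = 192 := by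
  classical
  haveI : Fact (Nat.Prime 2) := ⟨Nat.prime_two⟩
  set M := normalizer (V : Set G) with hM
  have hMc : Nat.card M = 960 := P.card_normalizer_four H h4
  have hT : Nat.card T = 64 := by rw [P.cardT, h4]
  -- a Sylow subgroup of `M`
  let S₀ : Subgroup M := T.subgroupOf M
  have hS₀c : Nat.card S₀ = 64 := by
    rw [Nat.card_congr (Subgroup.subgroupOfEquivOfLe P.syl.1).toEquiv, hT]
  obtain ⟨S, hS⟩ := (P.syl.2.1.comap_of_injective M.subtype M.subtype_injective).exists_le_sylow
  have hSeq : (S : Subgroup M) = S₀ := by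
    refine (Subgroup.eq_of_le_of_card_ge hS ?_).symm
    have := P.syl.2.2 ((S : Subgroup M).map M.subtype) (Subgroup.map_subtype_le _) (S.isPGroup'.map _)
    rw [Subgroup.card_map_of_injective M.subtype_injective] at this
    exact this.trans (hT.trans hS₀c.symm).le
  have hN : (normalizer (S₀ : Set M)).map M.subtype = M ⊓ normalizer (T : Set G) := by
    ext x
    constructor
    · rintro ⟨y, hy, rfl⟩
      refine ⟨y.2, ?_⟩
      show (y : G) ∈ normalizer (T : Set G)
      rw [Subgroup.mem_normalizer_iff]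
      intro t
      constructor
      · intro ht
        exact (Subgroup.mem_normalizer_iff.1 hy ⟨t, P.syl.1 ht⟩).1 ht
      · intro ht
        have htM : t ∈ M := by
          have := M.mul_mem (M.mul_mem (M.inv_mem y.2) (P.syl.1 ht)) y.2
          simpa [mul_assoc] using this
        exact (Subgroup.mem_normalizer_iff.1 hy ⟨t, htM⟩).2 ht
    · rintro ⟨hxM, hxT⟩
      refine ⟨⟨x, hxM⟩, ?_, rfl⟩
      rw [SetLike.mem_coe, Subgroup.mem_normalizer_iff]
      intro t
      exact Subgroup.mem_normalizer_iff.1 hxT t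
  have hidx : Nat.card (Sylow 2 M) = (normalizer (S₀ : Set M)).index := by
    rw [S.card_eq_index_normalizer, ← hSeq]
    rfl
  have hmul := (normalizer (S₀ : Set M)).card_mul_index
  rw [← hidx, hMc] at hmul
  have hcard : Nat.card ↥(M ⊓ normalizer (T : Set G)) = Nat.card ↥(normalizer (S₀ : Set M)) := by
    rw [← hN, Subgroup.card_map_of_injective M.subtype_injective]
  rw [← P.inf_normalizer H, hcard]
  -- the number of Sylow subgroups
  obtain ⟨k, hkM, hkT, hk⟩ := P.exists_k H h4
  have h3 : 3 ∣ Nat.card ↥(normalizer (S₀ : Set M)) := by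
    rw [← hcard, ← hk]
    exact Subgroup.orderOf_dvd_natCard _ ⟨hkM, hkT⟩
  have h64 : 64 ∣ Nat.card ↥(normalizer (S₀ : Set M)) := by
    rw [← hS₀c]
    exact Subgroup.card_dvd_of_le Subgroup.le_normalizer
  have h192 : 192 ∣ Nat.card ↥(normalizer (S₀ : Set M)) :=
    Nat.Coprime.mul_dvd_of_dvd_of_dvd (by norm_num : Nat.Coprime 3 64) h3 h64
  have hne : Nat.card ↥(normalizer (S₀ : Set M)) ≠ 960 := by
    intro e
    have htop : normalizer (S₀ : Set M) = ⊤ := Subgroup.eq_top_of_card_eq _ (e.trans hMc.symm)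
    have hle : T ≤ V := by
      refine le_trans ?_ (P.self.le)
      refine le_trans (le_O2 P.syl.1 (fun m hm t ht => ?_) P.syl.2.1) P.nat.red
      exact (Subgroup.mem_normalizer_iff.1 (htop ▸ Subgroup.mem_top (⟨m, hm⟩ : M))
        ⟨t, P.syl.1 ht⟩).1 ht
    have := Subgroup.card_le_of_le hle
    rw [hT, P.cardV, h4] at this
    omega
  obtain ⟨c, hc⟩ := h192
  rw [hc] at hmul hne ⊢
  have hc5 : c ∣ 5 := ⟨Nat.card (Sylow 2 M),
    (Nat.eq_of_mul_eq_mul_left (show 0 < 192 by norm_num) (by rw [← mul_assoc, hmul])).symm⟩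
  rcases (Nat.dvd_prime (by norm_num)).1 hc5 with rfl | rfl <;> omega

/-- The two modules are not conjugate. -/
theorem cj_ne (P : Shape V V' T) (H : IsCIT G) (hS : IsSyl T ⊤) (g : G) :
    PrimeOrders.cj g V ≠ V' := by
  intro hg
  -- move the conjugating element into the normaliser of `T`
  have h1 : IsSyl (PrimeOrders.cj g T) (normalizer (V' : Set G)) := by
    have := P.syl.cj g
    rwa [← normalizer_cj, hg] at this
  obtain ⟨n, hn, hle⟩ := P.syl'.conj_le h1.1 h1.2.1
  rw [cj_cj] at hle
  have hT : n * g ∈ normalizer (T : Set G) :=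
    mem_normalizer_iff_cj.2 (Subgroup.eq_of_le_of_card_ge hle (card_cj _ T).ge)
  have hV : PrimeOrders.cj (n * g) V = V' := by rw [← cj_cj, hg, mem_normalizer_iff_cj.1 hn]
  set x := n * g with hx
  have hxV : x ∉ normalizer (V : Set G) := fun h =>
    P.ne (hV.symm.trans (mem_normalizer_iff_cj.1 h))
  obtain ⟨h2, h3⟩ := P.cj_module H hT hxV
  have hxx : x * x ∈ normalizer (V : Set G) := mem_normalizer_iff_cj.2 (by rw [← cj_cj, h2, h3])
  obtain ⟨k, m, hm, hkm⟩ := Nat.exists_eq_two_pow_mul_odd (orderOf_pos x).ne'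
  obtain ⟨j, rfl⟩ := hm
  set y := x ^ (2 * j + 1) with hy
  have hyV : y ∉ normalizer (V : Set G) := by
    intro h
    refine hxV ?_
    rw [hy, pow_succ, pow_mul, pow_two] at h
    exact (mul_mem_cancel_left (Subgroup.pow_mem _ hxx j)).1 h
  have hyT : y ∈ normalizer (T : Set G) := Subgroup.pow_mem _ hT _
  have hy2 : IsPGroup 2 (zpowers y) := by
    refine CfsgLib.Involution.Basic.isPGroup_zpowers (k := k) ?_
    rw [hy, orderOf_pow' _ (by omega), hkm, Nat.gcd_eq_right (Dvd.intro_left _ rfl),
      Nat.mul_div_cancel _ (by omega)]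
  refine hyV (P.syl.1 ?_)
  have hsup : IsPGroup 2 ↥(zpowers y ⊔ T) :=
    hy2.to_sup_of_normal_right' P.syl.2.1 (zpowers_le.2 hyT)
  have e : T = zpowers y ⊔ T :=
    Subgroup.eq_of_le_of_card_ge le_sup_right (hS.2.2 _ le_top hsup)
  rw [e]
  exact (le_sup_left : zpowers y ≤ zpowers y ⊔ T) (mem_zpowers y)

/-- Two lines through a point meet nowhere else. -/
theorem no_triangle (P : Shape V V' T) (H : IsCIT G) (hS : IsSyl T ⊤) {l m : G} (hl : l ∈ normalizer (V' : Set G)) (hm : m ∈ normalizer (V : Set G))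
    (hm' : m ∉ normalizer (V' : Set G))
    (h : PrimeOrders.cj m V' ≤ normalizer (PrimeOrders.cj l V : Set G)) :
    l ∈ normalizer (V : Set G) := by
  have hself : V' ≤ normalizer (PrimeOrders.cj l V : Set G) := by
    rw [normalizer_cj]
    calc V' = PrimeOrders.cj l V' := (mem_normalizer_iff_cj.1 hl).symm
      _ ≤ _ := cj_mono (P.le'.trans P.syl.1)
  -- `V` is generated by two conjugates of the intersection
  set W := V ⊓ V' with hW
  have hdis : W ⊓ PrimeOrders.cj m W = ⊥ := by
    rw [Subgroup.eq_bot_iff_forall]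
    intro u hu
    by_contra hu1
    have huW : u ∈ V ⊓ centralizer (T : Set G) := by rw [P.inter]; exact hu.1
    have hu' : m⁻¹ * u * m ∈ V ⊓ centralizer (T : Set G) := by rw [P.inter]; exact mem_cj.1 hu.2
    obtain ⟨x, hxV, hxT, hxe⟩ := P.nat.torus_trans H P.syl huW hu1 hu' (fun e => hu1 (by
      calc u = m * (m⁻¹ * u * m) * m⁻¹ := by group
        _ = 1 := by rw [e]; group))
    have hmx : m * x ∈ centralizer ({u} : Set G) := by
      rw [Subgroup.mem_centralizer_singleton_iff]
      calc m * x * u = m * (x * u * x⁻¹) * x := by group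
        _ = u * (m * x) := by rw [hxe]; group
    have hu2 : orderOf u = 2 :=
      orderOf_eq_prime (by rw [pow_two]; exact P.nat.elem u huW.1) hu1
    have hTle : T ≤ normalizer (V : Set G) ⊓ centralizer ({u} : Set G) := le_inf P.syl.1 fun t ht =>
      Subgroup.mem_centralizer_singleton_iff.2 (P.W_fixed hu.1 ht)
    have e := Subgroup.eq_of_le_of_card_ge hTle
      (P.syl.2.2 _ inf_le_left ((H u hu2).to_le inf_le_right))
    have hmxT : m * x ∈ T := e.ge ⟨(normalizer (V : Set G)).mul_mem hm hxV, hmx⟩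
    refine hm' (P.normalizer_other H hm ?_)
    have := (normalizer (T : Set G)).mul_mem (Subgroup.le_normalizer hmxT)
      ((normalizer (T : Set G)).inv_mem hxT)
    rwa [mul_inv_cancel_right] at this
  have hgen : W ⊔ PrimeOrders.cj m W = V := by
    have hle : W ⊔ PrimeOrders.cj m W ≤ V :=
      sup_le inf_le_left ((cj_mono inf_le_left).trans (mem_normalizer_iff_cj.1 hm).le)
    refine Subgroup.eq_of_le_of_card_ge hle ?_
    have := card_mul_le W (PrimeOrders.cj m W)
    rw [hdis, Subgroup.card_bot, mul_one, card_cj] at this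
    exact P.cardV.le.trans this
  have hVle : V ≤ normalizer (PrimeOrders.cj l V : Set G) :=
    hgen.ge.trans (sup_le (inf_le_right.trans hself) ((cj_mono inf_le_right).trans h))
  have hVM : PrimeOrders.cj l⁻¹ V ≤ normalizer (V : Set G) := by
    have := cj_mono (g := l⁻¹) hVle
    rwa [normalizer_cj, cj_inv_cj] at this
  obtain ⟨n, hn, hnT⟩ := P.syl.conj_le hVM (P.nat.cj l⁻¹).elem.isPGroup
  rw [cj_cj] at hnT
  rcases P.elem_le H (P.nat.cj (n * l⁻¹)).elem hnT with e | e
  · have hnl : n * l⁻¹ ∈ normalizer (V : Set G) :=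
      mem_normalizer_iff_cj.2 (Subgroup.eq_of_le_of_card_ge e (card_cj _ V).ge)
    have := (normalizer (V : Set G)).mul_mem ((normalizer (V : Set G)).inv_mem hnl) hn
    simpa using this
  · exact absurd (Subgroup.eq_of_le_of_card_ge e (by rw [card_cj, P.cardV, P.cardV']))
      (P.cj_ne H hS _)

/-- The configuration of order 20160 is `PSL(3, 4)`. -/
theorem psl_three_four [IsSimpleGroup G] (P : Shape V V' T) (H : IsCIT G)
    (hna : ¬ IsMulCommutative G) (h4 : Nat.card ↥(V ⊓ V') = 4) (hG : Nat.card G = 20160) :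
    ∃ (F : Type) (_ : Field F) (_ : Fintype F), Fintype.card F = 4 ∧
      Nonempty (G ≃* Matrix.ProjectiveSpecialLinearGroup (Fin 3) F) := by
  classical
  have hS := P.sylow_four H hna h4
  set M := normalizer (V : Set G) with hM
  set L := normalizer (V' : Set G) with hL
  have h4' : Nat.card ↥(V' ⊓ V) = 4 := by rw [inf_comm, h4]
  have hMc : Nat.card M = 960 := P.card_normalizer_four H h4
  have hLc : Nat.card L = 960 := P.symm.card_normalizer_four H h4'
  have hBc : Nat.card ↥(M ⊓ L) = 192 := P.card_flag H h4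
  have hidx : ∀ K : Subgroup G, Nat.card K = 960 → K.index = 21 := fun K hK => by
    have := K.card_mul_index
    rw [hK, hG] at this
    omega
  -- the points and the lines
  let X := G ⧸ M
  haveI : Fintype X := Fintype.ofFinite _
  haveI : Fintype (G ⧸ L) := Fintype.ofFinite _
  haveI : Fintype G := Fintype.ofFinite _
  have hX : Fintype.card X = 21 := by rw [← Nat.card_eq_fintype_card]; exact hidx M hMc
  have hY : Fintype.card (G ⧸ L) = 21 := by rw [← Nat.card_eq_fintype_card]; exact hidx L hLc
  let B : Finset X := Finset.univ.image fun l : L => ((l : G) : X)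
  have hB : B.card = 5 := by
    set D := M.subgroupOf L with hD
    have hDc : Nat.card D = 192 := by
      rw [← hBc]
      exact Nat.card_congr
        { toFun := fun x => ⟨((x : L) : G), x.2, x.1.2⟩
          invFun := fun x => ⟨⟨x.1, x.2.2⟩, x.2.1⟩
          left_inv := fun _ => rfl
          right_inv := fun _ => rfl }
    have hDi : Nat.card (L ⧸ D) = 5 := by
      have := D.card_mul_index
      rw [hDc, hLc] at this
      show D.index = 5
      omega
    let f : L ⧸ D → X := Quotient.lift (fun l : L => ((l : G) : X))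
      fun l l' e => QuotientGroup.eq.2 (Subgroup.mem_subgroupOf.1 (QuotientGroup.leftRel_apply.1 e))
    have hf : Function.Injective f := by
      intro p q e
      induction p using QuotientGroup.induction_on with
      | _ l =>
      induction q using QuotientGroup.induction_on with
      | _ l' =>
      exact QuotientGroup.eq.2 (Subgroup.mem_subgroupOf.2 (QuotientGroup.eq.1 e))
    haveI := Fintype.ofFinite (L ⧸ D)
    have e : B = Finset.univ.image f := by
      ext z
      simp only [B, Finset.mem_image, Finset.mem_univ, true_and]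
      constructor
      · rintro ⟨l, rfl⟩
        exact ⟨(l : L ⧸ D), rfl⟩
      · rintro ⟨p, rfl⟩
        induction p using QuotientGroup.induction_on with
        | _ l => exact ⟨l, rfl⟩
    rw [e, Finset.card_image_of_injective _ hf, Finset.card_univ, ← Nat.card_eq_fintype_card, hDi]
  have hblk : ∀ (g : G) (l : L), g • B = (g * l) • B := by
    intro g l
    have hl : (l : G) • B = B := by
      refine Finset.eq_of_subset_of_card_le ?_ (by rw [Finset.card_smul_finset])
      intro z hz
      obtain ⟨w, hw, rfl⟩ := Finset.mem_smul_finset.1 hz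
      obtain ⟨l', -, rfl⟩ := Finset.mem_image.1 hw
      exact Finset.mem_image.2 ⟨l * l', Finset.mem_univ _, rfl⟩
    rw [mul_smul, hl]
  let lines : Set (Finset X) := Set.range fun g : G => g • B
  -- a line through the base point
  have hthrough : ∀ g : G, ((1 : G) : X) ∈ g • B → ∃ l : L, g * l ∈ M := by
    intro g hg
    obtain ⟨w, hw, e⟩ := Finset.mem_smul_finset.1 hg
    obtain ⟨l, -, rfl⟩ := Finset.mem_image.1 hw
    rw [MulAction.Quotient.smul_coe, smul_eq_mul, QuotientGroup.eq, mul_one] at e
    exact ⟨l, (Subgroup.inv_mem_iff M).1 e⟩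
  -- two lines meet in at most one point
  have hmeet : ∀ g g' : G, ∀ x y : X, x ≠ y → x ∈ g • B → y ∈ g • B → x ∈ g' • B → y ∈ g' • B →
      g⁻¹ * g' ∈ L := by
    intro g g' x y hxy hx hy hx' hy'
    obtain ⟨a, rfl⟩ := QuotientGroup.mk_surjective x
    have hmem : ∀ (z : X) (c : G), z ∈ c • B → a⁻¹ • z ∈ (a⁻¹ * c) • B := fun z c h => by
      rw [mul_smul]; exact Finset.smul_mem_smul_finset h
    have ha : a⁻¹ • ((a : G) : X) = ((1 : G) : X) := by
      rw [MulAction.Quotient.smul_coe, smul_eq_mul, inv_mul_cancel]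
    obtain ⟨k₁, hm₁⟩ := hthrough (a⁻¹ * g) (ha ▸ hmem _ _ hx)
    obtain ⟨k₂, hm₂⟩ := hthrough (a⁻¹ * g') (ha ▸ hmem _ _ hx')
    set m₁ := a⁻¹ * g * k₁ with hm₁'
    set m₂ := a⁻¹ * g' * k₂ with hm₂'
    have hy₁ : a⁻¹ • y ∈ m₁ • B := hblk _ k₁ ▸ hmem _ _ hy
    have hy₂ : a⁻¹ • y ∈ m₂ • B := hblk _ k₂ ▸ hmem _ _ hy'
    obtain ⟨w₁, hw₁, f₁⟩ := Finset.mem_smul_finset.1 hy₁
    obtain ⟨l₁, -, rfl⟩ := Finset.mem_image.1 hw₁
    obtain ⟨w₂, hw₂, f₂⟩ := Finset.mem_smul_finset.1 hy₂
    obtain ⟨l₂, -, rfl⟩ := Finset.mem_image.1 hw₂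
    have hlast : m₁⁻¹ * m₂ ∈ L := by
      by_contra hL'
      set m := m₁⁻¹ * m₂ with hm
      have hmM : m ∈ M := M.mul_mem (M.inv_mem hm₁) hm₂
      have hq : (l₁ : G)⁻¹ * (m * l₂) ∈ M := by
        have := f₁.trans f₂.symm
        rw [MulAction.Quotient.smul_coe, MulAction.Quotient.smul_coe, smul_eq_mul, smul_eq_mul,
          QuotientGroup.eq] at this
        rw [hm]
        simpa [mul_assoc] using this
      have hle : PrimeOrders.cj m V' ≤ normalizer (PrimeOrders.cj (l₁ : G) V : Set G) := by
        have e : PrimeOrders.cj (l₁ : G) V = PrimeOrders.cj (m * l₂) V := by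
          nth_rewrite 1 [← mem_normalizer_iff_cj.1 hq]
          rw [cj_cj, mul_inv_cancel_left]
        rw [e, ← cj_cj m, normalizer_cj m]
        refine cj_mono ?_
        rw [normalizer_cj]
        calc V' = PrimeOrders.cj (l₂ : G) V' := (mem_normalizer_iff_cj.1 l₂.2).symm
          _ ≤ _ := cj_mono (P.le'.trans P.syl.1)
      have hl₁ := P.no_triangle H hS l₁.2 hmM hL' hle
      refine hxy ?_
      have hfix : a⁻¹ • y = ((1 : G) : X) := by
        rw [← f₁, MulAction.Quotient.smul_coe, smul_eq_mul, QuotientGroup.eq, mul_one]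
        exact M.inv_mem (M.mul_mem hm₁ hl₁)
      exact (smul_left_cancel (a⁻¹) (ha.trans hfix.symm))
    have e : g⁻¹ * g' = (k₁ : G) * (m₁⁻¹ * m₂) * (k₂ : G)⁻¹ := by rw [hm₁', hm₂']; group
    rw [e]
    exact L.mul_mem (L.mul_mem k₁.2 hlast) (L.inv_mem k₂.2)
  -- the lines through pairs
  have hlines : Cfsg.IsSteinerSystem 2 5 lines := by
    refine ⟨?_, fun s hs => ?_⟩
    · rintro _ ⟨g, rfl⟩
      rw [Finset.card_smul_finset, hB]
    let I := Σ q : G ⧸ L, ↥((Quotient.out q • B).powersetCard 2)
    let f : I → ↥((Finset.univ : Finset X).powersetCard 2) := fun i =>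
      ⟨i.2.1, Finset.powersetCard_mono (Finset.subset_univ _) i.2.2⟩
    have hf : Function.Injective f := by
      rintro ⟨q, ⟨t, ht⟩⟩ ⟨q', ⟨t', ht'⟩⟩ e
      obtain rfl : t = t' := congrArg Subtype.val e
      obtain ⟨h1, h2⟩ := Finset.mem_powersetCard.1 ht
      obtain ⟨x, y, hxy, rfl⟩ := Finset.card_eq_two.1 h2
      have h1' := (Finset.mem_powersetCard.1 ht').1
      have := hmeet q.out q'.out x y hxy (h1 (by simp)) (h1 (by simp)) (h1' (by simp)) (h1' (by simp))
      obtain rfl : q = q' := by
        rw [← QuotientGroup.out_eq' q, ← QuotientGroup.out_eq' q']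
        exact QuotientGroup.eq.2 this
      rfl
    have hcI : Fintype.card I = 210 := by
      simp only [I, Fintype.card_sigma, Fintype.card_coe, Finset.card_powersetCard,
        Finset.card_smul_finset, hB, Finset.sum_const, Finset.card_univ, hY]
      rfl
    have hcP : Fintype.card ↥((Finset.univ : Finset X).powersetCard 2) = 210 := by
      rw [Fintype.card_coe, Finset.card_powersetCard, Finset.card_univ, hX]
      rfl
    have hbij := (Fintype.bijective_iff_injective_and_card f).2 ⟨hf, hcI.trans hcP.symm⟩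
    obtain ⟨⟨q, t, ht⟩, e⟩ := hbij.2 ⟨s, Finset.mem_powersetCard.2 ⟨Finset.subset_univ _, hs⟩⟩
    obtain rfl : t = s := congrArg Subtype.val e
    have hts : t ⊆ q.out • B := (Finset.mem_powersetCard.1 ht).1
    refine ⟨q.out • B, ⟨⟨q.out, rfl⟩, hts⟩, ?_⟩
    rintro _ ⟨⟨g, rfl⟩, hg⟩
    obtain ⟨x, y, hxy, rfl⟩ := Finset.card_eq_two.1 hs
    have := hmeet q.out g x y hxy (hts (by simp)) (hts (by simp)) (hg (by simp)) (hg (by simp))
    show g • B = q.out • B
    rw [hblk q.out ⟨_, this⟩]
    simp
  -- the action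
  let act : G →* Equiv.Perm X := MulAction.toPermHom G X
  have hact : ∀ g, act g ∈ Cfsg.setSystemAut lines := fun g => by
    refine MulAction.mem_stabilizer_set.2 fun l => ?_
    have e : ∀ l : Finset X, act g • l = g • l := fun l => rfl
    rw [e]
    constructor
    · rintro ⟨c, hc⟩
      exact ⟨g⁻¹ * c, by show (g⁻¹ * c) • B = l; rw [mul_smul, show c • B = g • l from hc, inv_smul_smul]⟩
    · rintro ⟨c, rfl⟩
      exact ⟨g * c, mul_smul g c B⟩
  let a : G →* Cfsg.setSystemAut lines := act.codRestrict _ hact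
  have ha : Function.Injective a := by
    rw [← MonoidHom.ker_eq_bot_iff]
    refine a.normal_ker.eq_bot_or_eq_top.resolve_right fun htop => ?_
    have hMtop : M = ⊤ := eq_top_iff.2 fun g _ => by
      have h1 : a g = 1 := MonoidHom.mem_ker.1 (htop ▸ Subgroup.mem_top g)
      have h2 : g • ((1 : G) : X) = ((1 : G) : X) :=
        congrArg (fun σ : Equiv.Perm X => σ ((1 : G) : X)) (congrArg Subtype.val h1)
      rw [MulAction.Quotient.smul_coe, smul_eq_mul, mul_one, QuotientGroup.eq, mul_one] at h2
      exact (Subgroup.inv_mem_iff M).1 h2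
    rw [hMtop, Subgroup.card_top, hG] at hMc
    omega
  letI := Fintype.ofFinite (GaloisField 2 2)
  refine ⟨GaloisField 2 2, inferInstance, inferInstance, ?_, ?_⟩
  · rw [← Nat.card_eq_fintype_card, GaloisField.card 2 2 (by norm_num)]
    norm_num
  · exact nonempty_equiv_of_plane hX hlines hG a ha (GaloisField 2 2)
      (by rw [← Nat.card_eq_fintype_card, GaloisField.card 2 2 (by norm_num)]; norm_num)

end Shape

end CfsgLib.Recognition.CIT
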