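import Cfsg.Agent.Lib.Recognition.CIT.Global
import Cfsg.Agent.Lib.Recognition.CIT.Dihedral
import Cfsg.Agent.Lib.Recognition.CIT.FourCount
import Cfsg.Agent.Lib.Recognition.CIT.Plane
import Cfsg.Agent.Lib.Recognition.CIT.Embedded2
import Cfsg.Agent.Lib.Recognition.PrimePowerSimple.Main
import Cfsg.Agent.Lib.KnownB.SuzukiSylow

/-!
The classification of the simple groups in which involution centralisers are 2-groups.
-/

set_option autoImplicit false
set_option linter.unusedSectionVars false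
set_option linter.style.haveILetI false

open Subgroup

namespace CfsgLib.Recognition.CIT

open CfsgLib.Recognition.PrimeOrders

universe u

variable {G : Type u} [Group G] [Finite G]

/-- A simple CIT group is `PSL(2, q)`, `PSL(3, 4)` or a Suzuki group. -/
theorem IsCIT.classification [IsSimpleGroup G] (H : IsCIT G) (hna : ¬ IsMulCommutative G) :
    CfsgLib.Recognition.PrimePowerSimple.CITList G := by
  classical
  rcases H.dichotomy hna (CfsgLib.Involution.SelfCentNoncyclic.two_dvd_card hna) with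
    ⟨V, V', T, hV, hV', hne, hT, hT'⟩ | ⟨D, hD, hD1, hH⟩
  · have P := H.shape hV hV' hne hT hT'
    have hW2 : 2 ≤ Nat.card ↥(V ⊓ V') := by
      by_contra hlt
      have h1 : Nat.card ↥(V ⊓ V') = 1 := by
        have : 0 < Nat.card ↥(V ⊓ V') := Nat.card_pos
        omega
      exact hV.ne (Subgroup.card_eq_one.1 (by rw [P.cardV, h1]))
    have h24 : Nat.card ↥(V ⊓ V') = 2 ∨ Nat.card ↥(V ⊓ V') = 4 := by
      haveI : Fact (Nat.Prime 2) := ⟨Nat.prime_two⟩
      obtain ⟨j, hj⟩ := IsPGroup.iff_card.1 (hV.elem.isPGroup.to_le (inf_le_left : V ⊓ V' ≤ V))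
      have hle := P.le_four H
      have hj3 : j ≤ 2 := (Nat.pow_le_pow_iff_right (le_refl 2)).1 (hj ▸ hle : 2 ^ j ≤ 2 ^ 2)
      rw [hj] at hW2 ⊢
      interval_cases j <;> simp_all
    rcases h24 with h2 | h4
    · obtain ⟨F, hF, hFt, ⟨φ⟩⟩ := H.psl_of_self_centralizing hna P.nat P.self P.syl
        (by rw [P.inter, h2])
      exact Or.inl ⟨F, hF, hFt, H.field_condition φ, ⟨φ⟩⟩
    · exact Or.inr (Or.inl (P.psl_three_four H hna h4
        (P.card_eq_four H (P.sylow_four H hna h4) h4)))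
  · rcases H.list_of_embedded hna hD hD1 hH with h | h
    · exact Or.inl h
    · exact Or.inr (Or.inr h)

/-- The order form. -/
theorem isSuzuki_of_iso [IsSimpleGroup G] (h : Cfsg.Lie.IsoSuzuki G) : Cfsg.IsSuzuki G := by
  obtain ⟨F, _, _, m, hm, hF, ⟨e⟩⟩ := h
  refine ⟨inferInstance, m, hm, ?_⟩
  rw [Nat.card_congr e.toEquiv,
    CfsgLib.KnownB.Suzuki.card_Sz (CfsgLib.KnownB.SzElem.twist_of_card hF), hF]
  ring

/-- The classification in order form. -/
theorem IsCIT.classification_order [IsSimpleGroup G] (H : IsCIT G) (hna : ¬ IsMulCommutative G) :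
    (∃ (F : Type) (_ : Field F) (_ : Fintype F),
        (Fintype.card F = 9 ∨ (∃ n : ℕ, Fintype.card F = 2 ^ n) ∨
          ((Fintype.card F).Prime ∧ ∃ k : ℕ, Fintype.card F = 2 ^ k + 1 ∨ Fintype.card F + 1 = 2 ^ k)) ∧
        Nonempty (G ≃* Matrix.ProjectiveSpecialLinearGroup (Fin 2) F)) ∨
    (∃ (F : Type) (_ : Field F) (_ : Fintype F), Fintype.card F = 4 ∧
        Nonempty (G ≃* Matrix.ProjectiveSpecialLinearGroup (Fin 3) F)) ∨
    Cfsg.IsSuzuki G := by
  rcases H.classification hna with h | h | h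
  · exact Or.inl h
  · exact Or.inr (Or.inl h)
  · exact Or.inr (Or.inr (isSuzuki_of_iso h))

end CfsgLib.Recognition.CIT
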