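import Cfsg.Agent.Lib.Recognition.CIT.Basic
import Cfsg.Agent.Lib.Recognition.PrimeOrders.Finish
import Cfsg.Agent.Lib.Involution.SelfCentNoncyclicMain
import Cfsg.Agent.Lib.LocalEven.BenderTransitive.Main
import Cfsg.Agent.S0563
import Cfsg.Agent.S1225
import Cfsg.Agent.S0001
import Cfsg.Prelude.Def_LieExceptional

/-!
A simple CIT group with a strongly embedded 2-local subgroup is a Zassenhaus group.
-/

set_option autoImplicit false
set_option linter.unusedSectionVars false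
set_option linter.style.haveILetI false

open Subgroup MulAction

namespace CfsgLib.Recognition.CIT

open CfsgLib.Recognition.PrimeOrders

universe u

variable {G : Type u} [Group G] [Finite G]

theorem odd_orderOf_of_mem {K : Subgroup G} (hK : Odd (Nat.card K)) {x : G} (hx : x ∈ K) :
    Odd (orderOf x) := Odd.of_dvd_nat hK (Subgroup.orderOf_dvd_natCard K hx)

/-- A strongly embedded proper subgroup of a simple group misses some involution. -/
theorem exists_involution_out [IsSimpleGroup G] {H₀ : Subgroup G}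
    (hH : Cfsg.IsStronglyEmbedded H₀) : ∃ u : G, orderOf u = 2 ∧ u ∉ H₀ := by
  by_contra h'
  push Not at h'
  haveI : Fact (Nat.Prime 2) := ⟨Nat.prime_two⟩
  obtain ⟨t, ht⟩ := exists_prime_orderOf_dvd_card' (G := H₀) 2 (even_iff_two_dvd.1 hH.2.1)
  have ht2 : orderOf (t : G) = 2 := by rw [Subgroup.orderOf_coe, ht]
  haveI : (normalClosure ({(t : G)} : Set G)).Normal := normalClosure_normal
  rcases (inferInstance : (normalClosure ({(t : G)} : Set G)).Normal).eq_bot_or_eq_top with h | h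
  · have h1 : (t : G) ∈ normalClosure ({(t : G)} : Set G) := subset_normalClosure rfl
    rw [h, Subgroup.mem_bot] at h1
    rw [h1, orderOf_one] at ht2
    omega
  · refine hH.1 (top_le_iff.1 (h ▸ ?_))
    refine (Subgroup.closure_le _).2 fun x hx => ?_
    obtain ⟨a, ha, hax⟩ := Group.mem_conjugatesOfSet_iff.1 hx
    rw [Set.mem_singleton_iff.1 ha] at hax
    obtain ⟨c, rfl⟩ := isConj_iff.1 hax
    exact h' _ ((MulAut.conj c).orderOf_eq (t : G) ▸ ht2)

/-- A solvable product of a 2-group and an abelian group of odd order, without normal 2-subgroups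
and with involution centralisers free of odd elements, has the odd factor normal. -/
theorem odd_factor_normal {X : Type u} [Group X] [Finite X] (A B : Subgroup X) (hA : IsPGroup 2 A)
    (hB : Odd (Nat.card B)) (hBc : ∀ x ∈ B, ∀ y ∈ B, x * y = y * x)
    (hAB : ∀ g : X, ∃ a ∈ A, ∃ b ∈ B, g = a * b)
    (hcore : ∀ N : Subgroup X, N.Normal → IsPGroup 2 N → N = ⊥)
    (hcit : ∀ t x : X, orderOf t = 2 → Odd (orderOf x) → x * t = t * x → x = 1) : B.Normal := by
  classical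
  haveI : Fact (Nat.Prime 2) := ⟨Nat.prime_two⟩
  rcases subsingleton_or_nontrivial X with hX | hX
  · exact ⟨fun n hn g => by rwa [Subsingleton.elim (g * n * g⁻¹) n]⟩
  obtain ⟨a, ha⟩ := IsPGroup.iff_card.1 hA
  have hcop : (Nat.card A).Coprime (Nat.card B) := by
    rw [ha]
    exact Nat.Coprime.pow_left _ (Nat.coprime_two_left.2 hB)
  haveI hBm : IsMulCommutative B := ⟨⟨fun x y => Subtype.ext (hBc x x.2 y y.2)⟩⟩
  have hAn : Group.IsNilpotent A := hA.isNilpotent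
  have hBn : Group.IsNilpotent B := by
    letI : CommGroup B := { (inferInstance : Group B) with mul_comm := fun x y => Subtype.ext (hBc x x.2 y y.2) }
    exact CommGroup.isNilpotent
  haveI hsolv := (Cfsg.Agent.S0563.result A B hAn hBn hcop hAB).1
  set N := Cfsg.fittingSubgroup X with hN
  have hN1 : N ≠ ⊥ := CfsgLib.Solvable.Cores.fittingSubgroup_ne_bot
  haveI hNn : N.Normal := CfsgLib.Solvable.Cores.fittingSubgroup_normal
  haveI hNnil : Group.IsNilpotent N := CfsgLib.Solvable.Cores.fittingSubgroup_isNilpotent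
  have hNodd : Odd (Nat.card N) := by
    by_contra hc
    obtain ⟨P⟩ : Nonempty (Sylow 2 N) := inferInstance
    haveI : (P : Subgroup N).Normal :=
      Sylow.normal_of_normalizerCondition Group.normalizerCondition_of_isNilpotent P
    haveI : (P : Subgroup N).Characteristic := P.characteristic_of_normal inferInstance
    have hP0 : (P : Subgroup N).map N.subtype = ⊥ := hcore _ inferInstance (P.isPGroup'.map _)
    rw [Subgroup.map_eq_bot_iff_of_injective _ N.subtype_injective] at hP0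
    have := P.dvd_card_of_dvd_card (even_iff_two_dvd.1 (Nat.not_odd_iff_even.1 hc))
    rw [hP0, Subgroup.card_bot] at this
    omega
  have hXcard : Nat.card X ∣ Nat.card A * Nat.card B := by
    refine dvd_of_eq ?_
    rw [← Nat.card_prod]
    refine (Nat.card_eq_of_bijective (fun p : A × B => (p.1 : X) * p.2) ⟨?_, fun g => ?_⟩).symm
    · rintro ⟨x, y⟩ ⟨x', y'⟩ e
      have e' : (x : X) * y = x' * y' := e
      have e2 : (x' : X)⁻¹ * x = (y' : X) * (y : X)⁻¹ := by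
        rw [eq_mul_inv_iff_mul_eq, mul_assoc, e', inv_mul_cancel_left]
      have hm : (x' : X)⁻¹ * x ∈ A ⊓ B := ⟨A.mul_mem (A.inv_mem x'.2) x.2,
        e2 ▸ B.mul_mem y'.2 (B.inv_mem y.2)⟩
      rw [Subgroup.inf_eq_bot_of_coprime hcop, Subgroup.mem_bot, inv_mul_eq_one] at hm
      rw [hm] at e'
      exact Prod.ext (Subtype.ext hm.symm) (Subtype.ext (mul_left_cancel e'))
    · obtain ⟨a, ha, b, hb, rfl⟩ := hAB g
      exact ⟨(⟨a, ha⟩, ⟨b, hb⟩), rfl⟩
  have key : ∀ M : Subgroup X, M.Normal → Odd (Nat.card M) → M ≤ B := by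
    intro M hM hModd
    haveI := hM
    have hd : Nat.card ↥(B ⊔ M) ∣ Nat.card B * Nat.card M := by
      rw [sup_comm, mul_comm, Subgroup.card_eq_card_quotient_mul_card_subgroup (M.subgroupOf (M ⊔ B)),
        Nat.card_congr (Subgroup.subgroupOfEquivOfLe (le_sup_left : M ≤ M ⊔ B)).toEquiv,
        mul_comm]
      refine mul_dvd_mul_left _ ?_
      rw [sup_comm M B, Nat.card_congr (QuotientGroup.quotientInfEquivProdNormalQuotient B M).symm.toEquiv]
      exact Subgroup.card_quotient_dvd_card _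
    have hd2 : Nat.card ↥(B ⊔ M) ∣ Nat.card B := by
      refine Nat.Coprime.dvd_of_dvd_mul_left ?_ ((Subgroup.card_subgroup_dvd_card _).trans hXcard)
      rw [ha]
      exact Nat.Coprime.pow_right _ (Nat.coprime_two_right.2 (Odd.of_dvd_nat (hB.mul hModd) hd))
    have e : B = B ⊔ M := Subgroup.eq_of_le_of_card_ge le_sup_left (Nat.le_of_dvd Nat.card_pos hd2)
    exact e ▸ le_sup_right
  set C := centralizer (N : Set X) with hC
  haveI hCn : C.Normal := Subgroup.normal_centralizer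
  have hCodd : Odd (Nat.card C) := by
    by_contra hc
    obtain ⟨t, ht⟩ := exists_prime_orderOf_dvd_card' (G := C) 2
      (even_iff_two_dvd.1 (Nat.not_odd_iff_even.1 hc))
    obtain ⟨n, hn, hn1⟩ : ∃ n ∈ N, n ≠ 1 := by
      by_contra h'
      push Not at h'
      exact hN1 ((Subgroup.eq_bot_iff_forall N).2 h')
    exact hn1 (hcit t n (by rw [Subgroup.orderOf_coe, ht])
      (Odd.of_dvd_nat hNodd (Subgroup.orderOf_dvd_natCard N hn))
      (Subgroup.mem_centralizer_iff.1 t.2 n hn))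
  have hBC : B = C := le_antisymm (fun b hb => Subgroup.mem_centralizer_iff.2 fun n hn =>
    hBc n (key N inferInstance hNodd hn) b hb) (key C inferInstance hCodd)
  exact hBC ▸ hCn

/-- The structure of a strongly embedded 2-local subgroup. -/
theorem IsCIT.embedded_structure [IsSimpleGroup G] (H : IsCIT G) (hna : ¬ IsMulCommutative G)
    {D : Subgroup G} (hD : IsPGroup 2 D) (hD1 : D ≠ ⊥)
    (hH : Cfsg.IsStronglyEmbedded (normalizer (D : Set G))) :
    ∃ u : G, orderOf u = 2 ∧ u ∉ normalizer (D : Set G) ∧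
      (normalizer (D : Set G) ⊓ cj u (normalizer (D : Set G))) ≠ ⊥ ∧
      ∃ Q ≤ normalizer (D : Set G), IsPGroup 2 Q ∧
        (∀ h ∈ normalizer (D : Set G), ∀ q ∈ Q, h * q * h⁻¹ ∈ Q) ∧
        ∀ h ∈ normalizer (D : Set G),
          ∃ q ∈ Q, ∃ k ∈ normalizer (D : Set G) ⊓ cj u (normalizer (D : Set G)), h = q * k := by
  classical
  haveI : Fact (Nat.Prime 2) := ⟨Nat.prime_two⟩
  set H₀ := normalizer (D : Set G) with hH₀
  obtain ⟨u, hu, huH⟩ := exists_involution_out hH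
  set K := H₀ ⊓ cj u H₀ with hK
  have hKodd : Odd (Nat.card K) := hH.2.2 u huH
  have huu : u * u = 1 := CfsgLib.Involution.Dihedral.mul_self hu
  have hui : u⁻¹ = u := CfsgLib.Involution.Dihedral.inv_eq hu
  have hKu : ∀ x ∈ K, u * x * u⁻¹ ∈ K := by
    rintro x ⟨h1, h2⟩
    replace h2 := mem_cj.1 h2
    refine ⟨?_, mem_cj.2 ?_⟩
    · rwa [hui] at h2 ⊢
    · have e : u⁻¹ * (u * x * u⁻¹) * u = x := by group
      rw [e]; exact h1
  have hinv : ∀ x ∈ K, u * x * u⁻¹ = x⁻¹ := by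
    let f : K → K := fun x => ⟨(x : G)⁻¹ * (u * x * u⁻¹), K.mul_mem (K.inv_mem x.2) (hKu _ x.2)⟩
    have hf : Function.Injective f := by
      intro x y e
      have e' : (x : G)⁻¹ * (u * x * u⁻¹) = (y : G)⁻¹ * (u * y * u⁻¹) := congrArg Subtype.val e
      have hzu : u * ((y : G) * (x : G)⁻¹) * u⁻¹ = (y : G) * (x : G)⁻¹ := by
        calc u * ((y : G) * (x : G)⁻¹) * u⁻¹
            = (y : G) * ((y : G)⁻¹ * (u * y * u⁻¹)) * (u * x * u⁻¹)⁻¹ := by group
          _ = (y : G) * (x : G)⁻¹ := by rw [← e']; group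
      have h1 := eq_one_of_odd_of_pGroup (H u hu)
        (Subgroup.mem_centralizer_singleton_iff.2 (mul_inv_eq_iff_eq_mul.1 hzu).symm)
        (odd_orderOf_of_mem hKodd (K.mul_mem y.2 (K.inv_mem x.2)))
      exact Subtype.ext (mul_inv_eq_one.1 h1).symm
    intro d hd
    obtain ⟨x, hx⟩ := Finite.surjective_of_injective hf ⟨d, hd⟩
    rw [show d = (x : G)⁻¹ * (u * x * u⁻¹) from (congrArg Subtype.val hx).symm]
    calc u * ((x : G)⁻¹ * (u * x * u⁻¹)) * u⁻¹ = u * (x : G)⁻¹ * u * x * (u * u)⁻¹ := by group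
      _ = ((x : G)⁻¹ * (u * x * u⁻¹))⁻¹ := by
          rw [huu, hui, inv_one, mul_one, mul_inv_rev, mul_inv_rev, mul_inv_rev, inv_inv, hui]; group
  have hKc : ∀ x ∈ K, ∀ y ∈ K, x * y = y * x := by
    intro x hx y hy
    have h1 := hinv _ (K.mul_mem hx hy)
    have h2 : u * (x * y) * u⁻¹ = x⁻¹ * y⁻¹ := by rw [← hinv x hx, ← hinv y hy]; group
    rw [h2, ← mul_inv_rev, inv_inj] at h1
    exact h1.symm
  -- the involutions lie in the centre of the 2-core
  set Q := O2 H₀ with hQ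
  have hQ2 : IsPGroup 2 Q := O2_isPGroup _
  have hDQ : D ≤ Q := le_O2 Subgroup.le_normalizer (fun m hm d hd => conj_mem hm hd) hD
  have hQ1 : Q ≠ ⊥ := fun e => hD1 (le_bot_iff.1 (e ▸ hDQ))
  have hZmem : ∀ t : G, orderOf t = 2 → t ∈ H₀ → t ∈ omz Q := by
    intro t ht htH
    obtain ⟨w, hw, hw1⟩ : ∃ w ∈ omz Q, w ≠ 1 := by
      by_contra h'
      push Not at h'
      exact omz_ne_bot hQ2 hQ1 ((Subgroup.eq_bot_iff_forall _).2 h')
    obtain ⟨h, hh, e⟩ := conj_of_stronglyEmbedded hH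
      (orderOf_eq_prime (by rw [pow_two]; exact hw.2.1) hw1) ht (O2_le _ hw.1) htH
    exact e ▸ omz_conj (O2_conj (M := H₀)) h hh w hw
  obtain ⟨z, hz⟩ := exists_prime_orderOf_dvd_card' (G := H₀) 2 (even_iff_two_dvd.1 hH.2.1)
  have hz2 : orderOf (z : G) = 2 := by rw [Subgroup.orderOf_coe, hz]
  set P := H₀ ⊓ centralizer ({(z : G)} : Set G) with hP
  have hP2 : IsPGroup 2 P := (H _ hz2).to_le inf_le_right
  have hHKP : ∀ h ∈ H₀, ∃ k ∈ K, k⁻¹ * h ∈ P := by
    intro h hh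
    obtain ⟨⟨k, hk, hke⟩, -⟩ := Cfsg.Agent.S1225.result H₀ hH u hu huH (z : G) (h * z * h⁻¹) hz2 z.2
      ((MulAut.conj h).orderOf_eq (z : G) ▸ hz2) (H₀.mul_mem (H₀.mul_mem hh z.2) (H₀.inv_mem hh))
    refine ⟨k, hk, H₀.mul_mem (H₀.inv_mem hk.1) hh, Subgroup.mem_centralizer_singleton_iff.2 ?_⟩
    calc k⁻¹ * h * (z : G) = k⁻¹ * (h * z * h⁻¹) * h := by group
      _ = (z : G) * (k⁻¹ * h) := by rw [← hke]; group
  have hK1 : K ≠ ⊥ := by
    intro e
    obtain ⟨S⟩ : Nonempty (Sylow 2 G) := Sylow.nonempty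
    obtain ⟨t, s, ht, hs, -, hsS, hne, hc⟩ :=
      CfsgLib.Involution.SelfCentNoncyclic.exists_two_involutions hna S
    obtain ⟨⟨g, hg⟩, hall⟩ := And.intro (isConj_iff.1 ((Cfsg.Agent.S1225.result H₀ hH u hu huH
      (z : G) (z : G) hz2 z.2 hz2 z.2).2 t z ht hz2))
      (fun t' => Cfsg.Agent.S1225.result H₀ hH u hu huH (z : G) t' hz2 z.2)
    have hcom : g * s * g⁻¹ * (z : G) = (z : G) * (g * s * g⁻¹) := by
      rw [← hg]
      calc g * s * g⁻¹ * (g * t * g⁻¹) = g * (s * t) * g⁻¹ := by group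
        _ = g * (t * s) * g⁻¹ := by rw [hc s hsS]
        _ = g * t * g⁻¹ * (g * s * g⁻¹) := by group
    have hs2 : orderOf (g * s * g⁻¹) = 2 := (MulAut.conj g).orderOf_eq s ▸ hs
    -- an involution commuting with `z` lies in `H₀`
    have hsH : g * s * g⁻¹ ∈ H₀ := by
      by_contra hn
      have hodd := hH.2.2 _ hn
      have hmem : (z : G) ∈ H₀ ⊓ H₀.map (MulAut.conj (g * s * g⁻¹)).toMonoidHom :=
        ⟨z.2, z, z.2, by
          show g * s * g⁻¹ * (z : G) * (g * s * g⁻¹)⁻¹ = z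
          rw [hcom, mul_inv_cancel_right]⟩
      exact (Nat.not_even_iff_odd.2 hodd) (even_iff_two_dvd.2 (hz2 ▸ Subgroup.orderOf_dvd_natCard _ hmem))
    obtain ⟨⟨k, hk, hke⟩, -⟩ := hall (g * s * g⁻¹) hs2 hsH
    replace hk : k ∈ K := hk
    rw [e, Subgroup.mem_bot] at hk
    rw [hk, one_mul, inv_one, mul_one, ← hg] at hke
    exact hne ((MulAut.conj g).injective hke.symm)
  refine ⟨u, hu, huH, hK1, Q, O2_le _, hQ2, fun h hh q hq => O2_conj h hh q hq, ?_⟩
  -- `K` is normal modulo `Q`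
  set Q₀ := Cfsg.pCore 2 ↥H₀ with hQ₀
  haveI hQ₀n : Q₀.Normal := CfsgLib.Solvable.Cores.pCore_normal 2
  have hQ₀2 : IsPGroup 2 Q₀ := CfsgLib.Solvable.Cores.isPGroup_pCore 2
  set π := QuotientGroup.mk' Q₀ with hπ
  have hπs : Function.Surjective π := QuotientGroup.mk'_surjective Q₀
  set B := (K.subgroupOf H₀).map π with hB
  have hBn : B.Normal := by
    refine odd_factor_normal ((P.subgroupOf H₀).map π) B
      ((hP2.comap_of_injective _ H₀.subtype_injective).map _) ?_ ?_ ?_ ?_ ?_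
    · refine Odd.of_dvd_nat ?_ (Subgroup.card_map_dvd (H := K.subgroupOf H₀) π)
      rw [Nat.card_congr (Subgroup.subgroupOfEquivOfLe (show K ≤ H₀ from inf_le_left)).toEquiv]
      exact hKodd
    · intro g₁ hg₁ g₂ hg₂
      obtain ⟨x, hx, rfl⟩ := Subgroup.mem_map.1 hg₁
      obtain ⟨y, hy, rfl⟩ := Subgroup.mem_map.1 hg₂
      have e : x * y = y * x :=
        Subtype.ext (hKc _ (Subgroup.mem_subgroupOf.1 hx) _ (Subgroup.mem_subgroupOf.1 hy))
      rw [← map_mul, ← map_mul, e]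
    · intro g
      obtain ⟨⟨h, hh⟩, rfl⟩ := hπs g
      obtain ⟨k, hk, hkP⟩ := hHKP h⁻¹ (H₀.inv_mem hh)
      refine ⟨π ⟨(k⁻¹ * h⁻¹)⁻¹, H₀.inv_mem (Subgroup.mem_inf.1 hkP).1⟩,
        Subgroup.mem_map_of_mem π (Subgroup.mem_subgroupOf.2 (P.inv_mem hkP)),
        π ⟨k⁻¹, H₀.inv_mem (Subgroup.mem_inf.1 hk).1⟩,
        Subgroup.mem_map_of_mem π (Subgroup.mem_subgroupOf.2 (K.inv_mem hk)), ?_⟩
      rw [← map_mul]
      exact congrArg π (Subtype.ext (by show h = (k⁻¹ * h⁻¹)⁻¹ * k⁻¹; group))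
    · intro N hN h2
      haveI := hN
      have hle : N.comap π ≤ Q₀ := CfsgLib.Solvable.Cores.le_pCore
        (h2.comap_of_ker_isPGroup π (by rw [hπ, QuotientGroup.ker_mk']; exact hQ₀2))
      rw [Subgroup.eq_bot_iff_forall]
      intro x hx
      obtain ⟨y, rfl⟩ := hπs x
      exact (QuotientGroup.eq_one_iff y).2 (hle hx)
    · intro t x ht hx hxt
      obtain ⟨s, rfl⟩ := hπs t
      obtain ⟨y, rfl⟩ := hπs x
      obtain ⟨k, hk⟩ := exists_odd_pow (y : G)
      have hQc : ∀ c ∈ Q, ((y : G) ^ 2 ^ k) * c * ((y : G) ^ 2 ^ k)⁻¹ ∈ Q := fun c hc =>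
        O2_conj _ (H₀.pow_mem y.2 _) c hc
      have hs : (s : G)⁻¹ * ((y : G) ^ 2 ^ k * s * ((y : G) ^ 2 ^ k)⁻¹) ∈ Q := by
        refine ⟨s⁻¹ * (y ^ 2 ^ k * s * (y ^ 2 ^ k)⁻¹), (QuotientGroup.eq_one_iff _).1 ?_, by simp⟩
        show π (s⁻¹ * (y ^ 2 ^ k * s * (y ^ 2 ^ k)⁻¹)) = 1
        have e : π y ^ 2 ^ k * π s = π s * π y ^ 2 ^ k := (Commute.pow_left hxt _).eq
        rw [map_mul, map_mul, map_mul, map_inv, map_inv, map_pow, e, mul_inv_cancel_right, inv_mul_cancel]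
      obtain ⟨c, hc, hsc⟩ := H.exists_commute_coset hQ2 hk hQc hs
      set R := ((zpowers (π s)).comap π).map H₀.subtype with hR
      have hR2 : IsPGroup 2 R := ((CfsgLib.Involution.Basic.isPGroup_zpowers (p := 2) (k := 1) ht
        ).comap_of_ker_isPGroup π (by rw [hπ, QuotientGroup.ker_mk']; exact hQ₀2)).map _
      obtain ⟨c₀, hc₀, rfl⟩ := hc
      have hπc : π c₀ = 1 := (QuotientGroup.eq_one_iff c₀).2 hc₀
      refine eq_one_of_odd_of_two hx (k := k) ?_
      rw [← map_pow]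
      have hy1 : (y : G) ^ 2 ^ k = 1 := by
        refine H.eq_one_of_commute hR2 (x := (s : G) * c₀) ⟨s * c₀, ?_, rfl⟩ ?_ hk hsc
        · show π (s * c₀) ∈ zpowers (π s)
          rw [map_mul, hπc, mul_one]; exact mem_zpowers _
        · intro e
          have e' : s * c₀ = 1 := Subtype.ext e
          have := congrArg π e'
          rw [map_mul, hπc, mul_one, map_one] at this
          rw [this, orderOf_one] at ht
          omega
      rw [show y ^ 2 ^ k = 1 from Subtype.ext (by rw [Subgroup.coe_pow]; exact hy1), map_one]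
  intro h hh
  -- the Frattini argument
  set L := (B.comap π).map H₀.subtype with hL
  have hQL : Q ≤ L := by
    rintro _ ⟨q, hq, rfl⟩
    refine ⟨q, ?_, rfl⟩
    show π q ∈ B
    rw [show π q = 1 from (QuotientGroup.eq_one_iff q).2 hq]
    exact B.one_mem
  have hKL : K ≤ L := fun x hx => ⟨⟨x, hx.1⟩, ⟨_, hx, rfl⟩, rfl⟩
  have hLQK : ∀ x ∈ L, ∃ q ∈ Q, ∃ k ∈ K, x = q * k := by
    rintro _ ⟨y, hy, rfl⟩
    obtain ⟨k, hk, hke⟩ := hy
    refine ⟨(y * k⁻¹ : H₀), ⟨y * k⁻¹, (QuotientGroup.eq_one_iff _).1 ?_, rfl⟩, k, hk, ?_⟩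
    · show π (y * k⁻¹) = 1
      rw [map_mul, map_inv, hke, mul_inv_cancel]
    · simp
  have hcop : (Nat.card Q).Coprime (Nat.card K) := by
    obtain ⟨a, ha⟩ := IsPGroup.iff_card.1 hQ2
    rw [ha]
    exact Nat.Coprime.pow_left _ (Nat.coprime_two_left.2 hKodd)
  have hQK : Q ⊓ K = ⊥ := Subgroup.inf_eq_bot_of_coprime hcop
  haveI : (Q.subgroupOf L).Normal := ⟨fun q hq x => by
    obtain ⟨y, -, hy⟩ := x.2
    exact O2_conj (x : G) (hy ▸ y.2) (q : G) hq⟩
  have hcompl : ∀ K' : Subgroup G, K' ≤ L → Nat.card K' = Nat.card K →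
      Subgroup.IsComplement' (Q.subgroupOf L) (K'.subgroupOf L) := by
    intro K' hK' hcard
    refine Subgroup.isComplement'_of_coprime ?_ ?_
    · rw [Nat.card_congr (Subgroup.subgroupOfEquivOfLe hQL).toEquiv,
        Nat.card_congr (Subgroup.subgroupOfEquivOfLe hK').toEquiv, hcard, ← Nat.card_prod]
      refine Nat.card_eq_of_bijective (fun p : Q × K => (⟨(p.1 : G) * p.2,
        L.mul_mem (hQL p.1.2) (hKL p.2.2)⟩ : L)) ⟨?_, fun x => ?_⟩
      · rintro ⟨q, k⟩ ⟨q', k'⟩ e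
        have e' : (q : G) * k = q' * k' := congrArg Subtype.val e
        have e2 : (q' : G)⁻¹ * q = (k' : G) * (k : G)⁻¹ := by
          rw [eq_mul_inv_iff_mul_eq, mul_assoc, e', inv_mul_cancel_left]
        have hm : (q' : G)⁻¹ * q ∈ Q ⊓ K :=
          ⟨Q.mul_mem (Q.inv_mem q'.2) q.2, e2 ▸ K.mul_mem k'.2 (K.inv_mem k.2)⟩
        rw [hQK, Subgroup.mem_bot, inv_mul_eq_one] at hm
        rw [hm] at e'
        exact Prod.ext (Subtype.ext hm.symm) (Subtype.ext (mul_left_cancel e'))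
      · obtain ⟨q, hq, k, hk, e⟩ := hLQK x x.2
        exact ⟨(⟨q, hq⟩, ⟨k, hk⟩), Subtype.ext e.symm⟩
    · rw [Nat.card_congr (Subgroup.subgroupOfEquivOfLe hQL).toEquiv,
        Nat.card_congr (Subgroup.subgroupOfEquivOfLe hK').toEquiv, hcard]
      exact hcop
  have hKh : cj h K ≤ L := by
    rintro _ ⟨x, hx, rfl⟩
    refine ⟨⟨h, hh⟩ * ⟨x, hx.1⟩ * ⟨h, hh⟩⁻¹, ?_, by simp⟩
    show π (⟨h, hh⟩ * ⟨x, hx.1⟩ * ⟨h, hh⟩⁻¹) ∈ B
    rw [map_mul, map_mul, map_inv]
    exact hBn.conj_mem _ ⟨_, hx, rfl⟩ _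
  have hC1 := hcompl K hKL rfl
  have hC2 := hcompl (cj h K) hKh (card_cj h K)
  obtain ⟨g, hg⟩ := Cfsg.Agent.S0001.result (Q.subgroupOf L) (by
      rw [Nat.card_congr (Subgroup.subgroupOfEquivOfLe hQL).toEquiv, hC1.symm.index_eq_card,
        Nat.card_congr (Subgroup.subgroupOfEquivOfLe hKL).toEquiv]
      exact hcop)
    (Or.inl (by
      haveI : Group.IsNilpotent (Q.subgroupOf L) :=
        (hQ2.comap_of_injective L.subtype L.subtype_injective).isNilpotent
      infer_instance)) (K.subgroupOf L) ((cj h K).subgroupOf L) hC1 hC2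
  have hgK : cj (g : G) K = cj h K := by
    refine Subgroup.eq_of_le_of_card_ge ?_ (by rw [card_cj, card_cj])
    rintro _ ⟨x, hx, rfl⟩
    have : g * ⟨x, hKL hx⟩ * g⁻¹ ∈ (cj h K).subgroupOf L := by
      rw [← hg]
      exact ⟨⟨x, hKL hx⟩, hx, rfl⟩
    exact this
  obtain ⟨q₀, hq₀, k₀, hk₀, hgqk⟩ := hLQK g g.2
  set n := (g : G)⁻¹ * h with hn
  have hgH : (g : G) ∈ H₀ := Subgroup.map_subtype_le _ g.2
  have hnH : n ∈ H₀ := H₀.mul_mem (H₀.inv_mem hgH) hh
  have hnK : n ∈ normalizer (K : Set G) := by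
    rw [mem_normalizer_iff_cj, hn, ← cj_cj, ← hgK, cj_inv_cj]
  obtain ⟨k₁, hk₁, hp⟩ := hHKP n hnH
  set p := k₁⁻¹ * n with hpdef
  have hpK : p ∈ normalizer (K : Set G) :=
    (normalizer (K : Set G)).mul_mem (Subgroup.le_normalizer (K.inv_mem hk₁)) hnK
  have hp1 : p = 1 := by
    by_contra hp1
    obtain ⟨j, hj⟩ := hP2 ⟨p, hp⟩
    obtain ⟨i, -, hi⟩ := (Nat.dvd_prime_pow Nat.prime_two).1
      (orderOf_dvd_of_pow_eq_one (congrArg Subtype.val hj : p ^ 2 ^ j = 1))
    obtain ⟨i', rfl⟩ : ∃ i', i = i' + 1 := by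
      refine ⟨i - 1, ?_⟩
      rcases Nat.eq_zero_or_pos i with rfl | h0
      · exact absurd (orderOf_eq_one_iff.1 (by rw [hi, pow_zero])) hp1
      · omega
    set c := p ^ 2 ^ i' with hc
    have hc2 : orderOf c = 2 := by
      rw [hc, orderOf_pow' _ (by positivity), hi, pow_succ,
        Nat.gcd_eq_right (Dvd.intro _ rfl), Nat.mul_div_cancel_left _ (by positivity)]
    have hcQ : c ∈ Q := omz_le Q (hZmem c hc2 (H₀.pow_mem hp.1 _))
    have hcK : c ∈ normalizer (K : Set G) := Subgroup.pow_mem _ hpK _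
    obtain ⟨x, hx, hx1⟩ : ∃ x ∈ K, x ≠ 1 := by
      by_contra h'
      push Not at h'
      exact hK1 ((Subgroup.eq_bot_iff_forall K).2 h')
    have hm : c * x * c⁻¹ * x⁻¹ ∈ Q ⊓ K := by
      refine ⟨?_, K.mul_mem (conj_mem hcK hx) (K.inv_mem hx)⟩
      have := Q.mul_mem hcQ (O2_conj x hx.1 _ (Q.inv_mem hcQ))
      simpa [mul_assoc] using this
    rw [hQK, Subgroup.mem_bot, mul_inv_eq_one, mul_inv_eq_iff_eq_mul] at hm
    exact hx1 (H.eq_one_of_commute hQ2 hcQ (fun e => by rw [e, orderOf_one] at hc2; omega)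
      (odd_orderOf_of_mem hKodd hx) hm.symm)
  refine ⟨q₀, hq₀, k₀ * k₁, K.mul_mem hk₀ hk₁, ?_⟩
  have hnk : n = k₁ := by rw [hpdef, inv_mul_eq_one] at hp1; exact hp1.symm
  rw [← mul_assoc, ← hgqk, ← hnk, hn, mul_inv_cancel_left]
where
  conj_mem {K : Subgroup G} {g x : G} (hg : g ∈ normalizer (K : Set G)) (hx : x ∈ K) :
      g * x * g⁻¹ ∈ K := (Subgroup.mem_normalizer_iff.1 hg x).1 hx

/-- A strongly embedded 2-local subgroup makes the group a Zassenhaus group. -/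
theorem IsCIT.isZassenhaus [IsSimpleGroup G] (H : IsCIT G) (hna : ¬ IsMulCommutative G)
    {D : Subgroup G} (hD : IsPGroup 2 D) (hD1 : D ≠ ⊥)
    (hH : Cfsg.IsStronglyEmbedded (normalizer (D : Set G))) :
    Cfsg.IsZassenhausGroup G (G ⧸ normalizer (D : Set G)) := by
  classical
  haveI : Fact (Nat.Prime 2) := ⟨Nat.prime_two⟩
  obtain ⟨u, hu, huH, hK1, Q, hQH, hQ2, hQn, hdec⟩ := H.embedded_structure hna hD hD1 hH
  set H₀ := normalizer (D : Set G) with hH₀
  set K := H₀ ⊓ cj u H₀ with hK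
  have hKodd : Odd (Nat.card K) := hH.2.2 u huH
  have huu : u * u = 1 := CfsgLib.Involution.Dihedral.mul_self hu
  have hui : u⁻¹ = u := CfsgLib.Involution.Dihedral.inv_eq hu
  have hcomm : ∃ x y : G, orderOf x = 2 ∧ orderOf y = 2 ∧ x ≠ y ∧ Commute x y := by
    obtain ⟨S⟩ : Nonempty (Sylow 2 G) := Sylow.nonempty
    obtain ⟨t, s, ht, hs, -, hsS, hne, hc⟩ :=
      CfsgLib.Involution.SelfCentNoncyclic.exists_two_involutions hna S
    exact ⟨s, t, hs, ht, hne, hc s hsS⟩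
  have hPT := CfsgLib.LocalEven.BenderTransitive.pairTransitive hH hcomm
  haveI : MulAction.IsPretransitive G (G ⧸ H₀) := MulAction.isPretransitive_quotient G H₀
  haveI h2pre : MulAction.IsMultiplyPretransitive G (G ⧸ H₀) 2 := by
    rw [MulAction.is_two_pretransitive_iff]
    intro x y x' y' hxy hxy'
    obtain ⟨g, hg⟩ := MulAction.exists_smul_eq G x x'
    have hgy : g • y ≠ x' := fun h => hxy (by
      have : g • x = g • y := hg.trans h.symm
      exact MulAction.injective g this)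
    obtain ⟨k, hk1, hk2⟩ := hPT x' (g • y) y' hgy hxy'.symm
    exact ⟨k * g, by rw [mul_smul, hg, hk1], by rw [mul_smul, hk2]⟩
  haveI hfaith : FaithfulSMul G (G ⧸ H₀) := by
    refine ⟨fun {g₁ g₂} h => ?_⟩
    have hker : (H₀.normalCore) = ⊥ := by
      rcases (inferInstance : H₀.normalCore.Normal).eq_bot_or_eq_top with h' | h'
      · exact h'
      · exact absurd (top_le_iff.1 (h' ▸ H₀.normalCore_le)) hH.1
    have hmem : g₂⁻¹ * g₁ ∈ H₀.normalCore := by
      rw [Subgroup.normalCore_eq_ker, MonoidHom.mem_ker]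
      ext x
      show (g₂⁻¹ * g₁) • x = x
      rw [mul_smul, h x, inv_smul_smul]
    rw [hker, Subgroup.mem_bot, inv_mul_eq_one] at hmem
    exact hmem.symm
  set e : G ⧸ H₀ := ((1 : G) : G ⧸ H₀) with he
  set f : G ⧸ H₀ := ((u : G) : G ⧸ H₀) with hf
  have hef : e ≠ f := fun h => huH (by simpa [he, hf] using QuotientGroup.eq.1 h)
  have hstab : ∀ (x g : G), x • (g : G ⧸ H₀) = (g : G ⧸ H₀) ↔ x ∈ cj g H₀ := by
    intro x g
    rw [mem_cj, MulAction.Quotient.smul_mk, QuotientGroup.eq, smul_eq_mul]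
    constructor
    · intro h
      have := H₀.inv_mem h
      simpa [mul_assoc] using this
    · intro h
      have := H₀.inv_mem h
      simpa [mul_assoc] using this
  obtain ⟨x₀, hx₀, hx₀1⟩ : ∃ x ∈ K, x ≠ 1 := by
    by_contra h'
    push Not at h'
    exact hK1 ((Subgroup.eq_bot_iff_forall K).2 h')
  refine ⟨hfaith, h2pre, ?_, ?_, ?_⟩
  · intro x p q s hpq hqs hps hp hq hs
    by_contra hx1
    obtain ⟨k, hkp, hkq⟩ := (MulAction.is_two_pretransitive_iff.1 h2pre) hpq hef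
    obtain ⟨g', hg'⟩ := QuotientGroup.mk_surjective (k • s)
    set y := k * x * k⁻¹ with hy
    have hfix : ∀ o : G ⧸ H₀, x • o = o → y • (k • o) = k • o := fun o ho => by
      rw [hy, mul_smul, mul_smul, inv_smul_smul, ho]
    have h1 : y ∈ H₀ := by
      have := (hstab y 1).1 (by rw [← he, ← hkp]; exact hfix p hp)
      rwa [cj_one] at this
    have h2 : y ∈ cj u H₀ := (hstab y u).1 (by rw [← hf, ← hkq]; exact hfix q hq)
    have h3 : y • (g' : G ⧸ H₀) = g' := by rw [hg']; exact hfix s hs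
    have hy1 : y ≠ 1 := fun h => hx1 (conj_eq_one_iff.1 h)
    have hg'H : g' ∉ H₀ := fun h => hps (MulAction.injective k (by
      show k • p = k • s
      rw [hkp, ← hg', he, QuotientGroup.eq, inv_one, one_mul]
      exact h))
    obtain ⟨h, hh, hmem⟩ := CfsgLib.LocalEven.BenderTransitive.exists_smul_mem hH hcomm u g' huH hg'H
    obtain ⟨q₁, hq₁, k₁, hk₁, rfl⟩ := hdec h hh
    have hku : (k₁ : G) • f = f := (hstab k₁ u).2 hk₁.2
    have hg'q : (g' : G ⧸ H₀) = q₁ • f := by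
      conv_rhs => rw [← hku, ← mul_smul, hf, MulAction.Quotient.smul_mk, smul_eq_mul]
      exact QuotientGroup.eq.2 hmem
    have hyK : y ∈ K := ⟨h1, h2⟩
    have hq1 : q₁ ≠ 1 := fun h => hqs (MulAction.injective k (by
      show k • q = k • s
      rw [hkq, ← hg', hg'q, h, one_smul]))
    rw [hg'q] at h3
    have h4 : (q₁⁻¹ * y * q₁) • f = f := by rw [mul_smul, mul_smul, h3, inv_smul_smul]
    have h5 : q₁⁻¹ * y * q₁ ∈ K :=
      ⟨H₀.mul_mem (H₀.mul_mem (H₀.inv_mem (hQH hq₁)) h1) (hQH hq₁), (hstab _ u).1 h4⟩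
    have h6 : y⁻¹ * (q₁⁻¹ * y * q₁) ∈ Q ⊓ K := by
      refine ⟨?_, K.mul_mem (K.inv_mem hyK) h5⟩
      have := Q.mul_mem (hQn _ (H₀.inv_mem h1) _ (Q.inv_mem hq₁)) hq₁
      simpa [mul_assoc] using this
    obtain ⟨j, hj⟩ := IsPGroup.iff_card.1 hQ2
    rw [Subgroup.inf_eq_bot_of_coprime (hj ▸ Nat.Coprime.pow_left _ (Nat.coprime_two_left.2 hKodd)),
      Subgroup.mem_bot, inv_mul_eq_one] at h6
    refine hy1 (H.eq_one_of_commute hQ2 hq₁ hq1 (odd_orderOf_of_mem hKodd hyK) ?_)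
    conv_rhs => rw [h6]
    group
  · exact ⟨x₀, hx₀1, e, f, hef, (hstab x₀ 1).2 (by rw [cj_one]; exact hx₀.1), (hstab x₀ u).2 hx₀.2⟩
  · intro N hN hpre
    rcases hN.eq_bot_or_eq_top with rfl | rfl
    · exfalso
      obtain ⟨⟨n, hn⟩, hne⟩ := hpre.exists_smul_eq e f
      rw [Subgroup.mem_bot] at hn
      subst hn
      exact hef (by simpa using hne)
    · refine ⟨e, fun h => ?_⟩
      have hmem : (⟨x₀, Subgroup.mem_top x₀⟩ : (⊤ : Subgroup G)) ∈
          MulAction.stabilizer (⊤ : Subgroup G) e :=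
        MulAction.mem_stabilizer_iff.2 ((hstab x₀ 1).2 (by rw [cj_one]; exact hx₀.1))
      have h' := (Subgroup.eq_bot_iff_forall _).1 h _ hmem
      exact hx₀1 (congrArg (fun z : (⊤ : Subgroup G) => (z : G)) h')

end CfsgLib.Recognition.CIT
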