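import Mathlib

/-!
The arithmetic of the count of involution pairs: the index of a Sylow 2-subgroup is 315.
-/

set_option autoImplicit false

namespace CfsgLib.Recognition.CIT.FourArith

/-- The body of the search: the third class is determined by the cofactor `d`. -/
def good (a p b q r C d : ℕ) : Bool :=
  let c := C / d
  let R := C + r * c
  !(decide (C % d = 0) && decide (b ≤ c) && decide (c % 2 = 1) && decide (5 ≤ c) &&
    decide (R % (a * b * c) = 0) && decide (p * (a - 1) % 64 = 0) && decide (q * (b - 1) % 64 = 0) &&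
    decide (r * (c - 1) % 64 = 0) &&
    (decide (a % 3 = 0) || decide (b % 3 = 0) || decide (c % 3 = 0)) &&
    (decide (a % 5 = 0) || decide (b % 5 = 0) || decide (c % 5 = 0)) &&
    decide (p * (a - 1) * b * c + q * (b - 1) * a * c + r * (c - 1) * a * b < 51 * (a * b * c))) ||
  decide (R = 315)

/-- The search. -/
def searchAll : Bool :=
  (List.range 49).all fun i => (List.range (i + 1)).all fun j =>
    let b := 2 * i + 1
    let a := 2 * j + 1
    decide (96 < a * b) || [8, 16, 32].all fun p => [8, 16, 32].all fun q => [8, 16, 32].all fun r =>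
      let C := 123 + p * (a - 1) + q * (b - 1) - r
      (List.range (C / b)).all fun d => good a p b q r C (d + 1)

theorem searchAll_true : searchAll = true := by decide +kernel

theorem triple {a b c p q r B : ℕ} (hab : a ≤ b) (hbc : b ≤ c) (hp : p = 8 ∨ p = 16 ∨ p = 32)
    (hq : q = 8 ∨ q = 16 ∨ q = 32) (hr : r = 8 ∨ r = 16 ∨ r = 32) (ha : Odd a) (hb : Odd b)
    (hc : Odd c) (hc5 : 5 ≤ c) (hB : B = 123 + p * (a - 1) + q * (b - 1) + r * (c - 1))
    (hB' : B ≤ 123 + 72 * c) (hdvd : a * b * c ∣ B)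
    (hpa : 64 ∣ p * (a - 1)) (hqb : 64 ∣ q * (b - 1)) (hrc : 64 ∣ r * (c - 1))
    (h3 : 3 ∣ a ∨ 3 ∣ b ∨ 3 ∣ c) (h5 : 5 ∣ a ∨ 5 ∣ b ∨ 5 ∣ c)
    (hw : p * (a - 1) * b * c + q * (b - 1) * a * c + r * (c - 1) * a * b < 51 * (a * b * c)) :
    B = 315 := by
  obtain ⟨j, hj⟩ := ha
  obtain ⟨i, hi⟩ := hb
  obtain ⟨m, hm⟩ := hdvd
  have hcpos : 0 < c := by omega
  have hBpos : 0 < B := by omega
  have hm0 : 0 < m := by
    rcases Nat.eq_zero_or_pos m with rfl | h
    · omega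
    · exact h
  have h96 : a * b ≤ 96 := by
    by_contra hlt
    have h1 : 97 * c ≤ a * b * c * m :=
      le_trans (Nat.mul_le_mul_right c (by omega)) (Nat.le_mul_of_pos_right _ hm0)
    omega
  have hb96 : b ≤ 96 := by
    have : b ≤ a * b := Nat.le_mul_of_pos_left b (by omega)
    omega
  set C := 123 + p * (a - 1) + q * (b - 1) - r with hC
  have hr32 : r ≤ 32 := by omega
  have hBC : B = C + r * c := by
    have : r * c = r * (c - 1) + r := by
      conv_lhs => rw [show c = c - 1 + 1 by omega, Nat.mul_add, mul_one]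
    omega
  have hlt : r < a * b * m := by
    by_contra h'
    have : a * b * m * c ≤ r * c := Nat.mul_le_mul_right c (by omega)
    rw [mul_right_comm] at hm
    omega
  set d := a * b * m - r with hd
  have hCd : C = d * c := by
    have e : a * b * m * c = (d + r) * c := by rw [hd, Nat.sub_add_cancel hlt.le]
    rw [mul_right_comm] at hm
    rw [add_mul] at e
    omega
  have hdb : d ≤ C / b := by
    rw [Nat.le_div_iff_mul_le (by omega), hCd]
    exact Nat.mul_le_mul_left d hbc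
  have hcd : C / d = c := by rw [hCd, Nat.mul_div_cancel_left _ (by omega)]
  have hs := searchAll_true
  unfold searchAll at hs
  simp only [List.all_eq_true, List.mem_range] at hs
  have h1 := hs i (by omega) j (by omega)
  simp only [← hi, ← hj, Bool.or_eq_true, decide_eq_true_iff, List.all_eq_true, List.mem_range] at h1
  have h2 := (h1.resolve_left (by omega)) p (by rcases hp with rfl | rfl | rfl <;> simp) q
    (by rcases hq with rfl | rfl | rfl <;> simp) r (by rcases hr with rfl | rfl | rfl <;> simp)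
    (d - 1) (by rw [← hC]; omega)
  rw [← hC, show d - 1 + 1 = d by omega] at h2
  unfold good at h2
  simp only [hcd, ← hBC, Bool.or_eq_true, Bool.not_eq_true', decide_eq_true_iff] at h2
  refine h2.resolve_left fun hfalse => ?_
  rw [Bool.eq_false_iff] at hfalse
  refine hfalse ?_
  simp only [Bool.and_eq_true, Bool.or_eq_true, decide_eq_true_iff, ← Nat.dvd_iff_mod_eq_zero]
  exact ⟨⟨⟨⟨⟨⟨⟨⟨⟨⟨⟨c, hCd⟩, hbc⟩, Nat.odd_iff.1 hc⟩, hc5⟩, ⟨m, hm⟩⟩, hpa⟩, hqb⟩, hrc⟩, or_assoc.2 h3⟩,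
    or_assoc.2 h5⟩, hw⟩

theorem prod_three {x y z : ℕ} (hx : Odd x) (hy : Odd y) (hz : Odd z) (hx3 : 3 ≤ x) (hy3 : 3 ≤ y)
    (hz3 : 3 ≤ z) (hxy : x ≠ y) (hxz : x ≠ z) (hyz : y ≠ z) : 105 ≤ x * y * z := by
  rcases Nat.odd_iff.1 hx, Nat.odd_iff.1 hy, Nat.odd_iff.1 hz with ⟨hx, hy, hz⟩
  by_cases h1 : 7 ≤ x
  · have : 15 ≤ y * z := by
      rcases (show (3 ≤ y ∧ 5 ≤ z) ∨ (5 ≤ y ∧ 3 ≤ z) by omega) with ⟨a, b⟩ | ⟨a, b⟩ <;> nlinarith
    rw [mul_assoc]; nlinarith
  by_cases h2 : 7 ≤ y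
  · have : 15 ≤ x * z := by
      rcases (show (3 ≤ x ∧ 5 ≤ z) ∨ (5 ≤ x ∧ 3 ≤ z) by omega) with ⟨a, b⟩ | ⟨a, b⟩ <;> nlinarith
    rw [mul_right_comm]; nlinarith
  · have : 15 ≤ x * y := by
      rcases (show (3 ≤ x ∧ 5 ≤ y) ∨ (5 ≤ x ∧ 3 ≤ y) by omega) with ⟨a, b⟩ | ⟨a, b⟩ <;> nlinarith
    have : 7 ≤ z := by omega
    nlinarith

theorem arith (S : Finset ℕ) (c f : ℕ → ℕ) {B : ℕ} (hB0 : 0 < B)
    (hc : ∀ n ∈ S, c n = 8 ∨ c n = 16 ∨ c n = 32) (hodd : ∀ n ∈ S, Odd n) (hn3 : ∀ n ∈ S, 3 ≤ n)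
    (hcop : ∀ m ∈ S, ∀ n ∈ S, m ≠ n → Nat.Coprime m n) (hdvd : ∀ n ∈ S, n ∣ B)
    (h64 : ∀ n ∈ S, 64 ∣ c n * (n - 1)) (hB : B = 123 + ∑ n ∈ S, c n * (n - 1))
    (hf : ∀ n ∈ S, n * f n = c n * (n - 1) * B) (hsum : ∑ n ∈ S, f n < 51 * B)
    (h3 : ∃ n ∈ S, 3 ∣ n) (h5 : ∃ n ∈ S, 5 ∣ n) : B = 315 := by
  classical
  -- the weights are small
  have hlow : ∀ n ∈ S, 2 * c n * B ≤ 3 * f n := fun n hn => by
    refine Nat.le_of_mul_le_mul_left ?_ (show 0 < n by have := hn3 n hn; omega)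
    calc n * (2 * c n * B) = (2 * n) * (c n * B) := by ring
      _ ≤ (3 * (n - 1)) * (c n * B) := Nat.mul_le_mul_right _ (by have := hn3 n hn; omega)
      _ = 3 * (c n * (n - 1) * B) := by ring
      _ = n * (3 * f n) := by rw [← hf n hn]; ring
  have hcsum : ∑ n ∈ S, c n ≤ 72 := by
    have h : 2 * (∑ n ∈ S, c n) * B ≤ 3 * ∑ n ∈ S, f n := by
      rw [Finset.mul_sum, Finset.sum_mul, Finset.mul_sum]
      exact Finset.sum_le_sum hlow
    have h8 : 8 ∣ ∑ n ∈ S, c n := Finset.dvd_sum fun n hn => by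
      rcases hc n hn with e | e | e <;> simp [e]
    have h' : 2 * (∑ n ∈ S, c n) < 153 := by
      by_contra hge
      have := Nat.mul_le_mul_right B (Nat.le_of_not_lt hge)
      omega
    omega
  obtain ⟨n₅, hn₅, hd₅⟩ := h5
  obtain ⟨n₃, hn₃, hd₃⟩ := h3
  have hne : S.Nonempty := ⟨_, hn₅⟩
  set M := S.max' hne with hM
  have hMS : M ∈ S := S.max'_mem hne
  have hM5 : 5 ≤ M := le_trans (Nat.le_of_dvd (by have := hn3 _ hn₅; omega) hd₅) (S.le_max' _ hn₅)
  have hBM : B ≤ 123 + 72 * M := by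
    rw [hB]
    refine Nat.add_le_add_left (le_trans (Finset.sum_le_sum fun n hn => Nat.mul_le_mul_left (c n)
      (show n - 1 ≤ M by have := S.le_max' n hn; omega)) ?_) _
    rw [← Finset.sum_mul]
    exact Nat.mul_le_mul_right _ hcsum
  have hcard : (S.erase M).card ≤ 2 := by
    by_contra hlt
    obtain ⟨U, hU, hUc⟩ := Finset.exists_subset_card_eq (show 3 ≤ (S.erase M).card by omega)
    obtain ⟨x, y, z, hxy, hxz, hyz, rfl⟩ := Finset.card_eq_three.1 hUc
    obtain ⟨hxM, hx⟩ := Finset.mem_erase.1 (hU (show x ∈ _ by simp))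
    obtain ⟨hyM, hy⟩ := Finset.mem_erase.1 (hU (show y ∈ _ by simp))
    obtain ⟨hzM, hz⟩ := Finset.mem_erase.1 (hU (show z ∈ _ by simp))
    have h105 := prod_three (hodd x hx) (hodd y hy) (hodd z hz) (hn3 x hx) (hn3 y hy) (hn3 z hz)
      hxy hxz hyz
    have hd : x * y * z * M ∣ B := by
      refine Nat.Coprime.mul_dvd_of_dvd_of_dvd ?_ (Nat.Coprime.mul_dvd_of_dvd_of_dvd ?_
        (Nat.Coprime.mul_dvd_of_dvd_of_dvd (hcop x hx y hy hxy) (hdvd x hx) (hdvd y hy)) (hdvd z hz))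
        (hdvd M hMS)
      · exact ((hcop x hx M hMS hxM).mul_left (hcop y hy M hMS hyM)).mul_left (hcop z hz M hMS hzM)
      · exact (hcop x hx z hz hxz).mul_left (hcop y hy z hz hyz)
    have hle := le_trans (Nat.mul_le_mul_right M h105) (Nat.le_of_dvd hB0 hd)
    have h7 : 5 ≤ M := hM5
    omega
  -- the three cases
  have hcM := hc M hMS
  have hsplit : ∀ g : ℕ → ℕ, ∑ n ∈ S, g n = ∑ n ∈ S.erase M, g n + g M :=
    fun g => (Finset.sum_erase_add S g hMS).symm
  rw [hsplit] at hB hsum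
  have hmemd : ∀ {p : ℕ} {n : ℕ}, n ∈ S → p ∣ n → p ∣ M ∨ ∃ m ∈ S.erase M, p ∣ m := fun {p n} hn hp => by
    by_cases e : n = M
    · exact Or.inl (e ▸ hp)
    · exact Or.inr ⟨_, Finset.mem_erase.2 ⟨e, hn⟩, hp⟩
  have h3' := hmemd hn₃ hd₃
  have h5' := hmemd hn₅ hd₅
  have hfM := hf M hMS
  have hMpos : 0 < M := by omega
  have hcases : (S.erase M).card = 0 ∨ (S.erase M).card = 1 ∨ (S.erase M).card = 2 := by omega
  rcases hcases with h0 | h1 | h2
  · rw [Finset.card_eq_zero] at h0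
    rw [h0] at hB hsum h3' h5'
    simp only [Finset.sum_empty, zero_add, Finset.notMem_empty, false_and, exists_false,
      or_false] at hB hsum h3' h5'
    refine triple (a := 1) (b := 1) (p := 8) (q := 8) le_rfl (by omega) (Or.inl rfl) (Or.inl rfl) hcM
      odd_one odd_one (hodd M hMS) hM5 (by omega) hBM (by simpa using hdvd M hMS) (by simp) (by simp)
      (h64 M hMS) (Or.inr (Or.inr h3')) (Or.inr (Or.inr h5')) ?_
    refine Nat.lt_of_mul_lt_mul_right (a := B) ?_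
    calc _ = c M * (M - 1) * B := by ring_nf
      _ = M * f M := hfM.symm
      _ < M * (51 * B) := Nat.mul_lt_mul_of_pos_left hsum hMpos
      _ = _ := by ring
  · obtain ⟨x, hx⟩ := Finset.card_eq_one.1 h1
    obtain ⟨hxM, hxS⟩ := Finset.mem_erase.1 (hx ▸ Finset.mem_singleton_self x)
    rw [hx] at hB hsum h3' h5'
    simp only [Finset.sum_singleton, Finset.mem_singleton, exists_eq_left] at hB hsum h3' h5'
    have hxM' : x ≤ M := S.le_max' x hxS
    refine triple (a := 1) (b := x) (p := 8) (by have := hn3 x hxS; omega) hxM' (Or.inl rfl) (hc x hxS)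
      hcM odd_one (hodd x hxS) (hodd M hMS) hM5 (by omega) hBM
      (by simpa using Nat.Coprime.mul_dvd_of_dvd_of_dvd (hcop x hxS M hMS hxM) (hdvd x hxS) (hdvd M hMS))
      (by simp) (h64 x hxS) (h64 M hMS) (by tauto) (by tauto) ?_
    refine Nat.lt_of_mul_lt_mul_right (a := B) ?_
    calc _ = (c x * (x - 1) * B) * M + (c M * (M - 1) * B) * x := by ring_nf
      _ = x * M * (f x + f M) := by rw [← hf x hxS, ← hfM]; ring
      _ < x * M * (51 * B) := Nat.mul_lt_mul_of_pos_left hsum (by have := hn3 x hxS; positivity)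
      _ = _ := by ring
  · obtain ⟨x, y, hxy, hx⟩ := Finset.card_eq_two.1 h2
    wlog hle : x ≤ y generalizing x y
    · exact this y x hxy.symm (by rw [hx, Finset.pair_comm]) (by omega)
    obtain ⟨hxM, hxS⟩ := Finset.mem_erase.1 (show x ∈ S.erase M by rw [hx]; simp)
    obtain ⟨hyM, hyS⟩ := Finset.mem_erase.1 (show y ∈ S.erase M by rw [hx]; simp)
    rw [hx] at hB hsum h3' h5'
    simp only [Finset.sum_pair hxy, Finset.mem_insert, Finset.mem_singleton, or_and_right, exists_or,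
      exists_eq_left] at hB hsum h3' h5'
    refine triple (a := x) (b := y) hle (S.le_max' y hyS) (hc x hxS) (hc y hyS) hcM (hodd x hxS)
      (hodd y hyS) (hodd M hMS) hM5 (by rw [hB]; ring) hBM ?_ (h64 x hxS) (h64 y hyS) (h64 M hMS)
      (by tauto) (by tauto) ?_
    · exact Nat.Coprime.mul_dvd_of_dvd_of_dvd
        ((hcop x hxS M hMS hxM).mul_left (hcop y hyS M hMS hyM))
        (Nat.Coprime.mul_dvd_of_dvd_of_dvd (hcop x hxS y hyS hxy) (hdvd x hxS) (hdvd y hyS)) (hdvd M hMS)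
    refine Nat.lt_of_mul_lt_mul_right (a := B) ?_
    calc _ = (c x * (x - 1) * B) * y * M + (c y * (y - 1) * B) * x * M + (c M * (M - 1) * B) * x * y := by
          ring
      _ = x * y * M * (f x + f y + f M) := by rw [← hf x hxS, ← hf y hyS, ← hfM]; ring
      _ < x * y * M * (51 * B) := Nat.mul_lt_mul_of_pos_left hsum
          (by have := hn3 x hxS; have := hn3 y hyS; positivity)
      _ = _ := by ring

end CfsgLib.Recognition.CIT.FourArith
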