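import Cfsg.Agent.Lib.Recognition.CIT.PairShape
import Cfsg.Agent.S0111

/-!
A pair of natural modules of order sixteen in a simple CIT group generates a Sylow 2-subgroup.
-/

set_option autoImplicit false
set_option linter.unusedSectionVars false
set_option linter.style.haveILetI false

open Subgroup

namespace CfsgLib.Recognition.CIT

open CfsgLib.Recognition.PrimeOrders

variable {G : Type*} [Group G] [Finite G]

/-- An element of a 2-group inverting `y` modulo a 2-group gives an involution inverting `y`. -/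
theorem IsCIT.exists_inverting (H : IsCIT G) {C P : Subgroup G} (hC : IsPGroup 2 C)
    (hP : IsPGroup 2 P) (hCP : C ≤ P) {y s : G} (hy : Odd (orderOf y)) (hy1 : y ≠ 1)
    (hn : ∀ c ∈ C, y⁻¹ * c * y ∈ C) (hs : s ∈ P) (h : s * y * s⁻¹ * y ∈ C) :
    ∃ c ∈ C, orderOf (c * s) = 2 ∧ (c * s) * y * (c * s)⁻¹ = y⁻¹ := by
  obtain ⟨c, hc, e⟩ := H.twist_surjective hC (y := y⁻¹) (by rwa [orderOf_inv])
    (inv_ne_one.2 hy1) (fun c hc => by rw [inv_inv]; exact hn c hc) _ h
  rw [inv_inv] at e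
  have hinv : (c⁻¹ * s) * y * (c⁻¹ * s)⁻¹ = y⁻¹ := by
    calc (c⁻¹ * s) * y * (c⁻¹ * s)⁻¹ = c⁻¹ * (s * y * s⁻¹ * y) * (y⁻¹ * c * y) * y⁻¹ := by group
      _ = y⁻¹ := by rw [← e]; group
  set g := c⁻¹ * s with hg
  have hgP : g ∈ P := P.mul_mem (hCP (C.inv_mem hc)) hs
  have hg2 : g * g = 1 := by
    by_contra hne
    refine hy1 (H.eq_one_of_commute hP (P.mul_mem hgP hgP) hne hy ?_)
    calc y * (g * g) = (g * g) * ((g * g)⁻¹ * y * (g * g)) := by group
      _ = (g * g) * y := by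
        congr 1
        have h1 : g⁻¹ * y * g = y⁻¹ := by
          have h2 : g * y⁻¹ * g⁻¹ = y := by
            have h3 := congrArg (fun t => t⁻¹) hinv
            simpa [mul_assoc] using h3
          calc g⁻¹ * y * g = g⁻¹ * (g * y⁻¹ * g⁻¹) * g := by rw [h2]
            _ = y⁻¹ := by group
        calc (g * g)⁻¹ * y * (g * g) = g⁻¹ * (g⁻¹ * y * g) * g := by group
          _ = g⁻¹ * y⁻¹ * g := by rw [h1]
          _ = (g⁻¹ * y * g)⁻¹ := by group
          _ = y := by rw [h1, inv_inv]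
  refine ⟨c⁻¹, C.inv_mem hc, orderOf_eq_prime (by rw [pow_two]; exact hg2) fun e1 => hy1 ?_, hinv⟩
  rw [show g = 1 from e1, one_mul, inv_one, mul_one] at hinv
  have hd : orderOf y ∣ 2 := orderOf_dvd_of_pow_eq_one (by rw [pow_two]; exact mul_eq_one_iff_eq_inv.2 hinv)
  rcases (Nat.dvd_prime Nat.prime_two).1 hd with e' | e'
  · exact orderOf_eq_one_iff.1 e'
  · rw [e'] at hy; exact absurd hy (by decide)

namespace Shape

variable {V V' T : Subgroup G}

theorem cj_module (P : Shape V V' T) (H : IsCIT G) {x : G} (hx : x ∈ normalizer (T : Set G))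
    (hxV : x ∉ normalizer (V : Set G)) :
    PrimeOrders.cj x V = V' ∧ PrimeOrders.cj x V' = V := by
  have hxT : PrimeOrders.cj x T = T := mem_normalizer_iff_cj.1 hx
  have hle : ∀ U ≤ T, PrimeOrders.cj x U ≤ T := fun U hU => hxT ▸ cj_mono hU
  have h1 : PrimeOrders.cj x V = V' := by
    rcases P.elem_le H (P.nat.cj x).elem (hle V P.le) with h | h
    · exact absurd (mem_normalizer_iff_cj.2 (Subgroup.eq_of_le_of_card_ge h (card_cj x V).ge)) hxV
    · exact Subgroup.eq_of_le_of_card_ge h (by rw [card_cj, P.cardV, P.cardV'])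
  refine ⟨h1, ?_⟩
  rcases P.elem_le H (P.nat'.cj x).elem (hle V' P.le') with h | h
  · exact Subgroup.eq_of_le_of_card_ge h (by rw [card_cj, P.cardV, P.cardV'])
  · exfalso
    have e : PrimeOrders.cj x V' = V' := Subgroup.eq_of_le_of_card_ge h (card_cj x V').ge
    refine P.ne ?_
    calc V' = PrimeOrders.cj x⁻¹ (PrimeOrders.cj x V') := (cj_inv_cj x V').symm
      _ = V := by rw [e, ← h1, cj_inv_cj]

theorem inter_conj (P : Shape V V' T) (H : IsCIT G) {x w : G} (hx : x ∈ normalizer (T : Set G))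
    (hw : w ∈ V ⊓ V') : x * w * x⁻¹ ∈ V ⊓ V' := by
  by_cases hxV : x ∈ normalizer (V : Set G)
  · exact ⟨conj_mem_of_normalizer hxV hw.1,
      conj_mem_of_normalizer (P.normalizer_other H hxV hx) hw.2⟩
  · obtain ⟨h1, h2⟩ := P.cj_module H hx hxV
    exact ⟨h2 ▸ conj_mem_cj hw.2, h1 ▸ conj_mem_cj hw.1⟩

/-- An element of order three in the torus. -/
theorem exists_k (P : Shape V V' T) (H : IsCIT G) (h4 : Nat.card ↥(V ⊓ V') = 4) :
    ∃ k, k ∈ normalizer (V : Set G) ∧ k ∈ normalizer (T : Set G) ∧ orderOf k = 3 := by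
  classical
  haveI : Fact (Nat.Prime 3) := ⟨Nat.prime_three⟩
  set B := normalizer (V : Set G) ⊓ normalizer (T : Set G) with hB
  obtain ⟨w, hw, hw1⟩ := exists_ne_one (A := V ⊓ V') (fun e => by
    rw [e, Subgroup.card_bot] at h4; omega)
  set C := (centralizer ({w} : Set G)).subgroupOf B with hC
  let f : B ⧸ C → {u : ↥(V ⊓ V') // u ≠ 1} := Quotient.lift
    (fun b : B => ⟨⟨(b : G) * w * (b : G)⁻¹, P.inter_conj H b.2.2 hw⟩,
      fun e => hw1 (conj_eq_one_iff.1 (congrArg Subtype.val e))⟩)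
    (fun a b e => by
      replace e := Subgroup.mem_subgroupOf.1 (QuotientGroup.leftRel_apply.1 e)
      rw [Subgroup.mem_centralizer_singleton_iff, Subgroup.coe_mul, Subgroup.coe_inv] at e
      refine Subtype.ext (Subtype.ext ?_)
      show (a : G) * w * (a : G)⁻¹ = (b : G) * w * (b : G)⁻¹
      calc (a : G) * w * (a : G)⁻¹ = (a : G) * (w * ((a : G)⁻¹ * b)) * (b : G)⁻¹ := by group
        _ = (b : G) * w * (b : G)⁻¹ := by rw [← e]; group)
  have hf : Function.Bijective f := by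
    constructor
    · intro p q e
      induction p using QuotientGroup.induction_on with
      | _ a =>
      induction q using QuotientGroup.induction_on with
      | _ b =>
      have e' : (a : G) * w * (a : G)⁻¹ = (b : G) * w * (b : G)⁻¹ :=
        congrArg (fun u : {u : ↥(V ⊓ V') // u ≠ 1} => ((u : ↥(V ⊓ V')) : G)) e
      rw [QuotientGroup.eq, Subgroup.mem_subgroupOf, Subgroup.mem_centralizer_singleton_iff,
        Subgroup.coe_mul, Subgroup.coe_inv]
      calc (a : G)⁻¹ * b * w = (a : G)⁻¹ * ((b : G) * w * (b : G)⁻¹) * b := by group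
        _ = w * ((a : G)⁻¹ * b) := by rw [← e']; group
    · rintro ⟨⟨u, hu⟩, hu1⟩
      rw [← P.inter] at hw hu
      obtain ⟨x, h1, h2, e⟩ := P.nat.torus_trans H P.syl hw hw1 hu (fun e => hu1 (Subtype.ext e))
      exact ⟨((⟨x, h1, h2⟩ : B) : B ⧸ C), Subtype.ext (Subtype.ext e)⟩
  have h3 : 3 ∣ Nat.card B := by
    have hcard := Nat.card_eq_of_bijective f hf
    haveI := Fintype.ofFinite ↥(V ⊓ V')
    have h3' : Nat.card {u : ↥(V ⊓ V') // u ≠ 1} = 3 := by
      rw [Nat.card_eq_fintype_card, Fintype.card_subtype_compl, Fintype.card_subtype_eq,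
        ← Nat.card_eq_fintype_card, h4]
    rw [← Subgroup.card_mul_index C]
    exact dvd_mul_of_dvd_right (by rw [Subgroup.index, hcard, h3']) _
  obtain ⟨k, hk⟩ := exists_prime_orderOf_dvd_card' (G := B) 3 h3
  exact ⟨k, k.2.1, k.2.2, by rw [Subgroup.orderOf_coe, hk]⟩

theorem no_fixed (P : Shape V V' T) (H : IsCIT G) {k : G} (hk : orderOf k = 3) {t : G} (ht : t ∈ T)
    (e : k * t = t * k) : t = 1 := by
  by_contra ht1
  have := H.eq_one_of_commute P.syl.2.1 ht ht1 (by rw [hk]; decide) e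
  rw [this, orderOf_one] at hk
  omega

/-- The torus permutes the nonidentity elements of the intersection in a three-cycle. -/
theorem three_cycle (P : Shape V V' T) (H : IsCIT G) (h4 : Nat.card ↥(V ⊓ V') = 4) {k z : G}
    (hkT : k ∈ normalizer (T : Set G)) (hk : orderOf k = 3) (hz : z ∈ V ⊓ V') (hz1 : z ≠ 1) :
    (∀ w ∈ V ⊓ V', w = 1 ∨ w = z ∨ w = k * z * k⁻¹ ∨ w = k * (k * z * k⁻¹) * k⁻¹) ∧
      k * (k * (k * z * k⁻¹) * k⁻¹) * k⁻¹ = z := by
  classical
  have hk3 : k ^ 3 = 1 := hk ▸ pow_orderOf_eq_one k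
  have h3 : k * (k * (k * z * k⁻¹) * k⁻¹) * k⁻¹ = z := by
    calc k * (k * (k * z * k⁻¹) * k⁻¹) * k⁻¹ = k ^ 3 * z * (k ^ 3)⁻¹ := by
          simp only [pow_succ, pow_zero, one_mul]; group
      _ = z := by rw [hk3]; group
  refine ⟨?_, h3⟩
  have hz' := P.inter_conj H hkT hz
  have hz'' := P.inter_conj H hkT hz'
  have hne : ∀ u ∈ V ⊓ V', u ≠ 1 → k * u * k⁻¹ ≠ u := fun u hu hu1 e =>
    hu1 (P.no_fixed H hk (P.le hu.1) (mul_inv_eq_iff_eq_mul.1 e))
  let g : Fin 4 → ↥(V ⊓ V') := ![1, ⟨z, hz⟩, ⟨_, hz'⟩, ⟨_, hz''⟩]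
  have n1 : k * z * k⁻¹ ≠ 1 := fun e => hz1 (conj_eq_one_iff.1 e)
  have n2 : k * (k * z * k⁻¹) * k⁻¹ ≠ 1 := fun e => n1 (conj_eq_one_iff.1 e)
  have n3 := hne z hz hz1
  have n4 := hne _ hz' n1
  have n5 : k * (k * z * k⁻¹) * k⁻¹ ≠ z := fun e => by
    rw [e] at h3
    exact n3 h3
  have hg : Function.Injective g := by
    intro i j e
    have e' : ((g i : ↥(V ⊓ V')) : G) = g j := congrArg Subtype.val e
    fin_cases i <;> fin_cases j <;> first
      | rfl
      | exact absurd e' (Ne.symm hz1) | exact absurd e' hz1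
      | exact absurd e' (Ne.symm n1) | exact absurd e' n1
      | exact absurd e' (Ne.symm n2) | exact absurd e' n2
      | exact absurd e' (Ne.symm n3) | exact absurd e' n3
      | exact absurd e' (Ne.symm n4) | exact absurd e' n4
      | exact absurd e' (Ne.symm n5) | exact absurd e' n5
  intro w hw
  obtain ⟨i, hi⟩ := ((Nat.bijective_iff_injective_and_card g).2 ⟨hg, by rw [Nat.card_fin, h4]⟩).2 ⟨w, hw⟩
  have hi' : ((g i : ↥(V ⊓ V')) : G) = w := congrArg Subtype.val hi
  subst hi'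
  fin_cases i
  · exact Or.inl rfl
  · exact Or.inr (Or.inl rfl)
  · exact Or.inr (Or.inr (Or.inl rfl))
  · exact Or.inr (Or.inr (Or.inr rfl))

/-- An involution of `T` is conjugate to an element of the intersection. -/
theorem exists_conj_inter (P : Shape V V' T) (H : IsCIT G) {t : G} (ht : t ∈ T) (h2 : t * t = 1)
    (ht1 : t ≠ 1) : ∃ g w, w ∈ V ⊓ V' ∧ w ≠ 1 ∧ g * w * g⁻¹ = t := by
  have main : ∀ {V V' T : Subgroup G}, Shape V V' T → t ∈ V →
      ∃ g w, w ∈ V ⊓ V' ∧ w ≠ 1 ∧ g * w * g⁻¹ = t := by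
    intro V V' T P htV
    by_cases htW : t ∈ V ⊓ V'
    · exact ⟨1, t, htW, ht1, by group⟩
    obtain ⟨σ, hσN, -, -, -, hσW⟩ := P.nat.exists_sigma H P.syl
    rw [P.inter] at hσW
    -- `V = W × W^σ`
    have hcard : Nat.card V ≤ Nat.card (↥(V ⊓ V') × ↥(V ⊓ V')) := by rw [Nat.card_prod, ← P.cardV]
    let f : ↥(V ⊓ V') × ↥(V ⊓ V') → V := fun p => ⟨(p.1 : G) * (σ * p.2 * σ⁻¹),
      V.mul_mem p.1.2.1 (conj_mem_of_normalizer hσN p.2.2.1)⟩
    have hf : Function.Injective f := by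
      rintro ⟨a, b⟩ ⟨a', b'⟩ e
      have e' : (a : G) * (σ * b * σ⁻¹) = a' * (σ * b' * σ⁻¹) := congrArg Subtype.val e
      have e2 : σ * ((b : G) * (b' : G)⁻¹) * σ⁻¹ = (a : G)⁻¹ * a' := by
        calc σ * ((b : G) * (b' : G)⁻¹) * σ⁻¹
            = (a : G)⁻¹ * ((a : G) * (σ * b * σ⁻¹)) * (σ * b' * σ⁻¹)⁻¹ := by group
          _ = (a : G)⁻¹ * a' := by rw [e']; group
      have h1 := hσW _ ((V ⊓ V').mul_mem b.2 ((V ⊓ V').inv_mem b'.2))
        (e2 ▸ (V ⊓ V').mul_mem ((V ⊓ V').inv_mem a.2) a'.2)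
      rw [mul_inv_eq_one] at h1
      rw [h1] at e'
      exact Prod.ext (Subtype.ext (mul_right_cancel e')) (Subtype.ext h1)
    obtain ⟨⟨a, b⟩, hab⟩ :=
      (hf.bijective_of_nat_card_le hcard).2 ⟨t, htV⟩
    have hab' : (a : G) * (σ * b * σ⁻¹) = t := congrArg Subtype.val hab
    have hb1 : (b : G) ≠ 1 := fun e => htW (by
      rw [← hab', e, mul_one, mul_inv_cancel, mul_one]; exact a.2)
    -- move the coset representative
    have hσb : σ * b * σ⁻¹ ∈ V := conj_mem_of_normalizer hσN b.2.1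
    have hσbW : σ * b * σ⁻¹ ∉ V ⊓ centralizer (T : Set G) := fun hm =>
      hb1 (hσW _ b.2 (by rw [P.inter] at hm; exact hm))
    obtain ⟨s, hs, e⟩ := P.nat.exists_commutator H P.syl hσb hσbW (w := (a : G)) (by rw [P.inter]; exact a.2)
    refine ⟨s * σ, b, b.2, hb1, ?_⟩
    calc s * σ * (b : G) * (s * σ)⁻¹ = (σ * b * σ⁻¹) * (σ * b * σ⁻¹) * (s * (σ * b * σ⁻¹) * s⁻¹) := by
          rw [P.nat.elem _ hσb]; group
      _ = (σ * b * σ⁻¹) * a := by rw [← e, mul_assoc]
      _ = t := by rw [← hab']; exact P.nat.elem.comm hσb a.2.1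
  rcases P.involution_mem H ht h2 with h | h
  · exact main P h
  · obtain ⟨g, w, hw, hw1, e⟩ := main P.symm h
    exact ⟨g, w, ⟨hw.2, hw.1⟩, hw1, e⟩

theorem sq_mem_inter (P : Shape V V' T) (H : IsCIT G) {t : G} (ht : t ∈ T) : t * t ∈ V ⊓ V' := by
  have h1 := P.nat.sq_mem H P.syl ht
  have h2 := P.nat'.sq_mem H P.syl' ht
  rw [P.self] at h1; rw [P.self'] at h2
  exact ⟨h1, h2⟩

/-- An element swapping the modules is impossible. -/
theorem sylow_four [IsSimpleGroup G] (P : Shape V V' T) (H : IsCIT G) (hna : ¬ IsMulCommutative G)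
    (h4 : Nat.card ↥(V ⊓ V') = 4) : IsSyl T ⊤ := by
  classical
  haveI : Fact (Nat.Prime 2) := ⟨Nat.prime_two⟩
  obtain ⟨S₀, hTS₀, hS₀⟩ := exists_isSyl (le_top : T ≤ (⊤ : Subgroup G)) P.syl.2.1
  rcases eq_or_lt_of_le hTS₀ with e | hlt
  · exact e ▸ hS₀
  exfalso
  obtain ⟨s, hs, hsT⟩ := SetLike.exists_of_lt (PrimeOrders.exists_normalizing hS₀.2.1 hlt)
  set R₀ := S₀ ⊓ normalizer (T : Set G) with hR₀
  have hR₀2 : IsPGroup 2 R₀ := hS₀.2.1.to_le inf_le_left
  have hTR₀ : T ≤ R₀ := le_inf hTS₀ Subgroup.le_normalizer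
  have key : ∀ y ∈ R₀, y ∈ normalizer (V : Set G) → y ∈ T := by
    intro y hy hyV
    have e : T = R₀ ⊓ normalizer (V : Set G) := Subgroup.eq_of_le_of_card_ge
      (le_inf hTR₀ P.syl.1) (P.syl.2.2 _ inf_le_right (hR₀2.to_le inf_le_left))
    exact e ▸ ⟨hy, hyV⟩
  have hsV : s ∉ normalizer (V : Set G) := fun h => hsT (key s hs h)
  obtain ⟨k, hkV, hkT, hk⟩ := P.exists_k H h4
  have hk1 : k ≠ 1 := fun e => by rw [e, orderOf_one] at hk; omega
  have hkodd : Odd (orderOf k) := by rw [hk]; decide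
  have hskV : s * k * s⁻¹ ∈ normalizer (V : Set G) := by
    rw [mem_normalizer_iff_cj, ← cj_cj, ← cj_cj]
    obtain ⟨-, h2⟩ := P.cj_module H ((normalizer (T : Set G)).inv_mem hs.2)
      (fun h => hsV (inv_mem_iff.1 h))
    obtain ⟨h3, h4'⟩ := P.cj_module H hs.2 hsV
    have h1 : PrimeOrders.cj s⁻¹ V = V' := by rw [← h4', cj_inv_cj]
    rw [h1, mem_normalizer_iff_cj.1 (P.normalizer_other H hkV hkT), h4']
  have hskT : s * k * s⁻¹ ∈ normalizer (T : Set G) :=
    (normalizer (T : Set G)).mul_mem ((normalizer (T : Set G)).mul_mem hs.2 hkT)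
      ((normalizer (T : Set G)).inv_mem hs.2)
  set B := normalizer (V : Set G) ⊓ normalizer (T : Set G) with hB
  -- the kernel of the torus on `W` is `T`
  have hker : ∀ b ∈ B, (∀ w ∈ V ⊓ V', b * w * b⁻¹ = w) → b ∈ T := by
    intro b hb hfix
    set C := B ⊓ centralizer ((V ⊓ V' : Subgroup G) : Set G) with hC
    have hW1 : V ⊓ V' ≠ ⊥ := fun e => by rw [e, Subgroup.card_bot] at h4; omega
    have hC2 : IsPGroup 2 C :=
      (H.centralizer_isPGroup (P.syl.2.1.to_le (inf_le_left.trans P.le)) hW1).to_le inf_le_right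
    have e : T = C := Subgroup.eq_of_le_of_card_ge
      (le_inf (le_inf P.syl.1 Subgroup.le_normalizer) fun t ht =>
        Subgroup.mem_centralizer_iff.2 fun w hw => (P.W_fixed hw ht).symm)
      (P.syl.2.2 C (inf_le_left.trans inf_le_left) hC2)
    rw [e]
    exact ⟨hb, Subgroup.mem_centralizer_iff.2 fun w hw => (mul_inv_eq_iff_eq_mul.1 (hfix w hw)).symm⟩
  have hkn : ∀ c ∈ T, k * c * k⁻¹ ∈ T := fun c hc => conj_mem_of_normalizer hkT hc
  have hkn' : ∀ c ∈ T, k⁻¹ * c * k ∈ T := fun c hc => by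
    have := conj_mem_of_normalizer ((normalizer (T : Set G)).inv_mem hkT) hc
    rwa [inv_inv] at this
  -- `s` fixes an element of `W`
  obtain ⟨z, hz, hz1, hsz⟩ : ∃ z ∈ V ⊓ V', z ≠ 1 ∧ s * z * s⁻¹ = z := by
    obtain ⟨w, hw, hw1⟩ := exists_ne_one (A := V ⊓ V') (fun e => by
      rw [e, Subgroup.card_bot] at h4; omega)
    by_cases hsw : s * w * s⁻¹ = w
    · exact ⟨w, hw, hw1, hsw⟩
    have hw' := P.inter_conj H hs.2 hw
    refine ⟨w * (s * w * s⁻¹), (V ⊓ V').mul_mem hw hw', fun e => hsw ?_, ?_⟩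
    · rw [← inv_eq_of_mul_eq_one_right e, inv_eq_of_mul_eq_one_right (P.nat.elem w hw.1)]
    · have hss : (s * s) * w * (s * s)⁻¹ = w := by
        have hmem : s * s ∈ T := by
          refine key _ (R₀.mul_mem hs hs) (mem_normalizer_iff_cj.2 ?_)
          obtain ⟨h1, h2⟩ := P.cj_module H hs.2 hsV
          rw [← cj_cj, h1, h2]
        rw [P.W_fixed hw hmem, mul_inv_cancel_right]
      calc s * (w * (s * w * s⁻¹)) * s⁻¹ = (s * w * s⁻¹) * ((s * s) * w * (s * s)⁻¹) := by group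
        _ = w * (s * w * s⁻¹) := by rw [hss, P.nat.elem.comm hw'.1 hw.1]
  obtain ⟨hWc, hz3⟩ := P.three_cycle H h4 hkT hk hz hz1
  set z₁ := k * z * k⁻¹ with hz₁
  set z₂ := k * z₁ * k⁻¹ with hz₂
  have hzk : z₁ ∈ V ⊓ V' := P.inter_conj H hkT hz
  have hzk2 : z₂ ∈ V ⊓ V' := P.inter_conj H hkT hzk
  -- `s` swaps the other two
  have hs1 : s * z₁ * s⁻¹ = z₂ := by
    rcases hWc _ (P.inter_conj H hs.2 hzk) with e | e | e | e
    · exact absurd (conj_eq_one_iff.1 (conj_eq_one_iff.1 e)) hz1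
    · exfalso
      have e' : z₁ = z := (MulAut.conj s).injective (e.trans hsz.symm)
      exact hz1 (P.no_fixed H hk (P.le hz.1) (mul_inv_eq_iff_eq_mul.1 e'))
    · exfalso
      -- `s` would centralise `W`
      have hsW : ∀ w ∈ V ⊓ V', s * w * s⁻¹ = w := by
        intro w hw
        have e2 : s * z₂ * s⁻¹ = z₂ := by
          rcases hWc _ (P.inter_conj H hs.2 hzk2) with f | f | f | f
          · exact absurd (conj_eq_one_iff.1 (conj_eq_one_iff.1 (conj_eq_one_iff.1 f))) hz1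
          · exact absurd ((MulAut.conj s).injective (f.trans hsz.symm)) fun e' => by
              rw [show z₂ = z from e'] at hz3
              exact hz1 (P.no_fixed H hk (P.le hz.1) (mul_inv_eq_iff_eq_mul.1 hz3))
          · exact absurd ((MulAut.conj s).injective (f.trans e.symm)) fun e' => by
              exact absurd (conj_eq_one_iff.1 (show k * z * k⁻¹ = 1 from
                P.no_fixed H hk (P.le hzk.1) (mul_inv_eq_iff_eq_mul.1 e'))) hz1
          · exact f
        rcases hWc w hw with rfl | rfl | rfl | rfl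
        · group
        · exact hsz
        · exact e
        · exact e2
      have hmem : s * k * s⁻¹ * k⁻¹ ∈ T := by
        refine hker _ (B.mul_mem ⟨hskV, hskT⟩ (B.inv_mem ⟨hkV, hkT⟩)) fun w hw => ?_
        have h0 : k⁻¹ * w * k ∈ V ⊓ V' := by
          have := P.inter_conj H ((normalizer (T : Set G)).inv_mem hkT) hw
          rwa [inv_inv] at this
        have h1 : s⁻¹ * (k⁻¹ * w * k) * s = k⁻¹ * w * k := by
          conv_lhs => rw [← hsW _ h0]
          group
        calc s * k * s⁻¹ * k⁻¹ * w * (s * k * s⁻¹ * k⁻¹)⁻¹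
            = s * (k * (s⁻¹ * (k⁻¹ * w * k) * s) * k⁻¹) * s⁻¹ := by group
          _ = s * w * s⁻¹ := by rw [h1]; group
          _ = w := hsW w hw
      have hmem' : s⁻¹ * (k * s * k⁻¹) ∈ T := by
        have h1 : (s * k * s⁻¹ * k⁻¹)⁻¹ ∈ T := T.inv_mem hmem
        have h2 := conj_mem_of_normalizer ((normalizer (T : Set G)).inv_mem hs.2) h1
        have e : s⁻¹ * (s * k * s⁻¹ * k⁻¹)⁻¹ * s⁻¹⁻¹ = s⁻¹ * (k * s * k⁻¹) := by group
        rwa [e] at h2
      obtain ⟨c, hc, hcs⟩ := H.exists_commute_coset P.syl.2.1 (y := k) hkodd hkn hmem'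
      refine hk1 (H.eq_one_of_commute hR₀2 (R₀.mul_mem hs (hTR₀ hc)) (fun e => hsT ?_) hkodd hcs)
      rw [mul_eq_one_iff_eq_inv.1 e]
      exact T.inv_mem hc
    · exact e
  have hs2 : s * z₂ * s⁻¹ = z₁ := by
    rcases hWc _ (P.inter_conj H hs.2 hzk2) with e | e | e | e
    · exact absurd (conj_eq_one_iff.1 (conj_eq_one_iff.1 (conj_eq_one_iff.1 e))) hz1
    · exfalso
      have e' : z₂ = z := (MulAut.conj s).injective (e.trans hsz.symm)
      rw [e'] at hz3
      exact hz1 (P.no_fixed H hk (P.le hz.1) (mul_inv_eq_iff_eq_mul.1 hz3))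
    · exact e
    · exfalso
      have e' : z₂ = z₁ := (MulAut.conj s).injective (e.trans hs1.symm)
      exact hz1 (conj_eq_one_iff.1 (P.no_fixed H hk (P.le hzk.1) (mul_inv_eq_iff_eq_mul.1 e')))
  -- `s` inverts `k` modulo `T`
  have hinvT : s * k * s⁻¹ * k ∈ T := by
    refine hker _ (B.mul_mem ⟨hskV, hskT⟩ ⟨hkV, hkT⟩) fun w hw => ?_
    have hfix : (s * k * s⁻¹ * k) * z * (s * k * s⁻¹ * k)⁻¹ = z := by
      have h1 : s⁻¹ * z₁ * s = z₂ := by rw [← hs2]; group
      calc (s * k * s⁻¹ * k) * z * (s * k * s⁻¹ * k)⁻¹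
          = s * (k * (s⁻¹ * z₁ * s) * k⁻¹) * s⁻¹ := by rw [hz₁]; group
        _ = z := by rw [h1, hz3, hsz]
    by_cases hw1 : w = 1
    · rw [hw1]; group
    rw [← P.inter] at hw hz
    obtain ⟨p, hp1, hp2, e⟩ := P.nat.torus_trans H P.syl hz hz1 hw hw1
    rw [← e, P.nat.torus_comm H P.syl
      ((normalizer (V : Set G)).mul_mem hskV hkV) ((normalizer (T : Set G)).mul_mem hskT hkT) hp1 hp2 hz,
      hfix]
  obtain ⟨c, hc, hx2, hxk⟩ := H.exists_inverting P.syl.2.1 hR₀2 hTR₀ hkodd hk1 hkn' hs hinvT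
  set x := c * s with hx
  have hxR : x ∈ R₀ := R₀.mul_mem (hTR₀ hc) hs
  have hxT : x ∉ T := fun h => hsT (by
    have := T.mul_mem (T.inv_mem hc) h
    rwa [hx, inv_mul_cancel_left] at this)
  have hxN : x ∈ normalizer (T : Set G) := hxR.2
  have hxV : x ∉ normalizer (V : Set G) := fun h => hxT (key x hxR h)
  obtain ⟨hxV1, hxV2⟩ := P.cj_module H hxN hxV
  have hxx : x * x = 1 := by rw [← pow_two, ← hx2, pow_orderOf_eq_one]
  have hxi : x⁻¹ = x := inv_eq_of_mul_eq_one_right hxx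
  have hxz : x * z * x⁻¹ = z := by
    calc x * z * x⁻¹ = c * (s * z * s⁻¹) * c⁻¹ := by rw [hx]; group
      _ = z := by rw [hsz, P.W_fixed hz hc, mul_inv_cancel_right]
  have hxW : ∀ w ∈ V ⊓ V', x * w * x⁻¹ = w → w = 1 ∨ w = z := by
    intro w hw e
    have e' : s * w * s⁻¹ = w := by
      calc s * w * s⁻¹ = c⁻¹ * (x * w * x⁻¹) * c := by rw [hx]; group
        _ = c⁻¹ * (w * c) := by rw [e, mul_assoc]
        _ = w := by rw [← P.W_fixed hw hc, inv_mul_cancel_left]
    rcases hWc w hw with h | h | h | h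
    · exact Or.inl h
    · exact Or.inr h
    · rw [h, hs1] at e'
      exact absurd (conj_eq_one_iff.1 (P.no_fixed H hk (P.le hzk.1) (mul_inv_eq_iff_eq_mul.1 e'))) hz1
    · rw [h, hs2] at e'
      exact absurd (conj_eq_one_iff.1 (P.no_fixed H hk (P.le hzk.1) (mul_inv_eq_iff_eq_mul.1 e'.symm))) hz1
  -- the Sylow 2-subgroup `S = T⟨x⟩`
  set S := T ⊔ zpowers x with hS
  have hSR : S ≤ R₀ := sup_le hTR₀ (zpowers_le.2 hxR)
  have hdec : ∀ g ∈ S, g ∈ T ∨ g * x ∈ T := by
    let Z : Subgroup G :=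
      { carrier := {g | g ∈ T ∨ g * x ∈ T}
        one_mem' := Or.inl T.one_mem
        mul_mem' := by
          rintro a b ha hb
          have hconj : ∀ t ∈ T, x * t * x ∈ T := fun t ht => by
            have := conj_mem_of_normalizer hxN ht
            rwa [hxi] at this
          rcases ha with ha | ha <;> rcases hb with hb | hb
          · exact Or.inl (T.mul_mem ha hb)
          · exact Or.inr (by rw [mul_assoc]; exact T.mul_mem ha hb)
          · refine Or.inr ?_
            have : a * b * x = (a * x) * (x * b * x) := by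
              calc a * b * x = a * ((x * x) * b) * x := by rw [hxx, one_mul]
                _ = (a * x) * (x * b * x) := by group
            rw [this]
            exact T.mul_mem ha (hconj b hb)
          · refine Or.inl ?_
            have : a * b = (a * x) * (x * (b * x) * x) := by
              calc a * b = a * (x * x) * b * (x * x) := by rw [hxx, mul_one, mul_one]
                _ = (a * x) * (x * (b * x) * x) := by group
            rw [this]
            exact T.mul_mem ha (hconj _ hb)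
        inv_mem' := by
          rintro a (ha | ha)
          · exact Or.inl (T.inv_mem ha)
          · refine Or.inr ?_
            have : a⁻¹ * x = x * (a * x)⁻¹ * x⁻¹ := by
              rw [mul_inv_rev, mul_inv_cancel_left, hxi]
            rw [this]
            exact conj_mem_of_normalizer hxN (T.inv_mem ha) }
    have hle : S ≤ Z := sup_le (fun t ht => Or.inl ht)
      (zpowers_le.2 (Or.inr (by rw [hxx]; exact T.one_mem)))
    exact fun g hg => hle hg
  have hT64 : Nat.card T = 64 := by rw [P.cardT, h4]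
  have hidx : (T.subgroupOf S).index = 2 := by
    rw [Subgroup.index_eq_two_iff]
    refine ⟨⟨x, (le_sup_right : zpowers x ≤ S) (mem_zpowers x)⟩, fun g => ?_⟩
    rw [Subgroup.mem_subgroupOf, Subgroup.mem_subgroupOf, Subgroup.coe_mul]
    by_cases hg : (g : G) ∈ T
    · exact Or.inr ⟨hg, fun h => hxT (by simpa using T.mul_mem (T.inv_mem hg) h)⟩
    · exact Or.inl ⟨(hdec g g.2).resolve_left hg, hg⟩
  have hS128 : Nat.card S = 128 := by
    have := Subgroup.card_mul_index (T.subgroupOf S)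
    rw [hidx, Nat.card_congr (Subgroup.subgroupOfEquivOfLe (le_sup_left : T ≤ S)).toEquiv, hT64] at this
    omega
  have hS2 : IsPGroup 2 S := hR₀2.to_le hSR
  have hsylS : IsSyl S ⊤ := by
    obtain ⟨Q, hSQ, hQ⟩ := exists_isSyl (le_top : S ≤ (⊤ : Subgroup G)) hS2
    rcases eq_or_lt_of_le hSQ with e | hlt'
    · exact e ▸ hQ
    exfalso
    obtain ⟨y, hy, hyS⟩ := SetLike.exists_of_lt (PrimeOrders.exists_normalizing hQ.2.1 hlt')
    have hcjS : PrimeOrders.cj y S = S := mem_normalizer_iff_cj.1 hy.2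
    -- elementary subgroups of order 16 of `S` lie in `T`
    have hE : ∀ E : Subgroup G, E ≤ S → Elem E → Nat.card E = 16 → E ≤ T := by
      intro E hES hEe hE16
      by_contra hET
      obtain ⟨e, he, heT⟩ := SetLike.not_le_iff_exists.1 hET
      have h8 : 8 ≤ Nat.card ↥(E ⊓ T) := by
        have h1 := card_mul_le E T
        have h2 := Subgroup.card_le_of_le (sup_le hES (le_sup_left : T ≤ S))
        rw [hE16, hT64] at h1; rw [hS128] at h2
        nlinarith [Nat.mul_le_mul_right (Nat.card ↥(E ⊓ T)) h2]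
      have heN : e ∈ normalizer (T : Set G) := (hSR (hES he)).2
      have heV : e ∉ normalizer (V : Set G) := fun h => heT (key e (hSR (hES he)) h)
      obtain ⟨he1, he2⟩ := P.cj_module H heN heV
      have hfix : ∀ a ∈ E, e * a * e⁻¹ = a := fun a ha => by
        rw [hEe.comm he ha, mul_inv_cancel_right]
      have hle : E ⊓ T ≤ V ⊓ V' := by
        rcases P.elem_le H (E := E ⊓ T) (fun a ha => hEe a ha.1) (inf_le_right : E ⊓ T ≤ T) with h | h
        · intro a ha
          have h1 := conj_mem_cj (g := e) (h ha)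
          rw [he1, hfix a ha.1] at h1
          exact ⟨h ha, h1⟩
        · intro a ha
          have h1 := conj_mem_cj (g := e) (h ha)
          rw [he2, hfix a ha.1] at h1
          exact ⟨h1, h ha⟩
      have := Subgroup.card_le_of_le hle
      omega
    have hV16 : ∀ U : Subgroup G, U ≤ T → Elem U → Nat.card U = 16 →
        PrimeOrders.cj y U ≤ T := by
      intro U hU hUe hU16
      refine hE _ (hcjS ▸ cj_mono (hU.trans le_sup_left)) (fun a ha => ?_) (by rw [card_cj, hU16])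
      rw [mem_cj] at ha
      calc a * a = y * ((y⁻¹ * a * y) * (y⁻¹ * a * y)) * y⁻¹ := by group
        _ = 1 := by rw [hUe _ ha]; group
    have hyT : y ∈ normalizer (T : Set G) := by
      rw [mem_normalizer_iff_cj]
      refine Subgroup.eq_of_le_of_card_ge ?_ (card_cj y T).ge
      rintro _ ⟨t, ht, rfl⟩
      obtain ⟨v, hv, v', hv', rfl⟩ := P.gen t ht
      rw [map_mul]
      exact T.mul_mem (hV16 V P.le P.nat.elem (by rw [P.cardV, h4]) ⟨v, hv, rfl⟩)
        (hV16 V' P.le' P.nat'.elem (by rw [P.cardV', h4]) ⟨v', hv', rfl⟩)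
    have hxQ : x ∈ Q := hSQ ((le_sup_right : zpowers x ≤ S) (mem_zpowers x))
    set U := Q ⊓ normalizer (V : Set G) with hU
    have hUT : U ≤ T := by
      have e : T = U := Subgroup.eq_of_le_of_card_ge
        (le_inf ((le_sup_left : T ≤ S).trans hSQ) P.syl.1)
        (P.syl.2.2 _ inf_le_right (hQ.2.1.to_le inf_le_left))
      exact e.ge
    by_cases hyV : y ∈ normalizer (V : Set G)
    · exact hyS ((le_sup_left : T ≤ S) (hUT ⟨hy.1, hyV⟩))
    · obtain ⟨-, h2⟩ := P.cj_module H hyT hyV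
      obtain ⟨h1, -⟩ := P.cj_module H hxN hxV
      have : y * x ∈ T := hUT ⟨Q.mul_mem hy.1 hxQ, mem_normalizer_iff_cj.2 (by rw [← cj_cj, h1, h2])⟩
      apply hyS
      have := S.mul_mem ((le_sup_left : T ≤ S) this) ((le_sup_right : zpowers x ≤ S) (mem_zpowers x))
      rwa [mul_assoc, hxx, mul_one] at this
  -- transfer
  obtain ⟨SS, hSS⟩ := hS2.exists_le_sylow
  have hSeq : (SS : Subgroup G) = S :=
    (Subgroup.eq_of_le_of_card_ge hSS (hsylS.2.2 _ le_top SS.isPGroup')).symm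
  rcases Cfsg.Agent.S0111.result SS T (hSeq ▸ le_sup_left) (by rw [Subgroup.relIndex, hSeq]; exact hidx)
    x hx2 (hSeq ▸ (le_sup_right : zpowers x ≤ S) (mem_zpowers x)) hxT with ⟨M, hM, hM2, hxM⟩ | ⟨g, hg⟩
  · rcases hM.eq_bot_or_eq_top with e | e
    · rw [e, Subgroup.index_bot] at hM2
      haveI : IsCyclic G := isCyclic_of_prime_card hM2
      exact hna ⟨⟨fun a b => IsCyclic.commGroup.mul_comm a b⟩⟩
    · rw [e, Subgroup.index_top] at hM2; omega
  -- the centraliser of `x`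
  have hgx2 : g * x * g⁻¹ * (g * x * g⁻¹) = 1 := by
    calc g * x * g⁻¹ * (g * x * g⁻¹) = g * (x * x) * g⁻¹ := by group
      _ = 1 := by rw [hxx]; group
  have hgx1 : g * x * g⁻¹ ≠ 1 := fun e => hxT (conj_eq_one_iff.1 e ▸ T.one_mem)
  obtain ⟨g₁, w, hw, hw1, hgw⟩ := P.exists_conj_inter H hg hgx2 hgx1
  rw [← P.inter] at hw hz
  obtain ⟨p, -, -, hpw⟩ := P.nat.torus_trans H P.syl hw hw1 hz hz1
  rw [P.inter] at hz
  have hCz : centralizer ({z} : Set G) = S := by
    refine (Subgroup.eq_of_le_of_card_ge (sup_le (fun t ht =>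
      Subgroup.mem_centralizer_singleton_iff.2 (P.W_fixed hz ht))
      (zpowers_le.2 (Subgroup.mem_centralizer_singleton_iff.2 (mul_inv_eq_iff_eq_mul.1 hxz)))) ?_).symm
    exact hsylS.2.2 _ le_top
      (H z (orderOf_eq_prime (by rw [pow_two]; exact P.nat.elem z hz.1) hz1))
  set h := g⁻¹ * g₁ * p⁻¹ with hh
  have hhz : h * z * h⁻¹ = x := by
    rw [hh, ← hpw]
    calc g⁻¹ * g₁ * p⁻¹ * (p * w * p⁻¹) * (g⁻¹ * g₁ * p⁻¹)⁻¹ = g⁻¹ * (g₁ * w * g₁⁻¹) * g := by group
      _ = x := by rw [hgw]; group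
  set Cx := centralizer ({x} : Set G) with hCx
  have hCx128 : Nat.card Cx = 128 := by
    have : Cx = PrimeOrders.cj h (centralizer ({z} : Set G)) := by
      ext a
      rw [hCx, mem_cj, Subgroup.mem_centralizer_singleton_iff, Subgroup.mem_centralizer_singleton_iff,
        ← hhz]
      constructor
      · intro e
        calc h⁻¹ * a * h * z = h⁻¹ * (a * (h * z * h⁻¹)) * h := by group
          _ = z * (h⁻¹ * a * h) := by rw [e]; group
      · intro e
        calc a * (h * z * h⁻¹) = h * (h⁻¹ * a * h * z) * h⁻¹ := by group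
          _ = h * z * h⁻¹ * a := by rw [e]; group
    rw [this, card_cj, hCz, hS128]
  set R := S ⊓ Cx with hR
  have hRC : R < Cx := by
    refine lt_of_le_of_ne inf_le_right fun e => ?_
    have hle : Cx ≤ S := e ▸ inf_le_left
    have heq : Cx = S := Subgroup.eq_of_le_of_card_ge hle (by rw [hS128, hCx128])
    obtain ⟨v, hv, hvW⟩ : ∃ v ∈ V, v ∉ V ⊓ V' := by
      by_contra h'
      push Not at h'
      have := Subgroup.card_le_of_le h'
      rw [P.cardV, h4] at this
      omega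
    have hvC : v ∈ Cx := heq ▸ (le_sup_left : T ≤ S) (P.le hv)
    have hvV' : x * v * x⁻¹ ∈ V' := hxV1 ▸ conj_mem_cj hv
    rw [← Subgroup.mem_centralizer_singleton_iff.1 hvC, mul_inv_cancel_right] at hvV'
    exact hvW ⟨hv, hvV'⟩
  obtain ⟨m, hm, hmR⟩ := SetLike.exists_of_lt (PrimeOrders.exists_normalizing
    (H x hx2) hRC)
  -- squares in `R`
  have hsq : ∀ r ∈ R, r * r = 1 ∨ r * r = z := by
    intro r hr
    have hxr : r * x = x * r := Subgroup.mem_centralizer_singleton_iff.1 hr.2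
    obtain ⟨t, ht, htr⟩ : ∃ t ∈ T, r * r = t * t ∧ t * x = x * t := by
      rcases hdec r hr.1 with h | h
      · exact ⟨r, h, rfl, hxr⟩
      · refine ⟨r * x, h, ?_, by rw [← mul_assoc x r x, ← hxr]⟩
        calc r * r = r * (x * x) * r := by rw [hxx, mul_one]
          _ = r * x * (x * r) := by group
          _ = r * x * (r * x) := by rw [← hxr]
    have hW := P.sq_mem_inter H ht
    rcases hxW _ hW (by
      calc x * (t * t) * x⁻¹ = (x * t) * t * x⁻¹ := by group
        _ = (t * x) * t * x⁻¹ := by rw [htr.2]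
        _ = t * (x * t) * x⁻¹ := by group
        _ = t * (t * x) * x⁻¹ := by rw [htr.2]
        _ = t * t := by group) with e | e
    · exact Or.inl (htr.1.trans e)
    · exact Or.inr (htr.1.trans e)
  -- some square is nontrivial
  obtain ⟨r, hr, hrr⟩ : ∃ r ∈ R, r * r ≠ 1 := by
    by_contra h'
    push Not at h'
    set C := T ⊓ Cx with hC
    have hCle : C ≤ zpowers z := by
      intro t ht
      have hxt : x * t * x⁻¹ = t := by
        rw [← Subgroup.mem_centralizer_singleton_iff.1 ht.2, mul_inv_cancel_right]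
      have htW : t ∈ V ⊓ V' := by
        rcases P.involution_mem H ht.1 (h' t ⟨(le_sup_left : T ≤ S) ht.1, ht.2⟩) with h | h
        · exact ⟨h, hxV1 ▸ hxt ▸ conj_mem_cj h⟩
        · exact ⟨hxV2 ▸ hxt ▸ conj_mem_cj h, h⟩
      rcases hxW t htW hxt with e | e <;> rw [e]
      · exact Subgroup.one_mem _
      · exact mem_zpowers z
    have hC2 : Nat.card C ≤ 2 := by
      refine (Subgroup.card_le_of_le hCle).trans ?_
      rw [Nat.card_zpowers, orderOf_eq_prime (by rw [pow_two]; exact P.nat.elem z hz.1) hz1]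
    -- the inverted elements of `T` are few
    obtain ⟨gA, -, a1, a2, a3, -, -, -, -, -, -⟩ := P.nat.weights H P.syl
    rw [P.inter] at a1
    rw [P.self] at a3
    let I := {d : T // x * (d : G) * x⁻¹ = (d : G)⁻¹}
    have hI : Nat.card I ≤ 16 := by
      have hfib : ∀ d d' : I, gA (d.1 : G) = gA (d'.1 : G) → ((d.1 : G))⁻¹ * d'.1 ∈ V ⊓ V' := by
        intro d d' e
        set v := (d.1 : G)⁻¹ * d'.1 with hv
        have hvV : v ∈ V := (a3 v (T.mul_mem (T.inv_mem d.1.2) d'.1.2)).1 (by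
          rw [a2 _ (T.inv_mem d.1.2) _ d'.1.2, ← e, ← a2 _ (T.inv_mem d.1.2) _ d.1.2,
            inv_mul_cancel, (a3 1 T.one_mem).2 V.one_mem])
        refine ⟨hvV, ?_⟩
        have h1 : x * v * x⁻¹ = (d.1 : G) * (d'.1 : G)⁻¹ := by
          calc x * v * x⁻¹ = (x * (d.1 : G) * x⁻¹)⁻¹ * (x * (d'.1 : G) * x⁻¹) := by rw [hv]; group
            _ = _ := by rw [d.2, d'.2, inv_inv]
        have h2 : x * v * x⁻¹ ∈ V := by
          rw [h1, show (d.1 : G) * (d'.1 : G)⁻¹ = (d.1 : G) * v⁻¹ * (d.1 : G)⁻¹ by rw [hv]; group]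
          exact conj_mem_of_normalizer (P.syl.1 d.1.2) (V.inv_mem hvV)
        have h3 : x * (x * v * x⁻¹) * x⁻¹ ∈ V' := hxV1 ▸ conj_mem_cj h2
        have h4 : x * (x * v * x⁻¹) * x⁻¹ = v := by
          calc x * (x * v * x⁻¹) * x⁻¹ = (x * x) * v * (x * x)⁻¹ := by group
            _ = v := by rw [hxx, one_mul, inv_one, mul_one]
        rwa [h4] at h3
      haveI : Fintype I := Fintype.ofFinite I
      haveI := Fintype.ofFinite ↥(V ⊓ V')
      let F : I → ↥(V ⊓ V') := fun d => ⟨gA (d.1 : G), a1 _ d.1.2⟩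
      rw [Nat.card_eq_fintype_card, ← Finset.card_univ]
      refine (Finset.card_le_mul_card_image (f := F) Finset.univ 4 fun b hb => ?_).trans ?_
      · obtain ⟨d, -, hd⟩ := Finset.mem_image.1 hb
        rw [← h4, Nat.card_eq_fintype_card, ← Finset.card_univ]
        refine Finset.card_le_card_of_injOn
          (fun d' => if h : F d' = b then ⟨(d.1 : G)⁻¹ * d'.1,
            hfib d d' (congrArg Subtype.val (hd.trans h.symm))⟩ else 1) (fun _ _ => by simp) ?_
        intro a ha a' ha' e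
        simp only [Finset.coe_filter, Finset.mem_univ, true_and, Set.mem_setOf_eq] at ha ha'
        simp only [dif_pos ha, dif_pos ha', Subtype.mk.injEq, mul_right_inj] at e
        exact Subtype.ext (Subtype.ext e)
      · have := (Finset.card_le_univ (Finset.univ.image F))
        rw [← Nat.card_eq_fintype_card, h4] at this
        omega
    have hle : (C.subgroupOf T).index ≤ Nat.card I := by
      let F : T ⧸ C.subgroupOf T → I := Quotient.lift
        (fun t : T => (⟨t * ⟨x * (t : G)⁻¹ * x⁻¹, conj_mem_of_normalizer hxN (T.inv_mem t.2)⟩, by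
          show x * ((t : G) * (x * (t : G)⁻¹ * x⁻¹)) * x⁻¹ = ((t : G) * (x * (t : G)⁻¹ * x⁻¹))⁻¹
          calc x * ((t : G) * (x * (t : G)⁻¹ * x⁻¹)) * x⁻¹
              = x * (t : G) * x * (t : G)⁻¹ * (x * x)⁻¹ := by group
            _ = x * (t : G) * x⁻¹ * (t : G)⁻¹ := by rw [hxx, inv_one, mul_one, hxi]
            _ = _ := by group⟩ : I))
        (fun a b e => by
          replace e : (a : G)⁻¹ * b * x = x * ((a : G)⁻¹ * b) := Subgroup.mem_centralizer_singleton_iff.1
            (Subgroup.mem_subgroupOf.1 (QuotientGroup.leftRel_apply.1 e)).2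
          refine Subtype.ext (Subtype.ext ?_)
          show (a : G) * (x * (a : G)⁻¹ * x⁻¹) = (b : G) * (x * (b : G)⁻¹ * x⁻¹)
          calc (a : G) * (x * (a : G)⁻¹ * x⁻¹) = (a : G) * (x * ((a : G)⁻¹ * b)) * (b : G)⁻¹ * x⁻¹ := by
                group
            _ = _ := by rw [← e]; group)
      refine Nat.card_le_card_of_injective F fun p q e => ?_
      induction p using QuotientGroup.induction_on with
      | _ a =>
      induction q using QuotientGroup.induction_on with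
      | _ b =>
      have e' : (a : G) * (x * (a : G)⁻¹ * x⁻¹) = (b : G) * (x * (b : G)⁻¹ * x⁻¹) :=
        congrArg (fun d : I => ((d.1 : T) : G)) e
      rw [QuotientGroup.eq, Subgroup.mem_subgroupOf]
      refine ⟨T.mul_mem (T.inv_mem a.2) b.2, Subgroup.mem_centralizer_singleton_iff.2 ?_⟩
      show (a : G)⁻¹ * b * x = x * ((a : G)⁻¹ * b)
      calc (a : G)⁻¹ * b * x = (a : G)⁻¹ * ((b : G) * (x * (b : G)⁻¹ * x⁻¹)) * x * b := by group
        _ = x * ((a : G)⁻¹ * b) := by rw [← e']; group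
    have h64 := Subgroup.card_mul_index (C.subgroupOf T)
    rw [Nat.card_congr (Subgroup.subgroupOfEquivOfLe (inf_le_left : C ≤ T)).toEquiv, hT64] at h64
    nlinarith [Nat.mul_le_mul hC2 (hle.trans hI)]
  have hrz := (hsq r hr).resolve_left hrr
  have hmr : m * r * m⁻¹ ∈ R := conj_mem_of_normalizer hm.2 hr
  refine hmR ⟨?_, hm.1⟩
  show m ∈ S
  rw [← hCz, Subgroup.mem_centralizer_singleton_iff]
  rcases hsq _ hmr with e | e
  · exfalso
    have : m * (r * r) * m⁻¹ = 1 := by rw [← e]; group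
    rw [hrz] at this
    exact hz1 (conj_eq_one_iff.1 this)
  · have : m * z * m⁻¹ = z := by rw [← hrz]; nth_rewrite 2 [hrz]; rw [← e]; group
    exact mul_inv_eq_iff_eq_mul.1 this

end Shape

end CfsgLib.Recognition.CIT
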