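import Cfsg.Agent.Lib.Recognition.CIT.Basic
import Cfsg.Agent.Lib.OddOrder.CN
import Cfsg.Agent.Lib.LocalEven.StrongCore.Main
import Cfsg.Agent.Lib.Involution.ZStar.Basic

/-!
Simple CN-groups are CIT groups.
-/

set_option autoImplicit false
set_option linter.style.haveILetI false

open Subgroup

namespace CfsgLib.Recognition.CIT

open CfsgLib.OddOrder

/-- In a group with nilpotent centralisers, no nontrivial nilpotent normal subgroup and trivial
odd core, involution centralisers are 2-groups. -/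
theorem IsCNGroup.isCIT_of_core {G : Type*} [Group G] [Finite G]
    (hF : ∀ K : Subgroup G, K.Normal → Group.IsNilpotent K → K = ⊥) (hoddG : Cfsg.oddCore G = ⊥)
    (hCN : Cfsg.IsCNGroup G) : IsCIT G := by
  classical
  intro t ht
  have ht1 : t ≠ 1 := fun h => by simp [h] at ht
  refine isPGroup_of_forall fun d hd hodd => ?_
  by_contra hd1
  obtain ⟨p, hp, hpd⟩ := Nat.exists_prime_and_dvd
    (fun h : orderOf d = 1 => hd1 (orderOf_eq_one_iff.1 h))
  have hp2 : p ≠ 2 := by
    rintro rfl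
    exact absurd (even_iff_two_dvd.2 hpd) (Nat.not_even_iff_odd.2 hodd)
  haveI : Fact p.Prime := ⟨hp⟩
  haveI : Fact (Nat.Prime 2) := ⟨Nat.prime_two⟩
  obtain ⟨H, hle, hH, hmax⟩ := CN.exists_maximal_nilpotent (hCN t ht1)
  have htH : t ∈ H := hle (Subgroup.mem_centralizer_singleton_iff.2 rfl)
  have hdH : d ∈ H := hle hd
  have h2H : 2 ∣ Nat.card H := ht ▸ Subgroup.orderOf_dvd_natCard H htH
  have hpH : p ∣ Nat.card H := hpd.trans (Subgroup.orderOf_dvd_natCard H hdH)
  have hnp : ¬ IsPrimePow (Nat.card H) := by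
    rintro ⟨r, k, hr, hk, hrk⟩
    rw [← hrk] at h2H hpH
    have h1 := (Nat.prime_dvd_prime_iff_eq Nat.prime_two hr.nat_prime).1
      (Nat.prime_two.dvd_of_dvd_pow h2H)
    have h2 := (Nat.prime_dvd_prime_iff_eq hp hr.nat_prime).1 (hp.dvd_of_dvd_pow hpH)
    exact hp2 (h2.trans h1.symm)
  have h1 : Nat.card H ≠ 1 := fun h => by rw [h] at h2H; omega
  have hTI := CN.inter_conj_eq_bot hCN hH hmax hnp h1
  have hHall := CN.coprime_index hCN hH hmax
  have hHbot : H ≠ ⊥ := fun h => ht1 (by rw [h] at htH; exact Subgroup.mem_bot.1 htH)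
  set N := normalizer (H : Set G) with hN
  have hHN : H ≤ N := Subgroup.le_normalizer
  have hNtop : N ≠ ⊤ := fun h => hHbot (hF H (Subgroup.normalizer_eq_top_iff.1 h) hH)
  have htwo : ∀ s ∈ N, orderOf s = 2 → s ∈ H := by
    intro s hs hs2
    have hn : (H.subgroupOf N).Normal := Subgroup.normal_in_normalizer
    have hcop : Nat.Coprime 2 (H.subgroupOf N).index :=
      Nat.Coprime.coprime_dvd_left h2H
        (hHall.coprime_dvd_right (Subgroup.relIndex_dvd_index_of_le hHN))
    have hq : ((⟨s, hs⟩ : N) : N ⧸ H.subgroupOf N) = 1 := by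
      rw [← orderOf_eq_one_iff]
      refine Nat.eq_one_of_dvd_coprimes hcop ?_ ?_
      · rw [← hs2, ← Subgroup.orderOf_mk s hs]
        exact orderOf_map_dvd (QuotientGroup.mk' (H.subgroupOf N)) _
      · rw [Subgroup.index_eq_card]
        exact orderOf_dvd_natCard _
    exact Subgroup.mem_subgroupOf.1 ((QuotientGroup.eq_one_iff _).1 hq)
  have hemb : Cfsg.IsStronglyEmbedded N := by
    refine ⟨hNtop, even_iff_two_dvd.2 (h2H.trans (Subgroup.card_dvd_of_le hHN)), fun g hg => ?_⟩
    by_contra hev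
    rw [Nat.not_odd_iff_even, even_iff_two_dvd] at hev
    obtain ⟨⟨s, hmem'⟩, hs2⟩ := exists_prime_orderOf_dvd_card' 2 hev
    rw [Subgroup.orderOf_mk] at hs2
    obtain ⟨hsN, hs'⟩ := Subgroup.mem_inf.1 hmem'
    obtain ⟨u, huN, hus⟩ := Subgroup.mem_map.1 hs'
    have hu2 : orderOf u = 2 := by
      rw [← hs2, ← hus]
      exact (orderOf_injective _ (MulEquiv.injective _) u).symm
    have hne : H.map (MulAut.conj g).toMonoidHom ≠ H := by
      intro he
      refine hg (Subgroup.mem_normalizer_iff.2 fun x => ⟨fun hx => ?_, fun hx => ?_⟩)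
      · exact (SetLike.ext_iff.1 he _).1 ⟨x, hx, rfl⟩
      · obtain ⟨y, hy, hyx⟩ := (SetLike.ext_iff.1 he _).2 hx
        rwa [(MulAut.conj g).injective hyx] at hy
    have hmem : s ∈ H ⊓ H.map (MulAut.conj g).toMonoidHom :=
      ⟨htwo s hsN hs2, u, htwo u huN hu2, hus⟩
    rw [hTI g hne, Subgroup.mem_bot] at hmem
    rw [hmem, orderOf_one] at hs2
    omega
  obtain ⟨S, hS⟩ := CN.sylow_le hCN hH hmax hpH
  obtain ⟨k, hk⟩ := IsPGroup.iff_card.1 S.isPGroup'
  have hcardS : Nat.card ((S : Subgroup G).subgroupOf N) = p ^ k :=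
    (Nat.card_congr (Subgroup.subgroupOfEquivOfLe (hS.trans hHN)).toEquiv).trans hk
  have hSn : ((S : Subgroup G).subgroupOf N).Normal := by
    refine ⟨fun x hx n => ?_⟩
    rw [Subgroup.mem_subgroupOf] at hx ⊢
    refine CN.mem_sylow hCN hH hmax hS ((Subgroup.mem_normalizer_iff.1 n.2 _).1 (hS hx)) ?_
    obtain ⟨j, hj⟩ := IsPGroup.iff_orderOf.1 S.isPGroup' ⟨_, hx⟩
    rw [Subgroup.orderOf_mk] at hj
    exact ⟨j, (orderOf_injective (MulAut.conj (n : G)).toMonoidHom (MulEquiv.injective _) _).trans hj⟩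
  have hle' : (S : Subgroup G).subgroupOf N ≤ Cfsg.oddCore N :=
    CfsgLib.Involution.ZStar.le_oddCore hSn (by
      rw [hcardS]; exact (hp.odd_of_ne_two hp2).pow)
  have hbot : (S : Subgroup G) ≤ ⊥ := fun x hx => by
    have hxN : x ∈ N := hHN (hS hx)
    have := CfsgLib.LocalEven.StrongCore.oddCore_le hemb
      ⟨⟨x, hxN⟩, hle' (Subgroup.mem_subgroupOf.2 hx), rfl⟩
    rwa [hoddG] at this
  exact S.ne_bot_of_dvd_card (hpH.trans (Subgroup.card_subgroup_dvd_card H)) (le_bot_iff.1 hbot)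

/-- In a nonabelian simple group with nilpotent centralisers, involution centralisers are
2-groups. -/
theorem IsCNGroup.isCIT {G : Type*} [Group G] [Finite G] [IsSimpleGroup G]
    (hna : ¬ IsMulCommutative G) (hCN : Cfsg.IsCNGroup G) : IsCIT G := by
  intro t ht
  refine IsCNGroup.isCIT_of_core (fun H hn hH => ?_) ?_ hCN t ht
  · rcases hn.eq_bot_or_eq_top with h' | h'
    · exact h'
    · haveI : Group.IsNilpotent G := by
        haveI := hH
        exact Group.nilpotent_of_mulEquiv ((MulEquiv.subgroupCongr h').trans Subgroup.topEquiv)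
      rcases (inferInstance : (Subgroup.center G).Normal).eq_bot_or_eq_top with hc | hc
      · exact absurd hc (Group.IsNilpotent.center_ne_bot G)
      · exact absurd ⟨⟨fun a b => (Subgroup.mem_center_iff.1 (hc ▸ Subgroup.mem_top b) a)⟩⟩ hna
  · rcases (CfsgLib.Involution.ZStar.oddCore_normal (G := G)).eq_bot_or_eq_top with h | h
    · exact h
    · have := CfsgLib.Involution.ZStar.odd_orderOf_of_mem (g := t) (h ▸ Subgroup.mem_top t)
      rw [ht] at this
      exact absurd this (by decide)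

end CfsgLib.Recognition.CIT
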