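import Cfsg.Agent.Lib.Recognition.CIT.Pair
import Cfsg.Prelude.Def_Involutions

/-!
A simple CIT group has two natural modules with a common Sylow 2-subgroup, or a strongly embedded
2-local subgroup.
-/

set_option autoImplicit false
set_option linter.unusedSectionVars false
set_option linter.style.haveILetI false

open Subgroup

namespace CfsgLib.Recognition.CIT

open CfsgLib.Recognition.PrimeOrders

variable {G : Type*} [Group G] [Finite G]

/-- No two natural modules share a Sylow 2-subgroup of their normalisers. -/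
def NoPair (G : Type*) [Group G] : Prop :=
  ∀ V V' T : Subgroup G, Natural V → Natural V' → IsSyl T (normalizer (V : Set G)) →
    IsSyl T (normalizer (V' : Set G)) → V' = V

theorem full_of_noPair (hNP : NoPair G) {V T : Subgroup G} (hV : Natural V)
    (hT : IsSyl T (normalizer (V : Set G))) : IsSyl T ⊤ := by
  obtain ⟨S, hTS, hS⟩ := exists_isSyl (le_top : T ≤ (⊤ : Subgroup G)) hT.2.1
  rcases eq_or_lt_of_le hTS with e | hlt
  · exact e ▸ hS
  exfalso
  obtain ⟨x, hx, hxT⟩ := SetLike.exists_of_lt (PrimeOrders.exists_normalizing hS.2.1 hlt)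
  have hxcj : PrimeOrders.cj x T = T := mem_normalizer_iff_cj.1 hx.2
  have hT' : IsSyl T (normalizer (PrimeOrders.cj x V : Set G)) := by
    rw [normalizer_cj]
    exact hxcj ▸ hT.cj x
  have hxN : x ∈ normalizer (V : Set G) :=
    mem_normalizer_iff_cj.2 (hNP V _ T hV (hV.cj x) hT hT')
  have hP : T = S ⊓ normalizer (V : Set G) := Subgroup.eq_of_le_of_card_ge (le_inf hTS hT.1)
    (hT.2.2 _ inf_le_right (hS.2.1.to_le inf_le_left))
  rw [hP] at hxT
  exact hxT ⟨hx.1, hxN⟩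

/-- If `H₀ ⊇ S` contains the normalisers of the normal 2-subgroups of `S`, it contains those of all
nontrivial subgroups of `S`. -/
theorem push (H : IsCIT G) (hNP : NoPair G) {S H₀ : Subgroup G} (hS : IsSyl S ⊤) (hSH : S ≤ H₀)
    (base : ∀ D ≤ S, D ≠ ⊥ → S ≤ normalizer (D : Set G) → normalizer (D : Set G) ≤ H₀) :
    ∀ D ≤ S, D ≠ ⊥ → normalizer (D : Set G) ≤ H₀ := by
  have hSH₀ : IsSyl S H₀ := hS.mono hSH le_top
  suffices key : ∀ n, ∀ D : Subgroup G, D ≤ S → D ≠ ⊥ →
      Nat.card S - Nat.card ↥(S ⊓ normalizer (D : Set G)) = n → normalizer (D : Set G) ≤ H₀ from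
    fun D hD hD1 => key _ D hD hD1 rfl
  intro n
  induction n using Nat.strong_induction_on with
  | _ n ih =>
  intro D hDS hD1 hn
  have IH : ∀ E ≤ S, E ≠ ⊥ → Nat.card ↥(S ⊓ normalizer (D : Set G)) <
      Nat.card ↥(S ⊓ normalizer (E : Set G)) → normalizer (E : Set G) ≤ H₀ := by
    intro E hE hE1 hlt
    refine ih _ ?_ E hE hE1 rfl
    have h1 : Nat.card ↥(S ⊓ normalizer (E : Set G)) ≤ Nat.card S :=
      Subgroup.card_le_of_le inf_le_left
    omega
  set T₀ := S ⊓ normalizer (D : Set G) with hT₀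
  rcases eq_or_lt_of_le (inf_le_left : T₀ ≤ S) with e | hlt
  · exact base D hDS hD1 (e ▸ inf_le_right)
  have hT₀2 : IsPGroup 2 T₀ := hS.2.1.to_le inf_le_left
  have hDT₀ : D ≤ T₀ := le_inf hDS Subgroup.le_normalizer
  have hT₀1 : T₀ ≠ ⊥ := fun e => hD1 (le_bot_iff.1 (e ▸ hDT₀))
  have hlarge := PrimeOrders.exists_normalizing hS.2.1 hlt
  have step : ∀ X P : Subgroup G, X ≤ T₀ → X ≠ ⊥ → IsPGroup 2 P →
      P ≤ normalizer (X : Set G) → T₀ < P → normalizer (X : Set G) ≤ H₀ := by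
    intro X P hX hX1 hP hPN hTP
    have hNT₀ : normalizer (T₀ : Set G) ≤ H₀ := IH T₀ inf_le_left hT₀1 (card_lt_of_lt hlarge)
    set T₂ := P ⊓ normalizer (T₀ : Set G) with hT₂
    obtain ⟨h, hh, hle⟩ := hSH₀.conj_le (inf_le_right.trans hNT₀ : T₂ ≤ H₀) (hP.to_le inf_le_left)
    have hXT₂ : X ≤ T₂ := hX.trans (PrimeOrders.exists_normalizing hP hTP).le
    have hsub : PrimeOrders.cj h T₂ ≤ S ⊓ normalizer (PrimeOrders.cj h X : Set G) := by
      refine le_inf hle ?_
      rw [normalizer_cj]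
      exact cj_mono (inf_le_left.trans hPN)
    have h1 : normalizer (PrimeOrders.cj h X : Set G) ≤ H₀ := by
      refine IH _ ((cj_mono hXT₂).trans hle) (cj_ne_bot hX1) ?_
      calc Nat.card T₀ < Nat.card T₂ := card_lt_of_lt (PrimeOrders.exists_normalizing hP hTP)
        _ = Nat.card (PrimeOrders.cj h T₂) := (card_cj h T₂).symm
        _ ≤ _ := Subgroup.card_le_of_le hsub
    intro x hx
    have h2 : h * x * h⁻¹ ∈ H₀ := h1 (by rw [normalizer_cj]; exact conj_mem_cj hx)
    have h3 := H₀.mul_mem (H₀.mul_mem (H₀.inv_mem hh) h2) hh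
    simpa [mul_assoc] using h3
  obtain ⟨T, hT₀T, hT⟩ := exists_isSyl (inf_le_right : T₀ ≤ normalizer (D : Set G)) hT₀2
  rcases eq_or_lt_of_le hT₀T with e | hlt'
  swap
  · exact step D T hDT₀ hD1 hT.2.1 hT.1 hlt'
  rw [← e] at hT
  rcases H.local_cases (hS.2.1.to_le hDS) hD1 hT with hJ | ⟨V, hV, hVT, hDV⟩
  · refine hJ.trans (IH (J T₀) (J_le.trans inf_le_left) (J_ne_bot hT₀2 hT₀1) ?_)
    refine lt_of_lt_of_le (card_lt_of_lt hlarge) (Subgroup.card_le_of_le ?_)
    exact inf_le_inf_left _ (normalizer_le_normalizer_J T₀)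
  · refine hDV.trans ?_
    by_cases hbig : Nat.card T₀ < Nat.card ↥(S ⊓ normalizer (V : Set G))
    · exact IH V (hVT.trans inf_le_left) hV.ne hbig
    obtain ⟨P, hTP, hP⟩ := exists_isSyl (hT.1.trans hDV) hT₀2
    refine step V P hVT hV.ne hP.2.1 hP.1 (lt_of_le_of_ne hTP fun e' => ?_)
    have h1 := (full_of_noPair hNP hV hP).2.2 S le_top hS.2.1
    rw [← e'] at h1
    exact absurd (card_lt_of_lt hlt) (not_lt.2 h1)

theorem le_O2_of_normal {J M : Subgroup G} (hM : M ≤ normalizer (J : Set G)) (hJ : J ≤ M)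
    (h2 : IsPGroup 2 J) : J ≤ O2 M :=
  le_O2 hJ (fun m hm _ hn => conj_mem_of_normalizer (hM hm) hn) h2

/-- When some maximal elementary subgroup does not centralise a natural module, the normaliser of
the Thompson subgroup normalises the module. -/
theorem normalizer_J_le (H : IsCIT G) (hNP : NoPair G) {V S A : Subgroup G} (hV : Natural V)
    (hVS : V ≤ S) (hS : IsSyl S ⊤) (hsyl : IsSyl S (normalizer (V : Set G))) (hA : IsMax S A)
    (hAQ : ¬ A ≤ centralizer (V : Set G)) :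
    normalizer (J S : Set G) ≤ normalizer (V : Set G) := by
  classical
  haveI : Fact (Nat.Prime 2) := ⟨Nat.prime_two⟩
  set Q := centralizer (V : Set G) with hQ
  set W := V ⊓ centralizer (S : Set G) with hW
  have hQS : Q ≤ S := hV.centralizer_le_syl H hsyl
  obtain ⟨a, haA, haQ⟩ := SetLike.not_le_iff_exists.1 hAQ
  -- the offender covers `S` modulo `Q`
  have hfull : A ⊔ Q = S := by
    refine Subgroup.eq_of_le_of_card_ge (sup_le hA.1 hQS) ?_
    set B := A ⊓ Q with hB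
    have h1 : Nat.card ↥(B ⊔ V) ≤ Nat.card A := hA.2.2 _ (sup_le (inf_le_left.trans hA.1) hVS)
      (elem_sup (fun x hx => hA.2.1 x hx.1) hV.elem
        fun b hb v hv => (Subgroup.mem_centralizer_iff.1 hb.2 v hv).symm)
    have h2 : Nat.card ↥(B ⊓ V) ≤ Nat.card W := Subgroup.card_le_of_le fun x hx =>
      hV.mem_W_of_commute H hsyl (hA.1 haA) haQ hx.2 (hA.2.1.comm haA hx.1.1)
    have h3 := card_mul_le B V
    rw [hV.card_eq H hsyl] at h3
    have h4 : Nat.card B * Nat.card W ≤ Nat.card A := by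
      refine Nat.le_of_mul_le_mul_right ?_ (Nat.card_pos (α := W))
      calc Nat.card B * Nat.card W * Nat.card W = Nat.card B * (Nat.card W * Nat.card W) :=
            mul_assoc _ _ _
        _ ≤ _ := h3
        _ ≤ _ := Nat.mul_le_mul h1 h2
    have h5 := card_mul_le A Q
    rw [hV.card_syl H hsyl, ← hQ, ← hW]
    refine Nat.le_of_mul_le_mul_right ?_ (Nat.card_pos (α := B))
    calc Nat.card W * Nat.card Q * Nat.card B = Nat.card B * Nat.card W * Nat.card Q := by ring
      _ ≤ Nat.card A * Nat.card Q := Nat.mul_le_mul_right _ h4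
      _ ≤ _ := h5
  set M := normalizer (J S : Set G) with hM
  set Q₀ := O2 M with hQ₀
  have hSM : S ≤ M := Subgroup.le_normalizer.trans (normalizer_le_normalizer_J S)
  have hsylM : IsSyl S M := hS.mono hSM le_top
  have hQ₀S : Q₀ ≤ S := O2_le_syl hsylM
  have hJQ₀ : J S ≤ Q₀ := le_O2_of_normal le_rfl (J_le.trans hSM) (hS.2.1.to_le J_le)
  have hAQ₀ : A ≤ Q₀ := (le_sSup hA : A ≤ J S).trans hJQ₀
  have hQ₀2 : IsPGroup 2 Q₀ := O2_isPGroup M
  have hQ₀1 : Q₀ ≠ ⊥ := fun e => haQ (by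
    have := hAQ₀ haA
    rw [e, Subgroup.mem_bot] at this
    rw [this]; exact Q.one_mem)
  by_cases hVQ₀ : V ≤ Q₀
  · set V₀ := omz Q₀ with hV₀
    have hV₀Q : V₀ ≤ Q := fun w hw =>
      Subgroup.mem_centralizer_iff.2 fun v hv => (hw.2.2 v (hVQ₀ hv)).symm
    obtain ⟨σ, hσN, hσ3, hσQ, hσfix, hσW⟩ := hV.exists_sigma H hsyl
    have hQn : ∀ q ∈ Q, ∀ u ∈ V₀, q * u * q⁻¹ ∈ V₀ := fun q hq u hu =>
      omz_conj (O2_conj (M := M)) q (hSM (hQS hq)) u hu
    have hinW : ∀ u ∈ V₀, (∀ q ∈ Q, q * u = u * q) → u ∈ W := by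
      intro u hu hc
      have huV : u ∈ V := hV.self u (hV₀Q hu) hu.2.1 fun q hq => (hc q hq).symm
      refine ⟨huV, Subgroup.mem_centralizer_iff.2 fun t ht => ?_⟩
      have hle : A ⊔ Q ≤ centralizer ({u} : Set G) := sup_le
        (fun x hx => Subgroup.mem_centralizer_singleton_iff.2 (hu.2.2 x (hAQ₀ hx)).symm)
        (fun x hx => Subgroup.mem_centralizer_singleton_iff.2 (hc x hx))
      rw [hfull] at hle
      exact Subgroup.mem_centralizer_singleton_iff.1 (hle ht)
    have hinf : ∀ u ∈ V₀, σ * u * σ⁻¹ ∈ V₀ → u = 1 := by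
      by_contra hcon
      push Not at hcon
      obtain ⟨u, hu, hσu, hu1⟩ := hcon
      set U := V₀ ⊓ PrimeOrders.cj σ V₀ with hU
      have hUQ : U ≤ Q := inf_le_left.trans hV₀Q
      have hU1 : U ≠ ⊥ := fun e => hu1 (by
        have hmem : σ * u * σ⁻¹ ∈ U := ⟨hσu, conj_mem_cj hu⟩
        rw [e, Subgroup.mem_bot] at hmem
        exact conj_eq_one_iff.1 hmem)
      haveI : (U.subgroupOf Q).Normal := ⟨fun w hw q => by
        refine ⟨hQn q q.2 w hw.1, mem_cj.2 ?_⟩
        have h1 := centralizer_conj ((normalizer (V : Set G)).inv_mem hσN) q.2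
        rw [inv_inv] at h1
        have := hQn _ h1 _ (mem_cj.1 hw.2)
        simpa [mul_assoc] using this⟩
      haveI := (hV.centralizer_isPGroup H).isNilpotent
      obtain ⟨w, ⟨hw, hwc'⟩, hw1⟩ := exists_ne_one
        (CfsgLib.Solvable.FrattiniFitting.inf_center_ne_bot (U.subgroupOf Q) (by
          rw [ne_eq, Subgroup.subgroupOf_eq_bot, disjoint_iff, inf_eq_left.2 hUQ]
          exact hU1))
      have hwc : ∀ q ∈ Q, q * (w : G) = w * q := fun q hq =>
        congrArg Subtype.val (Subgroup.mem_center_iff.1 hwc' ⟨q, hq⟩)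
      have h1 := hinW _ hw.1 hwc
      have h2 := hinW _ (mem_cj.1 hw.2) fun q hq => by
        have h := hwc _ (hσQ q hq)
        calc q * (σ⁻¹ * (w : G) * σ) = σ⁻¹ * ((σ * q * σ⁻¹) * w) * σ := by group
          _ = σ⁻¹ * (w : G) * σ * q := by rw [h]; group
      have h3 : σ⁻¹ * (w : G) * σ = 1 := hσW _ h2 (by
        have e : σ * (σ⁻¹ * (w : G) * σ) * σ⁻¹ = w := by group
        rw [e]; exact h1)
      refine hw1 (Subtype.ext ?_)
      calc (w : G) = σ * (σ⁻¹ * (w : G) * σ) * σ⁻¹ := by group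
        _ = 1 := by rw [h3]; group
    have hcomm := centralizes_of_inf_conj Q V₀ (by rw [← hσ3, pow_orderOf_eq_one]) hσQ hσfix
      hV₀Q hQn hinf
    have hV₀W : V₀ ≤ W := fun u hu => hinW u hu fun q hq => hcomm q hq u hu
    -- the centraliser of `V₀` in `M` is `S`
    set Z := centralizer (V₀ : Set G) ⊓ M with hZ
    have hSZ : S = Z := Subgroup.eq_of_le_of_card_ge (le_inf (fun t ht =>
        Subgroup.mem_centralizer_iff.2 fun u hu =>
          (Subgroup.mem_centralizer_iff.1 (hV₀W hu).2 t ht).symm) hSM)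
      (hsylM.2.2 Z inf_le_right ((H.centralizer_isPGroup (hQ₀2.to_le (omz_le Q₀))
        (omz_ne_bot hQ₀2 hQ₀1)).to_le inf_le_left))
    intro m hm
    have hmV₀ : m ∈ normalizer (V₀ : Set G) := by
      rw [mem_normalizer_iff_cj]
      refine Subgroup.eq_of_le_of_card_ge (fun x hx => ?_) (by rw [card_cj])
      obtain ⟨w, hw, rfl⟩ := hx
      exact omz_conj (O2_conj (M := M)) m hm w hw
    have hmS : PrimeOrders.cj m S = S := by
      refine Subgroup.eq_of_le_of_card_ge (fun x hx => ?_) (by rw [card_cj])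
      rw [hSZ] at hx ⊢
      obtain ⟨y, hy, rfl⟩ := hx
      exact ⟨centralizer_conj hmV₀ hy.1, M.mul_mem (M.mul_mem hm hy.2) (M.inv_mem hm)⟩
    refine mem_normalizer_iff_cj.2 (hNP V _ S hV (hV.cj m) hsyl ?_)
    rw [normalizer_cj]
    exact hmS ▸ hsyl.cj m
  · exfalso
    obtain ⟨v, hv, hvQ₀⟩ := SetLike.not_le_iff_exists.1 hVQ₀
    have hv2 : orderOf v = 2 :=
      orderOf_eq_prime (by rw [pow_two]; exact hV.elem v hv) fun e => hvQ₀ (e ▸ Q₀.one_mem)
    obtain ⟨hle, -⟩ := card_le_relIndex_sq M Q₀ (O2_le M) (O2_conj (M := M)) (hSM (hVS hv)) hv2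
      (fun N hN hn h2 hmem => hvQ₀ (le_O2 hN hn h2 hmem))
      (fun d _ hd1 hdo q hq e => by_contra fun hq1 => hd1 (H.eq_one_of_commute hQ₀2 hq hq1 hdo e)) Q
      (fun x hx => Subgroup.mem_centralizer_iff.1 hx v hv)
    have hidx : (Q.subgroupOf S).index = Nat.card W := by
      have := Subgroup.card_mul_index (Q.subgroupOf S)
      rw [Nat.card_congr (Subgroup.subgroupOfEquivOfLe hQS).toEquiv, hV.card_syl H hsyl,
        mul_comm (Nat.card W)] at this
      exact Nat.eq_of_mul_eq_mul_left Nat.card_pos this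
    have hrel : Q.relIndex Q₀ ≤ Nat.card W :=
      (Subgroup.relIndex_le_of_le_right hQ₀S
        (Subgroup.index_ne_zero_of_finite (H := Q.subgroupOf S))).trans hidx.le
    have h4 : Nat.card A ≤ Nat.card V := (Subgroup.card_le_of_le hAQ₀).trans (hle.trans (by
      rw [hV.card_eq H hsyl, pow_two]; exact Nat.mul_le_mul hrel hrel))
    have hVmax : IsMax S V := ⟨hVS, hV.elem, fun B hB hB' => (hA.2.2 B hB hB').trans h4⟩
    exact hvQ₀ (((le_sSup hVmax : V ≤ J S).trans hJQ₀) hv)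

/-- The main dichotomy. -/
theorem IsCIT.dichotomy [IsSimpleGroup G] (H : IsCIT G) (hna : ¬ IsMulCommutative G)
    (heven : 2 ∣ Nat.card G) :
    (∃ V V' T : Subgroup G, Natural V ∧ Natural V' ∧ V' ≠ V ∧
      IsSyl T (normalizer (V : Set G)) ∧ IsSyl T (normalizer (V' : Set G))) ∨
      ∃ D : Subgroup G, IsPGroup 2 D ∧ D ≠ ⊥ ∧ Cfsg.IsStronglyEmbedded (normalizer (D : Set G)) := by
  classical
  by_cases hNP : NoPair G
  swap
  · unfold NoPair at hNP
    push Not at hNP
    obtain ⟨V, V', T, hV, hV', hT, hT', hne⟩ := hNP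
    exact Or.inl ⟨V, V', T, hV, hV', hne, hT, hT'⟩
  right
  haveI : Fact (Nat.Prime 2) := ⟨Nat.prime_two⟩
  obtain ⟨S, -, hS⟩ := exists_isSyl (le_top : (⊥ : Subgroup G) ≤ ⊤) IsPGroup.of_bot
  have hS1 : S ≠ ⊥ := fun e => by
    obtain ⟨t, ht⟩ := exists_prime_orderOf_dvd_card' (G := G) 2 heven
    have := hS.2.2 (zpowers t) le_top (IsPGroup.of_card (n := 1) (by rw [Nat.card_zpowers, ht]; rfl))
    rw [e, Subgroup.card_bot, Nat.card_zpowers, ht] at this
    omega
  have hproper : ∀ W : Subgroup G, IsPGroup 2 W → W ≠ ⊥ → normalizer (W : Set G) ≠ ⊤ := by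
    intro W hW hW1 e
    haveI : W.Normal := Subgroup.normalizer_eq_top_iff.1 e
    rcases (inferInstance : W.Normal).eq_bot_or_eq_top with h | h
    · exact hW1 h
    · exact not_isPGroup_of_simple hna (h ▸ hW)
  have hJ2 : IsPGroup 2 (J S) := hS.2.1.to_le J_le
  have hJ1 : J S ≠ ⊥ := J_ne_bot hS.2.1 hS1
  have hSJ : S ≤ normalizer (J S : Set G) :=
    Subgroup.le_normalizer.trans (normalizer_le_normalizer_J S)
  have hsylD : ∀ D : Subgroup G, S ≤ normalizer (D : Set G) → IsSyl S (normalizer (D : Set G)) :=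
    fun D h => hS.mono h le_top
  by_cases hexc : ∃ V, Natural V ∧ V ≤ S ∧ S ≤ normalizer (V : Set G) ∧
      ∃ A, IsMax S A ∧ ¬ A ≤ centralizer (V : Set G)
  · obtain ⟨V, hV, hVS, hSV, A, hA, hAQ⟩ := hexc
    have hsyl := hsylD V hSV
    have hJV := normalizer_J_le H hNP hV hVS hS hsyl hA hAQ
    refine ⟨V, hV.elem.isPGroup, hV.ne, stronglyEmbedded_of_push hS hS1 hSV
      (hproper V hV.elem.isPGroup hV.ne) (push H hNP hS hSV fun D hD hD1 hSD => ?_)⟩
    rcases H.local_cases (hS.2.1.to_le hD) hD1 (hsylD D hSD) with h | ⟨V', hV', -, hDV'⟩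
    · exact h.trans hJV
    · rwa [hNP V V' S hV hV' hsyl (hsylD V' (hSD.trans hDV'))] at hDV'
  · refine ⟨J S, hJ2, hJ1, stronglyEmbedded_of_push hS hS1 hSJ (hproper _ hJ2 hJ1)
      (push H hNP hS hSJ fun D hD hD1 hSD => ?_)⟩
    rcases H.local_cases (hS.2.1.to_le hD) hD1 (hsylD D hSD) with h | ⟨V', hV', hV'S, hDV'⟩
    · exact h
    · have hSV' : S ≤ normalizer (V' : Set G) := hSD.trans hDV'
      have hall : ∀ A, IsMax S A → A ≤ centralizer (V' : Set G) := fun A hA => by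
        by_contra hA'
        exact hexc ⟨V', hV', hV'S, hSV', A, hA, hA'⟩
      refine hDV'.trans ?_
      rw [J_eq_of_le (hV'.centralizer_le_syl H (hsylD V' hSV')) hall]
      refine le_trans (fun m hm => ?_) (normalizer_le_normalizer_J (centralizer (V' : Set G)))
      rw [mem_normalizer_iff_cj, ← centralizer_cj, mem_normalizer_iff_cj.1 hm]

end CfsgLib.Recognition.CIT
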