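import Cfsg.Agent.Lib.Recognition.CIT.Natural
import Cfsg.Agent.Lib.Solvable.FrattiniFitting
import Cfsg.Agent.S0607

/-!
A 2-local subgroup of a CIT group normalises the Thompson subgroup of its Sylow 2-subgroup or a
natural module inside that Sylow subgroup.
-/

set_option autoImplicit false
set_option linter.unusedSectionVars false
set_option linter.style.haveILetI false

open Subgroup
open scoped commutatorElement

namespace CfsgLib.Recognition.CIT

open CfsgLib.Recognition.PrimeOrders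

variable {G : Type*} [Group G]

theorem Elem.isEA {A : Subgroup G} (h : Elem A) : Cfsg.IsElementaryAbelian 2 A :=
  ⟨⟨⟨fun a b => Subtype.ext (h.comm a.2 b.2)⟩⟩, fun a ha => by rw [pow_two]; exact h a ha⟩

theorem elem_of_isEA {A : Subgroup G} (h : Cfsg.IsElementaryAbelian 2 A) : Elem A :=
  fun a ha => by rw [← pow_two]; exact h.2 a ha

variable [Finite G]

/-- The join of two commuting elementary subgroups. -/
theorem elem_sup {B V : Subgroup G} (hB : Elem B) (hV : Elem V)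
    (hc : ∀ b ∈ B, ∀ v ∈ V, b * v = v * b) : Elem (B ⊔ V) := by
  let W : Subgroup G :=
    { carrier := {x | ∃ b ∈ B, ∃ v ∈ V, x = b * v}
      one_mem' := ⟨1, B.one_mem, 1, V.one_mem, (one_mul 1).symm⟩
      mul_mem' := by
        rintro _ _ ⟨b, hb, v, hv, rfl⟩ ⟨b', hb', v', hv', rfl⟩
        refine ⟨b * b', B.mul_mem hb hb', v * v', V.mul_mem hv hv', ?_⟩
        rw [mul_assoc, mul_assoc, ← mul_assoc v b', ← hc b' hb' v hv, mul_assoc]
      inv_mem' := by
        rintro _ ⟨b, hb, v, hv, rfl⟩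
        refine ⟨b⁻¹, B.inv_mem hb, v⁻¹, V.inv_mem hv, ?_⟩
        rw [mul_inv_rev]
        exact (hc _ (B.inv_mem hb) _ (V.inv_mem hv)).symm }
  have hle : B ⊔ V ≤ W := sup_le (fun b hb => ⟨b, hb, 1, V.one_mem, (mul_one b).symm⟩)
    (fun v hv => ⟨1, B.one_mem, v, hv, (one_mul v).symm⟩)
  intro x hx
  obtain ⟨b, hb, v, hv, rfl⟩ := hle hx
  calc b * v * (b * v) = b * (v * b) * v := by group
    _ = (b * b) * (v * v) := by rw [← hc b hb v hv]; group
    _ = 1 := by rw [hB b hb, hV v hv, one_mul]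

theorem card_mul_le (B V : Subgroup G) :
    Nat.card B * Nat.card V ≤ Nat.card ↥(B ⊔ V) * Nat.card ↥(B ⊓ V) := by
  have h1 : Nat.card V = Nat.card ↥(B ⊓ V) * B.relIndex V := by
    rw [Subgroup.relIndex, ← Subgroup.card_mul_index (B.subgroupOf V)]
    congr 1
    rw [← Subgroup.inf_subgroupOf_right]
    exact Nat.card_congr (Subgroup.subgroupOfEquivOfLe inf_le_right).toEquiv
  have h2 : B.relIndex V ≤ (B.subgroupOf (B ⊔ V)).index :=
    Subgroup.relIndex_le_of_le_right le_sup_right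
      (Subgroup.index_ne_zero_of_finite (H := B.subgroupOf (B ⊔ V)))
  have h3 := Subgroup.card_mul_index (B.subgroupOf (B ⊔ V))
  rw [Nat.card_congr (Subgroup.subgroupOfEquivOfLe (le_sup_left : B ≤ B ⊔ V)).toEquiv] at h3
  calc Nat.card B * Nat.card V = Nat.card B * B.relIndex V * Nat.card ↥(B ⊓ V) := by rw [h1]; ring
    _ ≤ Nat.card ↥(B ⊔ V) * Nat.card ↥(B ⊓ V) :=
        Nat.mul_le_mul_right _ ((Nat.mul_le_mul_left _ h2).trans h3.le)

/-- A maximal elementary subgroup not centralising a normal elementary subgroup can be replaced by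
a quadratic one. -/
theorem exists_quadratic {T V A : Subgroup G} (hVT : V ≤ T) (hV : Elem V)
    (hVn : ∀ t ∈ T, ∀ v ∈ V, t * v * t⁻¹ ∈ V) (hA : IsMax T A)
    (hAC : ¬ A ≤ centralizer (V : Set G)) :
    ∃ B, IsMax T B ∧ ¬ B ≤ centralizer (V : Set G) ∧
      ∀ a ∈ B, ∀ b ∈ B, ∀ v ∈ V, b * (v * (a * v * a⁻¹)) * b⁻¹ = v * (a * v * a⁻¹) := by
  haveI : Fact (Nat.Prime 2) := ⟨Nat.prime_two⟩
  haveI : (V.subgroupOf T).Normal := ⟨fun v hv t => hVn t t.2 v hv⟩
  have helem : ∀ {K : Subgroup G}, Elem K → Cfsg.IsElementaryAbelian 2 (K.subgroupOf T) := fun hK =>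
    Elem.isEA fun a ha => Subtype.ext (hK _ ha)
  have hAm : A.subgroupOf T ∈ Cfsg.maxElementaryAbelianSubgroups 2 T := by
    refine ⟨helem hA.2.1, fun B hB => ?_⟩
    rw [Nat.card_congr (Subgroup.subgroupOfEquivOfLe hA.1).toEquiv,
      Nat.card_congr (B.equivMapOfInjective _ T.subtype_injective).toEquiv]
    refine hA.2.2 _ (Subgroup.map_subtype_le B) ?_
    rintro _ ⟨b, hb, rfl⟩
    exact congrArg Subtype.val (elem_of_isEA hB b hb)
  obtain ⟨hm, hq, hne⟩ := Cfsg.Agent.S0607.result (V.subgroupOf T) (helem hV) (A.subgroupOf T) hAm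
  set B' := ⁅V.subgroupOf T, A.subgroupOf T⁆ ⊔ (A.subgroupOf T ⊓
    Subgroup.centralizer ((⁅V.subgroupOf T, A.subgroupOf T⁆ : Subgroup T) : Set T))
  have hne' : ⁅V.subgroupOf T, A.subgroupOf T⁆ ≠ ⊥ := fun e => hAC fun a ha => by
    rw [Subgroup.mem_centralizer_iff]
    intro v hv
    exact (congrArg Subtype.val (Subgroup.mem_centralizer_iff.1
      (Subgroup.commutator_eq_bot_iff_le_centralizer.1 e (show (⟨v, hVT hv⟩ : T) ∈ V.subgroupOf T from hv))
      ⟨a, hA.1 ha⟩ ha)).symm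
  refine ⟨B'.map T.subtype, ⟨Subgroup.map_subtype_le _, ?_, fun K hK hKe => ?_⟩, fun hle => ?_, ?_⟩
  · rintro _ ⟨b, hb, rfl⟩
    exact congrArg Subtype.val (elem_of_isEA hm.1 b hb)
  · rw [← Nat.card_congr (Subgroup.subgroupOfEquivOfLe hK).toEquiv,
      ← Nat.card_congr (B'.equivMapOfInjective _ T.subtype_injective).toEquiv]
    exact hm.2 _ (helem hKe)
  · refine hne hne' (Subgroup.commutator_eq_bot_iff_le_centralizer.2 fun v hv => ?_)
    rw [Subgroup.mem_centralizer_iff]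
    intro b hb
    exact Subtype.ext (Subgroup.mem_centralizer_iff.1 (hle ⟨b, hb, rfl⟩) v hv).symm
  · rintro _ ⟨a, ha, rfl⟩ _ ⟨b, hb, rfl⟩ v hv
    have hmem : ⁅(⟨v, hVT hv⟩ : T), a⁆ ∈ ⁅V.subgroupOf T, B'⁆ :=
      Subgroup.commutator_mem_commutator (show (⟨v, hVT hv⟩ : T) ∈ V.subgroupOf T from hv) ha
    have hcomm := Subgroup.mem_centralizer_iff.1
      (Subgroup.commutator_eq_bot_iff_le_centralizer.1 hq hmem) b hb
    have e : ((⁅(⟨v, hVT hv⟩ : T), a⁆ : T) : G) = v * ((a : G) * v * (a : G)⁻¹) := by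
      have hvi : v⁻¹ = v := inv_eq_of_mul_eq_one_right (hV v hv)
      show v * (a : G) * v⁻¹ * (a : G)⁻¹ = _
      rw [hvi]; group
    have hG : (b : G) * (v * ((a : G) * v * (a : G)⁻¹)) = v * ((a : G) * v * (a : G)⁻¹) * b := by
      rw [← e, ← Subgroup.coe_mul, hcomm, Subgroup.coe_mul]
    exact mul_inv_eq_iff_eq_mul.2 hG

/-- No normal 2-subgroup in an image, if those of the source die in the kernel. -/
theorem core_of_map {K X : Type*} [Group K] [Group X] (f : K →* X) (M : Subgroup K)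
    (hker : IsPGroup 2 f.ker)
    (hM : ∀ P ≤ M, (∀ m ∈ M, ∀ p ∈ P, m * p * m⁻¹ ∈ P) → IsPGroup 2 P → P ≤ f.ker)
    (N : Subgroup (M.map f)) (hN : N.Normal) (h2 : IsPGroup 2 N) : N = ⊥ := by
  rw [Subgroup.eq_bot_iff_forall]
  rintro ⟨_, m, hm, rfl⟩ hmN
  refine Subtype.ext (hM ((N.map (M.map f).subtype).comap f ⊓ M) inf_le_right ?_
    ((((h2.map _).comap_of_ker_isPGroup f hker)).to_le inf_le_left) ⟨⟨_, hmN, rfl⟩, hm⟩)
  rintro g hg p ⟨⟨y, hy, hyp⟩, hpM⟩
  refine ⟨⟨⟨f g, g, hg, rfl⟩ * y * (⟨f g, g, hg, rfl⟩ : M.map f)⁻¹, hN.conj_mem y hy _, ?_⟩,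
    M.mul_mem (M.mul_mem hg hpM) (M.inv_mem hg)⟩
  simp only [map_mul, map_inv, hyp]
  rfl

/-- An automiser with an offender in the image of `M` is reduced when `O₂(M)` centralises. -/
theorem red_of_offender (H : IsCIT G) {V M A : Subgroup G} (hVe : Elem V) (hV1 : V ≠ ⊥)
    (hMV : M ≤ normalizer (V : Set G)) (hQC : O2 M ≤ centralizer (V : Set G)) (hAM : A ≤ M)
    (hAe : Elem A) (hAC : ¬ A ≤ centralizer (V : Set G))
    (hAq : ∀ a ∈ A, ∀ b ∈ A, ∀ v ∈ V, b * (v * (a * v * a⁻¹)) * b⁻¹ = v * (a * v * a⁻¹))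
    (hbig : Nat.card V * Nat.card ↥(A ⊓ centralizer (V : Set G)) ≤
      Nat.card A * Nat.card ↥(V ⊓ centralizer (A : Set G))) :
    O2 (normalizer (V : Set G)) ≤ centralizer (V : Set G) := by
  haveI : Fact (Nat.Prime 2) := ⟨Nat.prime_two⟩
  have hVM : ∀ m ∈ M, ∀ v ∈ V, m * v * m⁻¹ ∈ V := fun m hm v hv => conj_mem_of_normalizer (hMV hm) hv
  -- the module is irreducible under `M`
  set π := V.normalizerMonoidHom.rangeRestrict
  set Y := img V M with hY
  let φ : Y →* MulAut V := (Aut' V).subtype.comp Y.subtype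
  have hact : Act φ := by
    refine ⟨fun v => Subtype.ext (hVe v v.2), fun a b e => Subtype.ext (Subtype.ext e), ?_, ?_, ?_⟩
    · intro t ht c
      have hc : ((c : Y) : Aut' V) ∈ centralizer ({(t : Aut' V)} : Set (Aut' V)) :=
        Subgroup.mem_centralizer_singleton_iff.2
          (congrArg Subtype.val (Subgroup.mem_centralizer_singleton_iff.1 c.2))
      obtain ⟨k, hk⟩ := aut_cit H hVe hV1 (t : Aut' V) (by rw [Subgroup.orderOf_coe]; exact ht) ⟨_, hc⟩
      have hk' : (((c : Y) : Aut' V)) ^ 2 ^ k = 1 := congrArg Subtype.val hk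
      exact ⟨k, Subtype.ext (Subtype.ext hk')⟩
    · intro x hx v hv hv1
      exact Subtype.ext (aut_fpf H hVe (x : Aut' V) (by rwa [Subgroup.orderOf_coe]) v hv hv1)
    · intro N hN h2
      refine core_of_map π (M.subgroupOf (normalizer (V : Set G))) ?_ ?_ N hN h2
      · rw [MonoidHom.ker_rangeRestrict, V.normalizerMonoidHom_ker]
        exact (H.centralizer_isPGroup hVe.isPGroup hV1).comap_of_injective _ (Subgroup.subtype_injective _)
      · intro P hP hn h2 x hx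
        refine (hom_eq_one_iff V x).2 (hQC (le_O2 (N := P.map (normalizer (V : Set G)).subtype) ?_ ?_
          (h2.map _) (Subgroup.mem_map_of_mem _ hx)))
        · rintro _ ⟨p, hp, rfl⟩
          exact hP hp
        · rintro m hm _ ⟨p, hp, rfl⟩
          exact ⟨_, hn ⟨m, hMV hm⟩ hm p hp, rfl⟩
  have hAY : img V A ≤ Y := Subgroup.map_mono (fun a ha => hAM ha)
  have hquad : Quad φ ((img V A).subgroupOf Y) := by
    refine ⟨?_, ?_, ⟨(V ⊓ centralizer (A : Set G)).subgroupOf V, ?_, ?_⟩, ?_⟩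
    · rw [ne_eq, Subgroup.subgroupOf_eq_bot, disjoint_iff, inf_eq_left.2 hAY]
      intro e
      refine hAC fun a ha => ?_
      have hm : π ⟨a, hMV (hAM ha)⟩ ∈ img V A := ⟨_, ha, rfl⟩
      rw [e, Subgroup.mem_bot, hom_eq_one_iff] at hm
      exact hm
    · rintro y ⟨⟨a, ha'⟩, hmem, e⟩
      refine Subtype.ext ?_
      rw [Subgroup.coe_mul, show (y : Aut' V) = π ⟨a, ha'⟩ from e.symm, ← map_mul]
      exact (congrArg π (Subtype.ext (hAe a hmem))).trans (map_one _)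
    · rintro ⟨u, huV⟩ hu y ⟨⟨a, ha'⟩, hmem, e⟩
      show (Aut' V).subtype (y : Aut' V) _ = _
      rw [show (y : Aut' V) = π ⟨a, ha'⟩ from e.symm]
      refine Subtype.ext ?_
      show a * u * a⁻¹ = u
      rw [Subgroup.mem_centralizer_iff.1 (Subgroup.mem_subgroupOf.1 hu).2 a hmem, mul_inv_cancel_right]
    · rw [Nat.card_congr (Subgroup.subgroupOfEquivOfLe inf_le_left).toEquiv,
        Nat.card_congr (Subgroup.subgroupOfEquivOfLe hAY).toEquiv]
      refine Nat.le_of_mul_le_mul_right ?_ (Nat.card_pos (α := ↥(A ⊓ centralizer (V : Set G))))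
      rw [mul_right_comm (Nat.card (img V A)), Natural.card_map_mul A (hAM.trans hMV)]
      exact hbig
    · rintro y ⟨⟨a, ha'⟩, ham, e⟩ z ⟨⟨b, hb'⟩, hbm, e'⟩ v
      show (Aut' V).subtype (z : Aut' V) (v * (Aut' V).subtype (y : Aut' V) v) =
        v * (Aut' V).subtype (y : Aut' V) v
      rw [show (y : Aut' V) = π ⟨a, ha'⟩ from e.symm, show (z : Aut' V) = π ⟨b, hb'⟩ from e'.symm]
      exact Subtype.ext (hAq a ham b hbm v v.2)
  obtain ⟨W, o⟩ := hact.exists_off hquad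
  -- the fixed points of the 2-core of `N(V)`
  set R := O2 (normalizer (V : Set G)) with hR
  set U := (V ⊓ centralizer (R : Set G)).subgroupOf V with hU
  suffices hUtop : U = ⊤ by
    intro r hr
    rw [Subgroup.mem_centralizer_iff]
    intro v hv
    have : (⟨v, hv⟩ : V) ∈ U := hUtop ▸ Subgroup.mem_top _
    exact (Subgroup.mem_centralizer_iff.1 (Subgroup.mem_subgroupOf.1 this).2 r hr).symm
  have hU1 : U ≠ ⊥ := by
    have hP : IsPGroup 2 ↥(R ⊔ V) :=
      IsPGroup.to_sup_of_normal_right' (O2_isPGroup _) hVe.isPGroup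
        (O2_le (normalizer (V : Set G)))
    haveI : (V.subgroupOf (R ⊔ V)).Normal := ⟨fun v hv x =>
      conj_mem_of_normalizer (K := V) ((sup_le (O2_le _) Subgroup.le_normalizer :
        R ⊔ V ≤ normalizer (V : Set G)) x.2) (x := (v : G)) hv⟩
    haveI := hP.isNilpotent
    have hne' := CfsgLib.Solvable.FrattiniFitting.inf_center_ne_bot (V.subgroupOf (R ⊔ V)) (by
      rw [ne_eq, Subgroup.subgroupOf_eq_bot, disjoint_iff, inf_eq_left.2 (le_sup_right : V ≤ R ⊔ V)]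
      exact hV1)
    obtain ⟨z, hz, hz1⟩ := exists_ne_one hne'
    intro e
    have hzV : ((z : ↥(R ⊔ V)) : G) ∈ V := hz.1
    have hzU : (⟨(z : G), hzV⟩ : V) ∈ U := Subgroup.mem_subgroupOf.2 ⟨hzV,
      Subgroup.mem_centralizer_iff.2 fun r hr =>
        congrArg Subtype.val (Subgroup.mem_center_iff.1 hz.2 ⟨r, (le_sup_left : R ≤ R ⊔ V) hr⟩)⟩
    rw [e, Subgroup.mem_bot] at hzU
    exact hz1 (Subtype.ext (congrArg (fun t : V => (t : G)) hzU))
  have hinv : ∀ y : Y, ∀ v ∈ U, φ y v ∈ U := by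
    rintro ⟨_, ⟨m, hmV⟩, hm, rfl⟩ ⟨v, hv⟩ hvU
    refine Subgroup.mem_subgroupOf.2 ⟨hVM m hm v hv, centralizer_conj ?_ (Subgroup.mem_subgroupOf.1 hvU).2⟩
    rw [mem_normalizer_iff_cj]
    refine Subgroup.eq_of_le_of_card_ge (fun x hx => ?_) (by rw [card_cj])
    obtain ⟨r, hr, rfl⟩ := hx
    exact O2_conj m hmV r hr
  have him : ∀ y : Y, im φ y U = U := fun y =>
    Subgroup.eq_of_le_of_card_ge (by rintro _ ⟨v, hv, rfl⟩; exact hinv y v hv) (card_im _ _ _).ge
  obtain ⟨a, ha, ha1⟩ := exists_ne_one o.ne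
  obtain ⟨w, hwU, hw1, haw⟩ := Off.exists_fixed hact (o.elem a ha) hU1 (him a)
  have hwW : w ∈ W := o.fix a ha ha1 ▸ mem_fx.2 haw
  have hWU : W ≤ U := fun w' hw' => by
    by_cases hw'1 : w' = 1
    · rw [hw'1]; exact U.one_mem
    obtain ⟨x, -, e⟩ := o.normalizer_trans hact hwW hw1 hw' hw'1
    exact e ▸ hinv x w hwU
  obtain ⟨u, hu2, hun⟩ := o.exists_outside hact
  rw [Subgroup.eq_top_iff']
  intro v
  obtain ⟨w₁, hw₁, w₂, hw₂, rfl⟩ := o.decomp hact ⟨hu2, hun⟩ v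
  exact U.mul_mem (hWU hw₁) (hinv u w₂ (hWU hw₂))


/-- A 2-local subgroup normalises the Thompson subgroup of its Sylow 2-subgroup or a natural
module inside that Sylow subgroup. -/
theorem IsCIT.local_cases (H : IsCIT G) {D T : Subgroup G} (hD : IsPGroup 2 D) (hD1 : D ≠ ⊥)
    (hT : IsSyl T (normalizer (D : Set G))) :
    normalizer (D : Set G) ≤ normalizer (J T : Set G) ∨
      ∃ V, Natural V ∧ V ≤ T ∧ normalizer (D : Set G) ≤ normalizer (V : Set G) := by
  classical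
  haveI : Fact (Nat.Prime 2) := ⟨Nat.prime_two⟩
  set M := normalizer (D : Set G) with hM
  set Q := O2 M with hQ
  have hQT : Q ≤ T := O2_le_syl hT
  by_cases hall : ∀ A, IsMax T A → A ≤ Q
  · left
    rw [J_eq_of_le hQT hall]
    intro m hm
    refine normalizer_le_normalizer_J Q ?_
    rw [mem_normalizer_iff_cj]
    refine Subgroup.eq_of_le_of_card_ge (fun x hx => ?_) (by rw [card_cj])
    obtain ⟨q, hq, rfl⟩ := hx
    exact O2_conj m hm q hq
  right
  push Not at hall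
  obtain ⟨A₀, hA₀, hA₀Q⟩ := hall
  have hQ2 : IsPGroup 2 Q := O2_isPGroup M
  have hDQ : D ≤ Q := le_O2 Subgroup.le_normalizer
    (fun m hm d hd => conj_mem_of_normalizer hm hd) hD
  have hQ1 : Q ≠ ⊥ := fun e => hD1 (le_bot_iff.1 (e ▸ hDQ))
  set V := omz Q with hVdef
  have hVM : ∀ m ∈ M, ∀ v ∈ V, m * v * m⁻¹ ∈ V := omz_conj (O2_conj (M := M))
  have hVe : Elem V := elem_omz Q
  have hV1 : V ≠ ⊥ := omz_ne_bot hQ2 hQ1
  have hVT : V ≤ T := (omz_le Q).trans hQT
  have hMV : M ≤ normalizer (V : Set G) := fun m hm => by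
    rw [mem_normalizer_iff_cj]
    refine Subgroup.eq_of_le_of_card_ge (fun x hx => ?_) (by rw [card_cj])
    obtain ⟨w, hw, rfl⟩ := hx
    exact hVM m hm w hw
  have hC2 : IsPGroup 2 ↥(centralizer (V : Set G)) := H.centralizer_isPGroup hVe.isPGroup hV1
  have hQC : Q ≤ centralizer (V : Set G) := fun q hq =>
    Subgroup.mem_centralizer_iff.2 fun u hu => hu.2.2 q hq
  have hCMQ : centralizer (V : Set G) ⊓ M ≤ Q :=
    le_O2 inf_le_right (fun m hm n hn => ⟨centralizer_conj (hMV hm) hn.1,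
      M.mul_mem (M.mul_mem hm hn.2) (M.inv_mem hm)⟩) (hC2.to_le inf_le_left)
  have hA₀C : ¬ A₀ ≤ centralizer (V : Set G) := fun hle =>
    hA₀Q ((le_inf hle (hA₀.1.trans hT.1)).trans hCMQ)
  obtain ⟨A, hA, hAC, hAq⟩ := exists_quadratic hVT hVe (fun t ht v hv => hVM t (hT.1 ht) v hv)
    hA₀ hA₀C
  have hAM : A ≤ M := hA.1.trans hT.1
  have hbig : Nat.card V * Nat.card ↥(A ⊓ centralizer (V : Set G)) ≤
      Nat.card A * Nat.card ↥(V ⊓ centralizer (A : Set G)) := by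
    set B := A ⊓ centralizer (V : Set G) with hB
    have hBe : Elem B := fun x hx => hA.2.1 x hx.1
    have hBV : Elem (B ⊔ V) := elem_sup hBe hVe
      fun b hb v hv => (Subgroup.mem_centralizer_iff.1 hb.2 v hv).symm
    calc Nat.card V * Nat.card B ≤ Nat.card ↥(B ⊔ V) * Nat.card ↥(B ⊓ V) := by
          rw [mul_comm]; exact card_mul_le B V
      _ ≤ Nat.card A * Nat.card ↥(V ⊓ centralizer (A : Set G)) := by
          refine Nat.mul_le_mul (hA.2.2 _ (sup_le (inf_le_left.trans hA.1) hVT) hBV)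
            (Subgroup.card_le_of_le fun x hx => ⟨hx.2, Subgroup.mem_centralizer_iff.2 fun a ha => ?_⟩)
          exact hA.2.1.comm ha hx.1.1
  refine ⟨V, ⟨hVe, hV1, ?_, ?_, A, hAM.trans hMV, hA.2.1, hAC, hAq, hbig⟩, hVT, hMV⟩
  · intro w hw hw2 hwc
    have hwM : w ∈ M := by
      have h1 : w ∈ centralizer (D : Set G) :=
        Subgroup.mem_centralizer_iff.2 fun x hx => (hwc x (hQC (hDQ hx))).symm
      exact centralizer_le_normalizer D h1
    exact ⟨hCMQ ⟨hw, hwM⟩, hw2, fun q hq => hwc q (hQC hq)⟩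
  exact red_of_offender H hVe hV1 hMV hQC hAM hA.2.1 hAC hAq hbig

end CfsgLib.Recognition.CIT
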