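import Cfsg.Agent.Lib.Recognition.CIT.Offender

/-!
The two-point stabiliser of a quadratic offender, the element of order three, and the weights of
the torus on the module and on the offender.
-/

set_option autoImplicit false
set_option linter.unusedSectionVars false
set_option linter.style.haveILetI false

open Subgroup

namespace CfsgLib.Recognition.CIT

open CfsgLib.Recognition.PrimeOrders CfsgLib.Involution.Dihedral

variable {X V : Type*} [Group X] [Group V] {φ : X →* MulAut V}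
variable {A : Subgroup X} {W : Subgroup V}

namespace Off

variable [Finite X] [Finite V]

/-- An involution outside the normaliser of the offender. -/
structure Out (A : Subgroup X) (u : X) : Prop where
  two : orderOf u = 2
  nmem : u ∉ normalizer (A : Set X)

/-- The stabiliser of `W` and of its image under `u`. -/
def tor (A : Subgroup X) (u : X) : Subgroup X :=
  normalizer (A : Set X) ⊓ normalizer (PrimeOrders.cj u A : Set X)

theorem tor_odd (o : Off φ A W) (h : Act φ) {u : X} (hu : Out A u) {d : X} (hd : d ∈ tor A u) :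
    Odd (orderOf d) := by
  rcases Nat.even_or_odd (orderOf d) with he | ho
  swap; · exact ho
  exfalso
  obtain ⟨n, hn⟩ := he
  have hn0 : 0 < n := by have := orderOf_pos d; omega
  have h2 : orderOf (d ^ n) = 2 := by
    refine orderOf_eq_prime ?_ (pow_ne_one_of_lt_orderOf hn0.ne' (by omega))
    rw [← pow_mul, mul_two, ← hn, pow_orderOf_eq_one]
  exact hu.nmem (o.eq_of_preserve h h2 (Subgroup.pow_mem _ hd.1 n) (Subgroup.pow_mem _ hd.2 n))

theorem normalizer_decomp (o : Off φ A W) (h : Act φ) {u : X} (hu : Out A u) {x : X}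
    (hx : x ∈ normalizer (A : Set X)) : ∃ a ∈ A, a * x ∈ tor A u := by
  have hxu : x * u ∉ normalizer (A : Set X) := fun e => hu.nmem (by
    have := (normalizer (A : Set X)).mul_mem ((normalizer (A : Set X)).inv_mem hx) e
    rwa [inv_mul_cancel_left] at this)
  obtain ⟨a, ha, e⟩ := (o.points_card h hxu).2 u hu.nmem
  refine ⟨a, ha, (normalizer (A : Set X)).mul_mem (Subgroup.le_normalizer ha) hx, ?_⟩
  refine ((o.conj u).mem_normalizer_iff h (a * x)).2 ?_
  rw [← im_mul, mul_assoc, e]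

theorem inf_tor (o : Off φ A W) (h : Act φ) {u a : X} (hu : Out A u) (ha : a ∈ A)
    (hd : a ∈ tor A u) : a = 1 := by
  by_contra h1
  have := o.tor_odd h hu hd
  rw [order_two o.elem ha h1] at this
  exact absurd this (by decide)

theorem card_normalizer (o : Off φ A W) (h : Act φ) {u : X} (hu : Out A u) :
    Nat.card ↥(normalizer (A : Set X)) = Nat.card A * Nat.card (tor A u) := by
  rw [← Nat.card_prod]
  refine (Nat.card_eq_of_bijective (fun p : A × tor A u =>
    (⟨(p.1 : X) * p.2, (normalizer (A : Set X)).mul_mem (Subgroup.le_normalizer p.1.2) p.2.2.1⟩ :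
      normalizer (A : Set X))) ⟨?_, ?_⟩).symm
  · rintro ⟨a, d⟩ ⟨a', d'⟩ e
    have e' : (a : X) * d = a' * d' := congrArg Subtype.val e
    have e2 : (a' : X)⁻¹ * a = (d' : X) * (d : X)⁻¹ := by
      rw [eq_mul_inv_iff_mul_eq, mul_assoc, e', inv_mul_cancel_left]
    have e3 : (a' : X)⁻¹ * a = 1 := o.inf_tor h hu (A.mul_mem (A.inv_mem a'.2) a.2)
      (e2 ▸ (tor A u).mul_mem d'.2 ((tor A u).inv_mem d.2))
    have e4 := inv_mul_eq_one.1 e3
    rw [e4] at e'
    exact Prod.ext (Subtype.ext e4.symm) (Subtype.ext (mul_left_cancel e'))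
  · rintro ⟨x, hx⟩
    obtain ⟨a, ha, hax⟩ := o.normalizer_decomp h hu hx
    exact ⟨(⟨a⁻¹, A.inv_mem ha⟩, ⟨a * x, hax⟩), Subtype.ext (inv_mul_cancel_left a x)⟩

theorem card_tor_odd (o : Off φ A W) (h : Act φ) {u : X} (hu : Out A u) :
    ¬ 2 ∣ Nat.card (tor A u) := fun h2 => by
  haveI : Fact (Nat.Prime 2) := ⟨Nat.prime_two⟩
  obtain ⟨c, hc⟩ := exists_prime_orderOf_dvd_card' (G := tor A u) 2 h2
  have := o.tor_odd h hu c.2
  rw [Subgroup.orderOf_coe, hc] at this
  exact absurd this (by decide)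

/-- The 2-subgroups normalising the offender lie in it. -/
theorem two_le_normalizer (o : Off φ A W) (h : Act φ) {P : Subgroup X} (hP : IsPGroup 2 P)
    (hPA : P ≤ normalizer (A : Set X)) : P ≤ A := by
  haveI : Fact (Nat.Prime 2) := ⟨Nat.prime_two⟩
  obtain ⟨u, hu2, hun⟩ := o.exists_outside h
  have hu : Out A u := ⟨hu2, hun⟩
  obtain ⟨k, hk⟩ := IsPGroup.iff_card.1 (IsPGroup.to_sup_of_normal_left' o.elem.isPGroup hP hPA)
  have hd := Subgroup.card_dvd_of_le (sup_le Subgroup.le_normalizer hPA : A ⊔ P ≤ _)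
  rw [o.card_normalizer h hu, hk] at hd
  have hd' : 2 ^ k ∣ Nat.card A :=
    (Nat.Coprime.pow_left k (Nat.prime_two.coprime_iff_not_dvd.2 (o.card_tor_odd h hu))).dvd_of_dvd_mul_right hd
  have e : A = A ⊔ P := Subgroup.eq_of_le_of_card_ge le_sup_left
    (hk ▸ Nat.le_of_dvd Nat.card_pos hd')
  exact e ▸ le_sup_right

/-- Every 2-subgroup lies in a conjugate of the offender. -/
theorem exists_le_cj (o : Off φ A W) (h : Act φ) {P : Subgroup X} (hP : IsPGroup 2 P) :
    ∃ g, P ≤ PrimeOrders.cj g A := by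
  obtain ⟨g, hg⟩ := o.exists_normalized h hP
  exact ⟨g, (o.conj g).two_le_normalizer h hP hg⟩

theorem card_le_of_isPGroup (o : Off φ A W) (h : Act φ) {P : Subgroup X} (hP : IsPGroup 2 P) :
    Nat.card P ≤ Nat.card A := by
  obtain ⟨g, hg⟩ := o.exists_le_cj h hP
  exact (Subgroup.card_le_of_le hg).trans (card_cj g A).le

theorem mem_of_two (o : Off φ A W) (h : Act φ) {s : X} (hs : orderOf s = 2)
    (hn : s ∈ normalizer (A : Set X)) : s ∈ A :=
  o.two_le_normalizer h (CfsgLib.Involution.Basic.isPGroup_zpowers (p := 2) (k := 1) hs)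
    (zpowers_le.2 hn) (mem_zpowers s)

/-- The offender's involutions are conjugate to every involution outside its normaliser. -/
theorem isConj_out (o : Off φ A W) (h : Act φ) {u s : X} (hu : Out A u) (hs : s ∈ A)
    (hs1 : s ≠ 1) : IsConj s u := by
  have hs2 := order_two o.elem hs hs1
  rcases Nat.even_or_odd (orderOf (s * u)) with he | ho
  swap; · exact isConj_of_odd hs2 hu.two ho
  exfalso
  set w := (s * u) ^ (orderOf (s * u) / 2) with hw
  obtain ⟨n, hn⟩ := he
  have hn0 : 0 < n := by have := orderOf_pos (s * u); omega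
  have hwn : w = (s * u) ^ n := by rw [hw, hn]; congr 1; omega
  have hw2 : orderOf w = 2 := by
    rw [hwn]
    refine orderOf_eq_prime ?_ (pow_ne_one_of_lt_orderOf hn0.ne' (by omega))
    rw [← pow_mul, mul_two, ← hn, pow_orderOf_eq_one]
  have hinv : ∀ x : X, x * x = 1 → x * (s * u) * x⁻¹ = (s * u)⁻¹ → w * x = x * w := by
    intro x _ e
    have h1 := conj_pow e n
    rw [← hwn, inv_eq hw2] at h1
    exact (mul_inv_eq_iff_eq_mul.1 h1).symm
  have hws := hinv s (mul_self hs2) (conj_mul_left hs2 hu.two)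
  have hwu := hinv u (mul_self hu.two) (by
    rw [mul_inv_rev, inv_eq hu.two, inv_eq hs2, mul_assoc, mul_assoc, mul_self hu.two, mul_one])
  obtain ⟨g, hg⟩ := o.exists_le_cj h (CfsgLib.Involution.Basic.isPGroup_zpowers (p := 2) (k := 1) hw2)
  have hwg := hg (mem_zpowers w)
  -- `s` and `u` commute with `w`, so preserve its fixed space
  have hn : ∀ x : X, w * x = x * w → x ∈ normalizer (PrimeOrders.cj g A : Set X) := by
    intro x hx
    refine mem_normalizer_iff_cj.2 ((o.conj g).eq_of_mem ((o.conj g).conj x) h hwg ?_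
      (fun e => by rw [e, orderOf_one] at hw2; omega))
    rw [mem_cj]
    have : x⁻¹ * w * x = w := by rw [mul_assoc, hx, inv_mul_cancel_left]
    rwa [this]
  have hgA : g ∈ normalizer (A : Set X) :=
    o.eq_of_preserve h hs2 (Subgroup.le_normalizer hs) (hn s hws)
  refine hu.nmem ?_
  rw [← mem_normalizer_iff_cj.1 hgA]
  exact hn u hwu

theorem trans_inv (o : Off φ A W) (h : Act φ) {u s t : X} (hu : Out A u) (hs : s ∈ A) (hs1 : s ≠ 1)
    (ht : t ∈ A) (ht1 : t ≠ 1) : ∃ d ∈ tor A u, d * s * d⁻¹ = t := by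
  obtain ⟨g, hg⟩ := isConj_iff.1 ((o.isConj_out h hu hs hs1).trans (o.isConj_out h hu ht ht1).symm)
  have hgN : g ∈ normalizer (A : Set X) := by
    refine o.eq_of_preserve h (order_two o.elem ht ht1) (Subgroup.le_normalizer ht) ?_
    exact Subgroup.le_normalizer (hg ▸ conj_mem_cj hs)
  obtain ⟨a, ha, hag⟩ := o.normalizer_decomp h hu hgN
  refine ⟨a * g, hag, ?_⟩
  calc a * g * s * (a * g)⁻¹ = a * (g * s * g⁻¹) * a⁻¹ := by group
    _ = t := by rw [hg, o.elem.comm ha ht, mul_inv_cancel_right]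

theorem tor_preserves (o : Off φ A W) (h : Act φ) {d : X} (hd : d ∈ normalizer (A : Set X))
    {w : V} (hw : w ∈ W) : φ d w ∈ W := (o.mem_normalizer_iff h d).1 hd ▸ apply_mem_im hw

theorem card_ne_one {Y : Type*} [Finite Y] (e : Y) : Nat.card {y : Y // y ≠ e} = Nat.card Y - 1 := by
  classical
  haveI := Fintype.ofFinite Y
  rw [Nat.card_eq_fintype_card, Fintype.card_subtype_compl, Fintype.card_subtype_eq,
    Nat.card_eq_fintype_card]

/-- The torus is regular on the nonidentity elements of the fixed space. -/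
theorem tor_regular (o : Off φ A W) (h : Act φ) {u : X} (hu : Out A u) :
    Nat.card (tor A u) = Nat.card W - 1 ∧
      ∀ w ∈ W, w ≠ 1 → ∀ w' ∈ W, w' ≠ 1 → ∃ d ∈ tor A u, φ d w = w' := by
  obtain ⟨a, ha, ha1⟩ := exists_ne_one o.ne
  let f : tor A u → {b : A // b ≠ 1} := fun d => ⟨⟨(d : X) * a * (d : X)⁻¹,
    (Subgroup.mem_normalizer_iff.1 d.2.1 a).1 ha⟩, fun e => ha1 (conj_eq_one_iff.1 (congrArg Subtype.val e))⟩
  have hf : Function.Surjective f := by
    rintro ⟨⟨b, hb⟩, hb1⟩
    obtain ⟨d, hd, e⟩ := o.trans_inv h hu ha ha1 hb (fun e => hb1 (Subtype.ext e))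
    exact ⟨⟨d, hd⟩, Subtype.ext (Subtype.ext e)⟩
  have hlo := Nat.card_le_card_of_surjective f hf
  rw [card_ne_one, o.card] at hlo
  have key : ∀ w ∈ W, w ≠ 1 → ∀ d d' : tor A u, φ (d : X) w = φ (d' : X) w → d = d' := by
    intro w _ hw1 d d' e
    refine (inv_mul_eq_one.1 (Subtype.ext ?_)).symm
    refine h.fpf _ (o.tor_odd h hu (d'⁻¹ * d).2) w ?_ hw1
    rw [Subgroup.coe_mul, Subgroup.coe_inv, mul_apply', e, inv_apply_apply]
  have main : ∀ w ∈ W, w ≠ 1 → Nat.card (tor A u) = Nat.card W - 1 ∧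
      ∀ w' ∈ W, w' ≠ 1 → ∃ d ∈ tor A u, φ d w = w' := by
    intro w hw hw1
    let g : tor A u → {y : W // y ≠ 1} := fun d => ⟨⟨φ (d : X) w, o.tor_preserves h d.2.1 hw⟩,
      fun e => hw1 ((φ (d : X)).injective ((congrArg Subtype.val e).trans (map_one _).symm))⟩
    have hg : Function.Injective g := fun d d' e =>
      key w hw hw1 d d' (congrArg (fun y : {y : W // y ≠ 1} => ((y : W) : V)) e)
    have hup := Nat.card_le_card_of_injective g hg
    rw [card_ne_one] at hup
    have hc := le_antisymm hup hlo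
    refine ⟨hc, fun w' hw' hw'1 => ?_⟩
    obtain ⟨d, hd⟩ := ((Nat.bijective_iff_injective_and_card g).2
      ⟨hg, by rw [card_ne_one, hc]⟩).2 ⟨⟨w', hw'⟩, fun e => hw'1 (congrArg Subtype.val e)⟩
    exact ⟨d, d.2, congrArg (fun y : {y : W // y ≠ 1} => ((y : W) : V)) hd⟩
  obtain ⟨w, hw, hw1⟩ := exists_ne_one o.W_ne_bot
  exact ⟨(main w hw hw1).1, fun w hw hw1 => (main w hw hw1).2⟩

/-- The outer involution inverts the torus. -/
theorem inverts (o : Off φ A W) (h : Act φ) {u d : X} (hu : Out A u) (hd : d ∈ tor A u) :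
    u * d * u⁻¹ = d⁻¹ := by
  have hcc : PrimeOrders.cj u (PrimeOrders.cj u A) = A := by
    rw [cj_cj, mul_self hu.two, cj_one]
  have hn : ∀ x ∈ tor A u, u * x * u⁻¹ ∈ tor A u := fun x hx => by
    refine ⟨?_, ?_⟩
    · rw [← hcc, normalizer_cj]; exact conj_mem_cj hx.2
    · rw [normalizer_cj]; exact conj_mem_cj hx.1
  have huu : u * u = 1 := mul_self hu.two
  let f : tor A u → tor A u := fun x =>
    ⟨(x : X)⁻¹ * (u * x * u⁻¹), (tor A u).mul_mem ((tor A u).inv_mem x.2) (hn _ x.2)⟩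
  have hf : Function.Injective f := by
    intro x y e
    have e' : (x : X)⁻¹ * (u * x * u⁻¹) = (y : X)⁻¹ * (u * y * u⁻¹) := congrArg Subtype.val e
    set z := (y : X) * (x : X)⁻¹ with hz
    have hzu : u * z * u⁻¹ = z := by
      calc u * z * u⁻¹ = (y : X) * ((y : X)⁻¹ * (u * y * u⁻¹)) * (u * x * u⁻¹)⁻¹ := by rw [hz]; group
        _ = z := by rw [← e', hz]; group
    have hz1 : z = 1 := by
      obtain ⟨k, hk⟩ := h.cit u hu.two ⟨z, Subgroup.mem_centralizer_singleton_iff.2
        (mul_inv_eq_iff_eq_mul.1 hzu).symm⟩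
      have hzo := o.tor_odd h hu ((tor A u).mul_mem y.2 ((tor A u).inv_mem x.2))
      obtain ⟨j, -, hj⟩ := (Nat.dvd_prime_pow Nat.prime_two).1
        (orderOf_dvd_of_pow_eq_one (congrArg Subtype.val hk : z ^ 2 ^ k = 1))
      rcases Nat.eq_zero_or_pos j with rfl | hj0
      · exact orderOf_eq_one_iff.1 (by rw [hj, pow_zero])
      · rw [← hz, hj, Nat.odd_pow_iff hj0.ne'] at hzo
        exact absurd hzo (by decide)
    exact Subtype.ext (mul_inv_eq_one.1 hz1).symm
  obtain ⟨x, hx⟩ := Finite.surjective_of_injective hf ⟨d, hd⟩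
  have hdx : d = (x : X)⁻¹ * (u * x * u⁻¹) := (congrArg Subtype.val hx).symm
  rw [hdx]
  calc u * ((x : X)⁻¹ * (u * x * u⁻¹)) * u⁻¹ = u * (x : X)⁻¹ * u * x * (u * u)⁻¹ := by group
    _ = ((x : X)⁻¹ * (u * x * u⁻¹))⁻¹ := by rw [huu, inv_eq hu.two, inv_one, mul_one, mul_inv_rev,
        mul_inv_rev, mul_inv_rev, inv_inv, inv_eq hu.two]; group

theorem tor_comm (o : Off φ A W) (h : Act φ) {u d e : X} (hu : Out A u) (hd : d ∈ tor A u)
    (he : e ∈ tor A u) : d * e = e * d := by
  have h1 := o.inverts h hu ((tor A u).mul_mem hd he)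
  have h2 : u * (d * e) * u⁻¹ = d⁻¹ * e⁻¹ := by
    rw [← o.inverts h hu hd, ← o.inverts h hu he]; group
  rw [h2, ← mul_inv_rev, inv_inj] at h1
  exact h1.symm

theorem im_out (o : Off φ A W) (h : Act φ) {u : X} (hu : Out A u) : im φ u W ≠ W :=
  fun e => hu.nmem ((o.mem_normalizer_iff h u).2 e)

/-- An offender element whose product with `u` has order three. -/
theorem exists_three (o : Off φ A W) (h : Act φ) {u : X} (hu : Out A u) :
    ∃ a ∈ A, a ≠ 1 ∧ u * a * u = a * u * a := by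
  have huu : u * u = 1 := mul_self hu.two
  have hui : u⁻¹ = u := inv_eq hu.two
  have hH : ∀ {x}, x ∈ normalizer (A : Set X) → im φ x W = W := fun hx => (o.mem_normalizer_iff h _).1 hx
  have hA : ∀ {x}, x ∈ A → im φ x W = W := fun hx => hH (Subgroup.le_normalizer hx)
  have huW : im φ u (im φ u W) = W := by rw [← im_mul, huu, im_one]
  have hne : ∀ {x}, x ∈ A → x ≠ 1 → im φ x (im φ u W) ≠ im φ u W := fun hx hx1 =>
    o.not_preserve h hu.nmem hx hx1
  have hinj : ∀ {b c}, b ∈ A → c ∈ A → im φ b (im φ u W) = im φ c (im φ u W) → b = c := by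
    intro b c hb hc e
    by_contra hbc
    refine hne (A.mul_mem (A.inv_mem hc) hb) (fun e => hbc (inv_mul_eq_one.1 e).symm) ?_
    rw [im_mul, e, im_inv rfl]
  obtain ⟨a, ha, ha1⟩ := exists_ne_one o.ne
  have hzW : im φ (u * a * u) W = im φ u (im φ a (im φ u W)) := by rw [im_mul, im_mul]
  have hz : u * a * u ∉ normalizer (A : Set X) := fun e => hne ha ha1 (by
    have e' : im φ u (im φ a (im φ u W)) = W := hzW ▸ hH e
    rw [← im_inv e', hui])
  obtain ⟨b, hb, hbW⟩ := (o.points_card h hu.nmem).2 _ hz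
  have hb1 : b ≠ 1 := fun e => by
    rw [e, one_mul, hzW] at hbW
    have := congrArg (im φ u) hbW
    rw [huW, ← im_mul φ u u, huu, im_one] at this
    exact o.im_out h hu (im_inv (x := a) this.symm ▸ hA (A.inv_mem ha))
  -- `z = b u d c`
  set h₀ := (b * u)⁻¹ * (u * a * u) with hh₀
  have hh₀N : h₀ ∈ normalizer (A : Set X) := by
    rw [o.mem_normalizer_iff h, hh₀, im_mul, ← hbW, im_inv rfl]
  obtain ⟨c₀, hc₀, hd₀⟩ := o.normalizer_decomp h hu hh₀N
  set d := c₀ * h₀ with hd
  set c := d⁻¹ * c₀⁻¹ * d with hc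
  have hcA : c ∈ A := by
    have := (Subgroup.mem_normalizer_iff.1 ((normalizer (A : Set X)).inv_mem hd₀.1) c₀⁻¹).1
      (A.inv_mem hc₀)
    rwa [inv_inv] at this
  have ez : u * a * u = b * u * d * c := by rw [hc, hd, hh₀]; group
  have einv : (u * a * u)⁻¹ = u * a * u := by
    rw [mul_inv_rev, mul_inv_rev, hui, inv_eq_of_mul_eq_one_right (o.elem a ha), mul_assoc]
  have eflip : u * a * u = c * u * d * b := by
    rw [← einv, ez]
    have hud : u * d * u⁻¹ = d⁻¹ := o.inverts h hu hd₀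
    calc (b * u * d * c)⁻¹ = c⁻¹ * d⁻¹ * u⁻¹ * b⁻¹ := by group
      _ = c * (u * d * u⁻¹) * u * b := by
        rw [inv_eq_of_mul_eq_one_right (o.elem c hcA), inv_eq_of_mul_eq_one_right (o.elem b hb), hud, hui]
      _ = c * u * d * b := by group
  have hbc : b = c := by
    refine hinj hb hcA ?_
    have e1 := congrArg (fun z => im φ z W) (ez.symm.trans eflip)
    simp only [im_mul] at e1
    rwa [hA hb, hA hcA, hH hd₀.1] at e1
  rw [← hbc] at ez
  -- conjugate so that `d` disappears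
  have hdo := o.tor_odd h hu hd₀
  obtain ⟨n, hn⟩ := hdo
  set x := (d⁻¹) ^ (n + 1) with hx
  have hxT : x ∈ tor A u := (tor A u).pow_mem ((tor A u).inv_mem hd₀) _
  have hxd : x * d * x = 1 := by
    have hc' : Commute d x := (Commute.refl d).inv_right.pow_right _
    rw [← hc'.eq, mul_assoc, hx, ← pow_add, show n + 1 + (n + 1) = (2 * n + 1) + 1 by ring, pow_succ',
      mul_inv_cancel_left, inv_pow, ← hn, pow_orderOf_eq_one, inv_one]
  have hux : x⁻¹ * u = u * x := by
    rw [← o.inverts h hu hxT, inv_mul_cancel_right]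
  have hux' : u * x⁻¹ = x * u := by
    rw [← o.inverts h hu hxT, ← mul_assoc, ← mul_assoc, huu, one_mul, hui]
  set a' := x * a * x⁻¹ with ha'
  set b' := x⁻¹ * b * x with hb'
  have ha'A : a' ∈ A := (Subgroup.mem_normalizer_iff.1 hxT.1 a).1 ha
  have hb'A : b' ∈ A := by
    have := (Subgroup.mem_normalizer_iff.1 ((normalizer (A : Set X)).inv_mem hxT.1) b).1 hb
    rwa [inv_inv] at this
  have key : u * a' * u = b' * u * b' := by
    calc u * a' * u = (u * x) * a * (x⁻¹ * u) := by rw [ha']; group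
      _ = (x⁻¹ * u) * a * (u * x) := congrArg₂ (fun p q => p * a * q) hux.symm hux
      _ = x⁻¹ * (u * a * u) * x := by group
      _ = b' * (x⁻¹ * u) * d * x * b' := by rw [ez, hb']; group
      _ = b' * u * (x * d * x) * b' := by rw [hux]; group
      _ = b' * u * b' := by rw [hxd, mul_one]
  refine ⟨a', ha'A, fun e => ha1 (conj_eq_one_iff.1 e), ?_⟩
  have hab : a' = b' := by
    have e1 : a' = u * b' * u * b' * u := by
      calc a' = (u * u) * a' * (u * u) := by rw [huu]; group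
        _ = u * (u * a' * u) * u := by group
        _ = u * b' * u * b' * u := by rw [key]; group
    have e2 : a' * u * b' = u * b' * u := by
      calc a' * u * b' = u * b' * u * (b' * (u * u) * b') := by rw [e1]; group
        _ = u * b' * u := by rw [huu, mul_one, o.elem b' hb'A, mul_one]
    have e3 : a' * u * b' = b' * u * a' := by
      calc a' * u * b' = (u * b' * u)⁻¹ := by
            rw [e2, mul_inv_rev, mul_inv_rev, hui, inv_eq_of_mul_eq_one_right (o.elem b' hb'A), mul_assoc]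
        _ = b'⁻¹ * u⁻¹ * a'⁻¹ := by rw [← e2]; group
        _ = b' * u * a' := by
            rw [hui, inv_eq_of_mul_eq_one_right (o.elem a' ha'A),
              inv_eq_of_mul_eq_one_right (o.elem b' hb'A)]
    refine hinj ha'A hb'A ?_
    have e4 := congrArg (fun z => im φ z W) e3
    simp only [im_mul] at e4
    rwa [hA ha'A, hA hb'A] at e4
  rw [key, ← hab]

/-- The commutator with the chosen element recovers the fixed space from its image. -/
theorem cm_three (o : Off φ A W) (h : Act φ) {u a : X} (hu : Out A u) (ha : a ∈ A)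
    (he : u * a * u = a * u * a) {w : V} (hw : w ∈ W) : cm h a (φ u w) = w := by
  set g := cm h a (φ u w) with hg
  have hgW : g ∈ W := o.cm_mem a ha _
  have hauw : φ a (φ u w) = φ u w * g := apply_eq h a _
  have e1 : φ (u * a * u) w = φ (a * u * a) w := by rw [he]
  rw [mul_apply', mul_apply', mul_apply', mul_apply', o.fixed ha hw, hauw, map_mul,
    ← mul_apply' φ u u, mul_self hu.two, map_one, MulAut.one_apply] at e1
  -- `e1 : w * φ u g = φ u w * g`
  have e2 : φ u (w * g) = w * g := by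
    calc φ u (w * g) = φ u w * φ u g := map_mul _ _ _
      _ = (w * φ u g) * g * φ u g := by rw [e1, mul_assoc (φ u w) g g, h.elem, mul_one]
      _ = w * g := by rw [mul_assoc, mul_assoc, h.comm g (φ u g), ← mul_assoc (φ u g), h.elem, one_mul]
  have h1 : w * g = 1 := by
    by_contra hne
    refine hu.nmem (o.eq_of_common_fixed h hne (W.mul_mem hw hgW) ?_)
    rw [← e2]
    exact apply_mem_im (W.mul_mem hw hgW)
  rw [← mul_one g, ← h.mul_left w g, h1, mul_one, mul_one]

theorem decomp (o : Off φ A W) (h : Act φ) {u : X} (hu : Out A u) (v : V) :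
    ∃ w₁ ∈ W, ∃ w₂ ∈ W, v = w₁ * φ u w₂ := by
  let f : W × W → V := fun p => (p.1 : V) * φ u p.2
  have hf : Function.Injective f := by
    rintro ⟨a, b⟩ ⟨a', b'⟩ e
    have e' : (a : V) * φ u b = a' * φ u b' := e
    have e2 : φ u ((b : V) * b') = (a : V) * a' := by
      calc φ u ((b : V) * b') = (a : V) * ((a : V) * φ u b) * φ u b' := by rw [map_mul, h.mul_left]
        _ = (a : V) * a' := by rw [e', mul_assoc, mul_assoc, h.elem, mul_one]
    have e3 : (a : V) * a' = 1 := by
      by_contra hne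
      refine hu.nmem (o.eq_of_common_fixed h hne (W.mul_mem a.2 a'.2) ?_)
      rw [← e2]
      exact apply_mem_im (W.mul_mem b.2 b'.2)
    rw [e3] at e2
    have e4 : (b : V) * b' = 1 := (φ u).injective (e2.trans (map_one _).symm)
    rw [← h.inv' (a' : V), mul_inv_eq_one] at e3
    rw [← h.inv' (b' : V), mul_inv_eq_one] at e4
    exact Prod.ext (Subtype.ext e3) (Subtype.ext e4)
  obtain ⟨⟨a, b⟩, hab⟩ := ((Nat.bijective_iff_injective_and_card f).2
    ⟨hf, by rw [Nat.card_prod, o.cardV]⟩).2 v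
  exact ⟨a, a.2, b, b.2, hab.symm⟩

/-- An element of order three moving the fixed space off itself. -/
theorem exists_sigma (o : Off φ A W) (h : Act φ) :
    ∃ σ : X, orderOf σ = 3 ∧ ∀ w ∈ W, φ σ w ∈ W → w = 1 := by
  obtain ⟨u, hu2, hun⟩ := o.exists_outside h
  obtain ⟨a, ha, ha1, he⟩ := o.exists_three h ⟨hu2, hun⟩
  have huu := mul_self hu2
  refine ⟨u * a, ?_, fun w hw hσ => ?_⟩
  · haveI : Fact (Nat.Prime 3) := ⟨Nat.prime_three⟩
    refine orderOf_eq_prime ?_ fun e => hun ?_
    · calc (u * a) ^ 3 = (u * a * u) * (a * u * a) := by simp only [pow_succ, pow_zero, one_mul]; group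
        _ = (a * u) * ((a * a) * (u * a)) := by rw [he]; group
        _ = a * (u * u) * a := by rw [o.elem a ha]; group
        _ = 1 := by rw [huu, mul_one, o.elem a ha]
    · have : u = a⁻¹ := eq_inv_of_mul_eq_one_left e
      exact this ▸ Subgroup.le_normalizer (A.inv_mem ha)
  · by_contra hw1
    rw [mul_apply', o.fixed ha hw] at hσ
    refine hun (o.eq_of_common_fixed h (w := φ u w) (fun e => hw1 ?_) hσ (apply_mem_im hw))
    exact (φ u).injective (e.trans (map_one _).symm)

theorem normalizer_apply (o : Off φ A W) (h : Act φ) {u x : X} (hu : Out A u)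
    (hx : x ∈ normalizer (A : Set X)) :
    ∃ a ∈ A, ∃ d ∈ tor A u, x = a * d ∧ (∀ w ∈ W, φ x w = φ d w) := by
  obtain ⟨b, hb, hbx⟩ := o.normalizer_decomp h hu hx
  refine ⟨b⁻¹, A.inv_mem hb, b * x, hbx, (inv_mul_cancel_left b x).symm, fun w hw => ?_⟩
  have hxw : φ x w ∈ W := o.tor_preserves h hx hw
  rw [mul_apply', o.fixed hb hxw]

/-- The stabiliser of `W` is commutative on `W`. -/
theorem normalizer_comm (o : Off φ A W) (h : Act φ) {x y : X} (hx : x ∈ normalizer (A : Set X))
    (hy : y ∈ normalizer (A : Set X)) {w : V} (hw : w ∈ W) : φ x (φ y w) = φ y (φ x w) := by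
  obtain ⟨u, hu2, hun⟩ := o.exists_outside h
  have hu : Out A u := ⟨hu2, hun⟩
  obtain ⟨-, -, d, hd, -, hdw⟩ := o.normalizer_apply h hu hx
  obtain ⟨-, -, e, he, -, hew⟩ := o.normalizer_apply h hu hy
  have hew' : φ y w ∈ W := o.tor_preserves h hy hw
  have hdw' : φ x w ∈ W := o.tor_preserves h hx hw
  rw [hdw _ hew', hew w hw, hew _ hdw', hdw w hw, ← mul_apply', o.tor_comm h hu hd he, mul_apply']

/-- The torus is transitive on the nonidentity elements of `W`. -/
theorem normalizer_trans (o : Off φ A W) (h : Act φ) {w w' : V} (hw : w ∈ W) (hw1 : w ≠ 1)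
    (hw' : w' ∈ W) (hw'1 : w' ≠ 1) : ∃ x ∈ normalizer (A : Set X), φ x w = w' := by
  obtain ⟨u, hu2, hun⟩ := o.exists_outside h
  obtain ⟨d, hd, e⟩ := (o.tor_regular h ⟨hu2, hun⟩).2 w hw hw1 w' hw' hw'1
  exact ⟨d, hd.1, e⟩

/-- The weights: `V/W` has the inverse weight of `W`, and the offender its square. -/
theorem exists_weights (o : Off φ A W) (h : Act φ) :
    ∃ (gA : X → V) (gU : V →* V),
      (∀ a ∈ A, gA a ∈ W) ∧ (∀ a ∈ A, ∀ b ∈ A, gA (a * b) = gA a * gA b) ∧
      (∀ a ∈ A, gA a = 1 → a = 1) ∧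
      (∀ x ∈ normalizer (A : Set X), ∀ a ∈ A, gA (x * a * x⁻¹) = φ x (φ x (gA a))) ∧
      (∀ v, gU v ∈ W) ∧ (∀ v, gU v = 1 ↔ v ∈ W) ∧ (∀ w ∈ W, ∃ v, gU v = w) ∧
      (∀ x ∈ normalizer (A : Set X), ∀ v, gU (φ x v) = φ x⁻¹ (gU v)) := by
  obtain ⟨u, hu2, hun⟩ := o.exists_outside h
  have hu : Out A u := ⟨hu2, hun⟩
  obtain ⟨a₀, ha₀, ha₀1, he⟩ := o.exists_three h hu
  obtain ⟨w₀, hw₀, hw₀1⟩ := exists_ne_one o.W_ne_bot
  have hud : ∀ d ∈ tor A u, ∀ v, φ d (φ u v) = φ u (φ d⁻¹ v) := fun d hd v => by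
    rw [← mul_apply', ← mul_apply']
    congr 2
    rw [← o.inverts h hu hd]
    rw [← mul_assoc, ← mul_assoc, mul_self hu2, one_mul, inv_eq hu2]
  have hlin : ∀ a ∈ A, ∀ e ∈ tor A u, cm h a (φ u (φ e w₀)) = φ e (cm h a (φ u w₀)) := by
    intro a ha e he'
    by_cases ha1 : a = 1
    · subst ha1
      rw [cm_apply, cm_apply, map_one, MulAut.one_apply, MulAut.one_apply, h.elem, h.elem, map_one]
    obtain ⟨d, hd, rfl⟩ := o.trans_inv h hu ha₀ ha₀1 ha ha1
    have h1 : ∀ w ∈ W, cm h (d * a₀ * d⁻¹) (φ u w) = φ d (φ d w) := fun w hw => by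
      rw [cm_conj, hud _ ((tor A u).inv_mem hd), inv_inv,
        o.cm_three h hu ha₀ he (o.tor_preserves h hd.1 hw)]
    rw [h1 _ (o.tor_preserves h he'.1 hw₀), h1 _ hw₀]
    simp only [← mul_apply']
    rw [o.tor_comm h hu he' ((tor A u).mul_mem hd hd), mul_assoc]
  refine ⟨fun a => cm h a (φ u w₀), cm h a₀, fun a ha => o.cm_mem a ha _, ?_, ?_, ?_,
    fun v => o.cm_mem a₀ ha₀ v, ?_, ?_, ?_⟩
  · intro a ha b hb
    set v := φ u w₀
    show v * φ (a * b) v = (v * φ a v) * (v * φ b v)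
    rw [mul_apply', show φ b v = v * (v * φ b v) from (h.mul_left v _).symm, map_mul,
      o.fixed ha (o.cm_mem b hb v), h.mul_left v (φ b v), mul_assoc]
  · intro a ha e
    by_contra ha1
    have hv : φ a (φ u w₀) = φ u w₀ := by
      have e' : φ u w₀ * φ a (φ u w₀) = 1 := e
      rw [← h.mul_left (φ u w₀) (φ a (φ u w₀)), e', mul_one]
    refine hun (o.eq_of_common_fixed h (w := φ u w₀) ?_ ?_ (apply_mem_im hw₀))
    · exact fun e => hw₀1 ((φ u).injective (e.trans (map_one _).symm))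
    · rw [← o.fix a ha ha1]; exact hv
  · intro x hx a ha
    obtain ⟨c, hc, d, hd, rfl, hxw⟩ := o.normalizer_apply h hu hx
    have hda : d * a * d⁻¹ ∈ A := (Subgroup.mem_normalizer_iff.1 hd.1 a).1 ha
    have e1 : c * d * a * (c * d)⁻¹ = d * a * d⁻¹ := by
      calc c * d * a * (c * d)⁻¹ = c * (d * a * d⁻¹) * c⁻¹ := by group
        _ = d * a * d⁻¹ := by rw [o.elem.comm hc hda, mul_inv_cancel_right]
    show cm h (c * d * a * (c * d)⁻¹) (φ u w₀) = _
    have hga : cm h a (φ u w₀) ∈ W := o.cm_mem a ha _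
    rw [e1, cm_conj, hud _ ((tor A u).inv_mem hd), inv_inv, hlin a ha d hd, hxw _ hga,
      hxw _ (o.tor_preserves h hd.1 hga)]
  · intro v
    have hk : φ a₀ v = v ↔ v ∈ W := by rw [← mem_fx, o.fix a₀ ha₀ ha₀1]
    rw [← hk, cm_apply, mul_eq_one_iff_inv_eq, h.inv', eq_comm]
  · exact fun w hw => ⟨φ u w, o.cm_three h hu ha₀ he hw⟩
  · intro x hx v
    have gW : ∀ w ∈ W, cm h a₀ w = 1 := fun w hw => by rw [cm_apply, o.fixed ha₀ hw, h.elem]
    obtain ⟨c, hc, d, hd, rfl, hxw⟩ := o.normalizer_apply h hu hx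
    obtain ⟨w₁, hw₁, w₂, hw₂, rfl⟩ := o.decomp h hu v
    have hd' : φ d⁻¹ w₂ ∈ W := o.tor_preserves h ((normalizer (A : Set X)).inv_mem hd.1) hw₂
    rw [mul_apply', map_mul (φ d), hud d hd, map_mul (φ c),
      o.fixed hc (o.tor_preserves h hd.1 hw₁), apply_eq h c (φ u _)]
    simp only [map_mul]
    rw [gW _ (o.tor_preserves h hd.1 hw₁), gW _ hw₁, one_mul, map_one, one_mul,
      gW (cm h c _) (o.cm_mem c hc _), mul_one, o.cm_three h hu ha₀ he hd', o.cm_three h hu ha₀ he hw₂,
      mul_inv_rev, mul_apply', o.fixed (A.inv_mem hc) hw₂]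

theorem index_normalizer (o : Off φ A W) (h : Act φ) :
    Nat.card X = (Nat.card W + 1) * (Nat.card W * (Nat.card W - 1)) := by
  obtain ⟨u, hu2, hun⟩ := o.exists_outside h
  have hu : Out A u := ⟨hu2, hun⟩
  have hidx : (normalizer (A : Set X)).index = Nat.card W + 1 := by
    rw [← (o.points_card h hun).1, Subgroup.index, ← Nat.card_coe_set_eq]
    let f : X ⧸ normalizer (A : Set X) → points φ W := Quotient.lift
      (fun x => (⟨im φ x W, x, rfl⟩ : points φ W)) fun x y e => by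
        replace e := QuotientGroup.leftRel_apply.1 e
        have e' := (o.mem_normalizer_iff h _).1 e
        refine Subtype.ext ?_
        show im φ x W = im φ y W
        conv_lhs => rw [← e', ← im_mul, mul_inv_cancel_left]
    refine Nat.card_eq_of_bijective f ⟨?_, ?_⟩
    · intro p q e
      induction p using QuotientGroup.induction_on with
      | _ x =>
      induction q using QuotientGroup.induction_on with
      | _ y =>
      rw [QuotientGroup.eq, o.mem_normalizer_iff h, im_mul,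
        ← show im φ x W = im φ y W from congrArg Subtype.val e, im_inv rfl]
    · rintro ⟨_, x, rfl⟩
      exact ⟨(x : X ⧸ normalizer (A : Set X)), rfl⟩
  rw [← (normalizer (A : Set X)).index_mul_card, hidx, o.card_normalizer h hu, o.card,
    (o.tor_regular h hu).1]

end Off

end CfsgLib.Recognition.CIT
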