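import Cfsg.Agent.Lib.Recognition.CIT.Basic
import Cfsg.Agent.Lib.Recognition.CIT.Torus
import Mathlib

/-!
Natural modules in a CIT group: elementary subgroups whose automiser has a quadratic offender.
-/

set_option autoImplicit false
set_option linter.unusedSectionVars false
set_option linter.style.haveILetI false

open Subgroup

namespace CfsgLib.Recognition.CIT

open CfsgLib.Recognition.PrimeOrders

variable {G : Type*} [Group G]

theorem conj_mem_of_normalizer {K : Subgroup G} {g x : G} (hg : g ∈ normalizer (K : Set G))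
    (hx : x ∈ K) : g * x * g⁻¹ ∈ K := (Subgroup.mem_normalizer_iff.1 hg x).1 hx

theorem centralizer_le_normalizer (V : Subgroup G) :
    centralizer (V : Set G) ≤ normalizer (V : Set G) := fun c hc => by
  rw [Subgroup.mem_centralizer_iff] at hc
  rw [Subgroup.mem_normalizer_iff]
  intro x
  constructor
  · intro hx
    rwa [← hc x hx, mul_inv_cancel_right]
  · intro hx
    have h1 := hc _ hx
    have e : x = c * x * c⁻¹ := by
      calc x = c⁻¹ * ((c * x * c⁻¹) * c) := by group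
        _ = c⁻¹ * (c * (c * x * c⁻¹)) := by rw [h1]
        _ = c * x * c⁻¹ := by group
    rwa [e]

theorem centralizer_conj {V : Subgroup G} {m : G} (hm : m ∈ normalizer (V : Set G)) {q : G}
    (hq : q ∈ centralizer (V : Set G)) : m * q * m⁻¹ ∈ centralizer (V : Set G) := by
  rw [Subgroup.mem_centralizer_iff] at hq ⊢
  intro u hu
  have h1 := conj_mem_of_normalizer ((normalizer (V : Set G)).inv_mem hm) hu
  rw [inv_inv] at h1
  have := hq _ h1
  calc u * (m * q * m⁻¹) = m * ((m⁻¹ * u * m) * q) * m⁻¹ := by group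
    _ = (m * q * m⁻¹) * u := by rw [this]; group

/-- An elementary subgroup `V = Ω₁Z(C(V))` whose automiser is reduced and has a quadratic
offender. -/
structure Natural (V : Subgroup G) : Prop where
  elem : Elem V
  ne : V ≠ ⊥
  self : ∀ w ∈ centralizer (V : Set G), w * w = 1 →
    (∀ q ∈ centralizer (V : Set G), w * q = q * w) → w ∈ V
  red : O2 (normalizer (V : Set G)) ≤ centralizer (V : Set G)
  off : ∃ A ≤ normalizer (V : Set G), Elem A ∧ ¬ A ≤ centralizer (V : Set G) ∧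
    (∀ a ∈ A, ∀ b ∈ A, ∀ v ∈ V, b * (v * (a * v * a⁻¹)) * b⁻¹ = v * (a * v * a⁻¹)) ∧
    Nat.card V * Nat.card ↥(A ⊓ centralizer (V : Set G)) ≤
      Nat.card A * Nat.card ↥(V ⊓ centralizer (A : Set G))

/-- The automiser. -/
abbrev Aut' (V : Subgroup G) : Subgroup (MulAut V) := V.normalizerMonoidHom.range

/-- The image in the automiser. -/
def img (V T : Subgroup G) : Subgroup (Aut' V) :=
  (T.subgroupOf (normalizer (V : Set G))).map V.normalizerMonoidHom.rangeRestrict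

theorem normalizerMonoidHom_coe (V : Subgroup G) (x : normalizer (V : Set G)) (v : V) :
    ((V.normalizerMonoidHom x v : V) : G) = (x : G) * v * (x : G)⁻¹ := rfl

theorem hom_eq_one_iff (V : Subgroup G) (x : normalizer (V : Set G)) :
    V.normalizerMonoidHom.rangeRestrict x = 1 ↔ (x : G) ∈ centralizer (V : Set G) := by
  rw [← MonoidHom.mem_ker, MonoidHom.ker_rangeRestrict, V.normalizerMonoidHom_ker,
    Subgroup.mem_subgroupOf]

variable [Finite G] {V : Subgroup G}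

instance (V : Subgroup G) : Finite (Aut' V) := by
  haveI : Finite (MulAut V) := Finite.of_injective (fun α : MulAut V => (α : V → V)) DFunLike.coe_injective
  infer_instance

theorem comap_isPGroup_of (H : IsCIT G) (he : Elem V) (hne : V ≠ ⊥) {P : Subgroup (Aut' V)}
    (hP : IsPGroup 2 P) : IsPGroup 2 (P.comap V.normalizerMonoidHom.rangeRestrict) := by
  refine hP.comap_of_ker_isPGroup _ ?_
  rw [MonoidHom.ker_rangeRestrict, V.normalizerMonoidHom_ker]
  exact (H.centralizer_isPGroup he.isPGroup hne).comap_of_injective _ (Subgroup.subtype_injective _)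

/-- Involution centralisers in the automiser are 2-groups. -/
theorem aut_cit (H : IsCIT G) (he : Elem V) (hne : V ≠ ⊥) :
    ∀ t : Aut' V, orderOf t = 2 → IsPGroup 2 ↥(centralizer ({t} : Set (Aut' V))) := by
  intro t ht
  obtain ⟨s, hs⟩ := V.normalizerMonoidHom.rangeRestrict_surjective t
  refine isPGroup_of_forall fun d hd hdo => ?_
  obtain ⟨y, hy⟩ := V.normalizerMonoidHom.rangeRestrict_surjective d
  obtain ⟨k, hk⟩ := exists_odd_pow (y : G)
  have hdt : d * t = t * d := Subgroup.mem_centralizer_singleton_iff.1 hd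
  set y' : normalizer (V : Set G) := y ^ 2 ^ k with hy'
  have hy'd : V.normalizerMonoidHom.rangeRestrict y' = d ^ 2 ^ k := by rw [hy', map_pow, hy]
  have hcom : (s : G)⁻¹ * ((y' : G) * s * (y' : G)⁻¹) ∈ centralizer (V : Set G) := by
    refine (hom_eq_one_iff V (s⁻¹ * (y' * s * y'⁻¹))).1 ?_
    rw [map_mul, map_mul, map_mul, map_inv, map_inv, hy'd, hs]
    have e : d ^ 2 ^ k * t = t * d ^ 2 ^ k := (Commute.pow_left hdt _).eq
    rw [e, mul_inv_cancel_right, inv_mul_cancel]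
  obtain ⟨c, hc, hsc⟩ := H.exists_commute_coset (H.centralizer_isPGroup he.isPGroup hne)
    (y := (y' : G)) (by simpa [hy'] using hk) (fun c hc => centralizer_conj y'.2 hc) hcom
  -- `s * c` is a nontrivial 2-element
  set P := (zpowers t).comap V.normalizerMonoidHom.rangeRestrict with hP
  have hP2 : IsPGroup 2 P := comap_isPGroup_of H he hne
    (CfsgLib.Involution.Basic.isPGroup_zpowers (p := 2) (k := 1) ht)
  set sc : normalizer (V : Set G) := s * ⟨c, centralizer_le_normalizer V hc⟩ with hscdef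
  have hsct : V.normalizerMonoidHom.rangeRestrict sc = t := by
    rw [hscdef, map_mul, hs, (hom_eq_one_iff V ⟨c, centralizer_le_normalizer V hc⟩).2 hc, mul_one]
  have hy1 : (y' : G) = 1 := by
    refine H.eq_one_of_commute (hP2.map (normalizer (V : Set G)).subtype) (x := (sc : G))
      ⟨sc, ?_, rfl⟩ ?_ (by simpa [hy'] using hk) hsc
    · show _ ∈ zpowers t
      rw [hsct]; exact mem_zpowers t
    · intro e
      have e' : sc = 1 := Subtype.ext e
      rw [e', map_one] at hsct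
      rw [← hsct, orderOf_one] at ht
      omega
  refine eq_one_of_odd_of_two hdo (k := k) ?_
  rw [← hy'd, show y' = 1 from Subtype.ext hy1, map_one]

/-- Elements of odd order in the automiser act without fixed points. -/
theorem aut_fpf (H : IsCIT G) (he : Elem V) :
    ∀ x : Aut' V, Odd (orderOf x) → ∀ v : V, (Aut' V).subtype x v = v → v ≠ 1 → x = 1 := by
  intro x hx v hv hv1
  obtain ⟨y, hy⟩ := V.normalizerMonoidHom.rangeRestrict_surjective x
  obtain ⟨k, hk⟩ := exists_odd_pow (y : G)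
  have hyv : (y : G) * v * (y : G)⁻¹ = v := by
    subst hy
    exact congrArg Subtype.val hv
  have hy1 : (y : G) ^ 2 ^ k = 1 := by
    refine H.eq_one_of_commute he.isPGroup v.2 (fun e => hv1 (Subtype.ext e)) hk ?_
    exact (Commute.pow_left (mul_inv_eq_iff_eq_mul.1 hyv) _).eq
  refine eq_one_of_odd_of_two hx (k := k) ?_
  rw [← hy, ← map_pow, show y ^ 2 ^ k = 1 from Subtype.ext (by rw [Subgroup.coe_pow]; exact hy1), map_one]

namespace Natural

theorem le_centralizer (h : Natural V) : V ≤ centralizer (V : Set G) := fun v hv => by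
  rw [Subgroup.mem_centralizer_iff]
  exact fun u hu => h.elem.comm hu hv

theorem centralizer_isPGroup (h : Natural V) (H : IsCIT G) :
    IsPGroup 2 ↥(centralizer (V : Set G)) :=
  H.centralizer_isPGroup h.elem.isPGroup h.ne

theorem fpf (h : Natural V) (H : IsCIT G) {d : G} (hd : Odd (orderOf d)) (hd1 : d ≠ 1) {q : G}
    (hq : q ∈ centralizer (V : Set G)) (e : d * q = q * d) : q = 1 := by
  by_contra hq1
  exact hd1 (H.eq_one_of_commute (h.centralizer_isPGroup H) hq hq1 hd e)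

theorem comap_isPGroup (h : Natural V) (H : IsCIT G) {P : Subgroup (Aut' V)} (hP : IsPGroup 2 P) :
    IsPGroup 2 (P.comap V.normalizerMonoidHom.rangeRestrict) :=
  comap_isPGroup_of H h.elem h.ne hP

theorem act (h : Natural V) (H : IsCIT G) : Act (Aut' V).subtype := by
  refine ⟨fun v => Subtype.ext (h.elem v v.2), Subtype.val_injective, aut_cit H h.elem h.ne,
    fun x hx v hv hv1 => aut_fpf H h.elem x hx v hv hv1, ?_⟩
  · intro N hN h2
    set K := (N.comap V.normalizerMonoidHom.rangeRestrict).map (normalizer (V : Set G)).subtype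
    have hK : K ≤ centralizer (V : Set G) := by
      refine le_trans (le_O2 (Subgroup.map_subtype_le _) ?_ ((h.comap_isPGroup H h2).map _)) h.red
      rintro m hm _ ⟨n, hn, rfl⟩
      exact ⟨_, (hN.comap _).conj_mem n hn ⟨m, hm⟩, rfl⟩
    rw [Subgroup.eq_bot_iff_forall]
    intro n hn
    obtain ⟨y, rfl⟩ := V.normalizerMonoidHom.rangeRestrict_surjective n
    exact (hom_eq_one_iff V y).2 (hK ⟨y, hn, rfl⟩)

theorem card_map_mul (T : Subgroup G) (hT : T ≤ normalizer (V : Set G)) :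
    Nat.card (img V T) * Nat.card ↥(T ⊓ centralizer (V : Set G)) = Nat.card T := by
  let f : T →* Aut' V := V.normalizerMonoidHom.rangeRestrict.comp (Subgroup.inclusion hT)
  have h1 : f.range = img V T := by
    ext x
    constructor
    · rintro ⟨t, rfl⟩; exact ⟨⟨t, hT t.2⟩, t.2, rfl⟩
    · rintro ⟨⟨t, ht⟩, ht', rfl⟩; exact ⟨⟨t, ht'⟩, rfl⟩
  have h2 : Nat.card f.ker = Nat.card ↥(T ⊓ centralizer (V : Set G)) := by
    refine Nat.card_congr
      { toFun := fun x => ⟨((x : T) : G), (x : T).2, (hom_eq_one_iff V (Subgroup.inclusion hT x)).1 x.2⟩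
        invFun := fun x => ⟨⟨(x : G), x.2.1⟩, (hom_eq_one_iff V (Subgroup.inclusion hT ⟨x, x.2.1⟩)).2 x.2.2⟩
        left_inv := fun _ => rfl
        right_inv := fun _ => rfl }
  rw [← h2, ← h1, ← Subgroup.index_ker, mul_comm, Subgroup.card_mul_index]

theorem centralizer_le_syl (h : Natural V) (H : IsCIT G) {T : Subgroup G}
    (hT : IsSyl T (normalizer (V : Set G))) : centralizer (V : Set G) ≤ T :=
  le_trans (le_O2 (centralizer_le_normalizer V) (fun _ hm _ hn => centralizer_conj hm hn)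
    (h.centralizer_isPGroup H)) (O2_le_syl hT)

theorem setup (h : Natural V) (H : IsCIT G) {T : Subgroup G}
    (hT : IsSyl T (normalizer (V : Set G))) :
    Off (Aut' V).subtype (img V T) ((V ⊓ centralizer (T : Set G)).subgroupOf V) ∧
      ∀ x : normalizer (V : Set G),
        V.normalizerMonoidHom.rangeRestrict x ∈ img V T → (x : G) ∈ T := by
  have ha := h.act H
  obtain ⟨A, hAN, hAe, hAC, hAq, hAb⟩ := h.off
  have hA1 : img V A ≠ ⊥ := fun e => hAC fun a ha' => by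
    have hm : V.normalizerMonoidHom.rangeRestrict ⟨a, hAN ha'⟩ ∈ img V A := ⟨_, ha', rfl⟩
    rw [e, Subgroup.mem_bot, hom_eq_one_iff] at hm
    exact hm
  have hquad : Quad (Aut' V).subtype (img V A) := by
    refine ⟨hA1, ?_, ⟨(V ⊓ centralizer (A : Set G)).subgroupOf V, ?_, ?_⟩, ?_⟩
    · rintro _ ⟨⟨a, ha'⟩, hmem, rfl⟩
      rw [← map_mul]
      exact (congrArg _ (Subtype.ext (hAe a hmem))).trans (map_one _)
    · rintro ⟨u, huV⟩ hu _ ⟨⟨a, ha'⟩, hmem, rfl⟩
      refine Subtype.ext ?_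
      show a * u * a⁻¹ = u
      rw [Subgroup.mem_centralizer_iff.1 (Subgroup.mem_subgroupOf.1 hu).2 a hmem, mul_inv_cancel_right]
    · rw [Nat.card_congr (Subgroup.subgroupOfEquivOfLe inf_le_left).toEquiv]
      refine Nat.le_of_mul_le_mul_right ?_ (Nat.card_pos (α := ↥(A ⊓ centralizer (V : Set G))))
      rw [mul_right_comm, card_map_mul A hAN]
      exact hAb
    · rintro _ ⟨⟨a, ha'⟩, ham, rfl⟩ _ ⟨⟨b, hb'⟩, hbm, rfl⟩ v
      exact Subtype.ext (hAq a ham b hbm v v.2)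
  obtain ⟨W₀, o₀⟩ := ha.exists_off hquad
  obtain ⟨g, hg⟩ := o₀.exists_le_cj ha ((hT.2.1.comap_of_injective _ (Subgroup.subtype_injective _)).map
    V.normalizerMonoidHom.rangeRestrict : IsPGroup 2 (img V T))
  have o := o₀.conj g
  set P := ((PrimeOrders.cj g (img V A)).comap V.normalizerMonoidHom.rangeRestrict).map
    (normalizer (V : Set G)).subtype with hP
  have hTP : T ≤ P := fun t ht => ⟨⟨t, hT.1 ht⟩, hg ⟨_, ht, rfl⟩, rfl⟩
  have hPT : P = T := (Subgroup.eq_of_le_of_card_ge hTP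
    (hT.2.2 P (Subgroup.map_subtype_le _) ((h.comap_isPGroup H o.elem.isPGroup).map _))).symm
  have himg : img V T = PrimeOrders.cj g (img V A) := by
    refine le_antisymm hg fun x hx => ?_
    obtain ⟨y, rfl⟩ := V.normalizerMonoidHom.rangeRestrict_surjective x
    exact ⟨y, show (y : G) ∈ T from hPT ▸ ⟨y, hx, rfl⟩, rfl⟩
  rw [← himg] at o
  refine ⟨?_, fun x hx => ?_⟩
  · convert o using 1
    ext ⟨v, hv⟩
    constructor
    · intro hvW
      obtain ⟨a, ha', ha1⟩ := exists_ne_one o.ne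
      rw [← o.fix a ha' ha1, mem_fx]
      obtain ⟨⟨t, htN⟩, ht, rfl⟩ := ha'
      refine Subtype.ext ?_
      show t * v * t⁻¹ = v
      rw [Subgroup.mem_centralizer_iff.1 (Subgroup.mem_subgroupOf.1 hvW).2 t ht, mul_inv_cancel_right]
    · intro hvW
      refine Subgroup.mem_subgroupOf.2 ⟨hv, Subgroup.mem_centralizer_iff.2 fun t ht => ?_⟩
      have := congrArg Subtype.val (o.fixed
        (show V.normalizerMonoidHom.rangeRestrict ⟨t, hT.1 ht⟩ ∈ img V T from ⟨_, ht, rfl⟩) hvW)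
      exact mul_inv_eq_iff_eq_mul.1 this
  · rw [himg] at hx
    exact hPT ▸ ⟨x, hx, rfl⟩

section Consequences

variable (h : Natural V) (H : IsCIT G) {T : Subgroup G} (hT : IsSyl T (normalizer (V : Set G)))
include h H hT

theorem card_eq : Nat.card V = Nat.card ↥(V ⊓ centralizer (T : Set G)) *
      Nat.card ↥(V ⊓ centralizer (T : Set G)) := by
  obtain ⟨o, -⟩ := h.setup H hT
  have := o.cardV
  rwa [Nat.card_congr (Subgroup.subgroupOfEquivOfLe inf_le_left).toEquiv] at this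

theorem two_le : 2 ≤ Nat.card ↥(V ⊓ centralizer (T : Set G)) := by
  obtain ⟨o, -⟩ := h.setup H hT
  have := o.two_le
  rwa [Nat.card_congr (Subgroup.subgroupOfEquivOfLe inf_le_left).toEquiv] at this

theorem card_syl : Nat.card T =
    Nat.card ↥(V ⊓ centralizer (T : Set G)) * Nat.card ↥(centralizer (V : Set G)) := by
  obtain ⟨o, -⟩ := h.setup H hT
  have := o.card
  rw [Nat.card_congr (Subgroup.subgroupOfEquivOfLe inf_le_left).toEquiv] at this
  rw [← card_map_mul T hT.1, this, inf_eq_right.2 (h.centralizer_le_syl H hT)]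

theorem card_normalizer : Nat.card ↥(normalizer (V : Set G)) =
    (Nat.card ↥(V ⊓ centralizer (T : Set G)) + 1) * (Nat.card ↥(V ⊓ centralizer (T : Set G)) *
      (Nat.card ↥(V ⊓ centralizer (T : Set G)) - 1)) * Nat.card ↥(centralizer (V : Set G)) := by
  obtain ⟨o, -⟩ := h.setup H hT
  have := o.index_normalizer (h.act H)
  rw [Nat.card_congr (Subgroup.subgroupOfEquivOfLe inf_le_left).toEquiv] at this
  rw [← this, ← Subgroup.card_mul_index V.normalizerMonoidHom.ker, Subgroup.index_ker,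
    V.normalizerMonoidHom_ker,
    Nat.card_congr (Subgroup.subgroupOfEquivOfLe (centralizer_le_normalizer V)).toEquiv, mul_comm]

theorem mem_W_of_commute {t v : G} (ht : t ∈ T) (htC : t ∉ centralizer (V : Set G)) (hv : v ∈ V)
    (e : t * v = v * t) : v ∈ V ⊓ centralizer (T : Set G) := by
  obtain ⟨o, -⟩ := h.setup H hT
  have := o.fix (V.normalizerMonoidHom.rangeRestrict ⟨t, hT.1 ht⟩) ⟨_, ht, rfl⟩
    (fun e => htC ((hom_eq_one_iff V _).1 e))
  have hm : (⟨v, hv⟩ : V) ∈ (V ⊓ centralizer (T : Set G)).subgroupOf V := by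
    rw [← this, mem_fx]
    exact Subtype.ext (by show t * v * t⁻¹ = v; rw [e, mul_inv_cancel_right])
  exact Subgroup.mem_subgroupOf.1 hm

theorem commutator_mem {t v : G} (ht : t ∈ T) (hv : v ∈ V) :
    v * (t * v * t⁻¹) ∈ V ⊓ centralizer (T : Set G) := by
  obtain ⟨o, -⟩ := h.setup H hT
  exact Subgroup.mem_subgroupOf.1
    (o.cm_mem (V.normalizerMonoidHom.rangeRestrict ⟨t, hT.1 ht⟩) ⟨_, ht, rfl⟩ ⟨v, hv⟩)

theorem exists_commutator {v w : G} (hv : v ∈ V) (hvW : v ∉ V ⊓ centralizer (T : Set G))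
    (hw : w ∈ V ⊓ centralizer (T : Set G)) : ∃ t ∈ T, v * (t * v * t⁻¹) = w := by
  obtain ⟨o, -⟩ := h.setup H hT
  obtain ⟨_, ⟨⟨t, htN⟩, ht, rfl⟩, e⟩ := o.surj ⟨v, hv⟩ (fun hm => hvW (Subgroup.mem_subgroupOf.1 hm))
    ⟨w, hw.1⟩ (Subgroup.mem_subgroupOf.2 hw)
  exact ⟨t, ht, congrArg Subtype.val e⟩

theorem sq_mem {t : G} (ht : t ∈ T) : t * t ∈ centralizer (V : Set G) := by
  obtain ⟨o, -⟩ := h.setup H hT
  refine (hom_eq_one_iff V (⟨t, hT.1 ht⟩ * ⟨t, hT.1 ht⟩)).1 ?_
  rw [map_mul]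
  exact o.elem _ ⟨_, ht, rfl⟩

/-- An element of order three moving `W` off itself, without fixed points on `C(V)`. -/
theorem exists_sigma : ∃ σ ∈ normalizer (V : Set G), orderOf σ = 3 ∧
    (∀ x ∈ centralizer (V : Set G), σ * x * σ⁻¹ ∈ centralizer (V : Set G)) ∧
    (∀ x ∈ centralizer (V : Set G), σ * x * σ⁻¹ = x → x = 1) ∧
    ∀ w ∈ V ⊓ centralizer (T : Set G), σ * w * σ⁻¹ ∈ V ⊓ centralizer (T : Set G) → w = 1 := by
  obtain ⟨o, -⟩ := h.setup H hT
  obtain ⟨s, hs3, hsW⟩ := o.exists_sigma (h.act H)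
  obtain ⟨y, hy⟩ := V.normalizerMonoidHom.rangeRestrict_surjective s
  obtain ⟨k, hk⟩ := exists_odd_pow (y : G)
  -- a power of a preimage mapping to `s`
  obtain ⟨j, hj⟩ : ∃ j : ℕ, 2 ^ k * j % 3 = 1 := by
    refine ⟨2 ^ k, ?_⟩
    rw [← pow_add, ← two_mul, pow_mul, Nat.pow_mod]
    norm_num
  set z := y ^ (2 ^ k * j) with hz
  have hzs : V.normalizerMonoidHom.rangeRestrict z = s := by
    rw [hz, map_pow, hy, ← pow_mod_orderOf, hs3, hj, pow_one]
  have hzo : Odd (orderOf (z : G)) := by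
    rw [hz, Subgroup.coe_pow, pow_mul]
    exact Odd.of_dvd_nat hk (orderOf_pow_dvd j)
  have hz3 : (z : G) ^ 3 = 1 := by
    refine eq_one_of_odd_of_pGroup (h.centralizer_isPGroup H) ((hom_eq_one_iff V (z ^ 3)).1 ?_)
      (Odd.of_dvd_nat hzo (orderOf_pow_dvd 3))
    rw [map_pow, hzs, ← hs3, pow_orderOf_eq_one]
  have hz1 : (z : G) ≠ 1 := fun e => by
    rw [show z = 1 from Subtype.ext e, map_one] at hzs
    rw [← hzs, orderOf_one] at hs3
    omega
  haveI : Fact (Nat.Prime 3) := ⟨Nat.prime_three⟩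
  have hord := orderOf_eq_prime hz3 hz1
  refine ⟨z, z.2, hord, fun x hx => centralizer_conj z.2 hx,
    fun x hx e => h.fpf H (d := (z : G)) (by rw [hord]; decide) hz1 hx (mul_inv_eq_iff_eq_mul.1 e),
    fun w hw hzw => ?_⟩
  have hsw := hsW ⟨w, hw.1⟩ (Subgroup.mem_subgroupOf.2 hw) ?_
  · exact congrArg Subtype.val hsw
  · rw [← hzs]
    exact Subgroup.mem_subgroupOf.2 hzw

theorem mem_normalizer_img {x : normalizer (V : Set G)}
    (hxT : (x : G) ∈ normalizer (T : Set G)) :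
    V.normalizerMonoidHom.rangeRestrict x ∈ normalizer (img V T : Set (Aut' V)) := by
  rw [mem_normalizer_iff_cj]
  refine Subgroup.eq_of_le_of_card_ge ?_ (card_cj _ _).ge
  rintro _ ⟨_, ⟨t, ht, rfl⟩, rfl⟩
  refine ⟨x * t * x⁻¹, conj_mem_of_normalizer (K := T) hxT (x := (t : G)) ht, ?_⟩
  simp [map_mul, map_inv]

theorem mem_normalizer_of_W {x : G} (hx : x ∈ normalizer (V : Set G))
    (hW : ∀ w ∈ V ⊓ centralizer (T : Set G), x * w * x⁻¹ ∈ V ⊓ centralizer (T : Set G)) :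
    x ∈ normalizer (T : Set G) := by
  obtain ⟨o, hpre⟩ := h.setup H hT
  have hn := (o.mem_normalizer_iff (h.act H) (V.normalizerMonoidHom.rangeRestrict ⟨x, hx⟩)).2 <| by
    refine Subgroup.eq_of_le_of_card_ge ?_ (card_im _ _ _).ge
    rintro _ ⟨⟨w, hwV⟩, hw, rfl⟩
    exact Subgroup.mem_subgroupOf.2 (hW w (Subgroup.mem_subgroupOf.1 hw))
  rw [mem_normalizer_iff_cj]
  refine Subgroup.eq_of_le_of_card_ge ?_ (card_cj _ _).ge
  rintro _ ⟨t, ht, rfl⟩
  refine hpre (⟨x, hx⟩ * ⟨t, hT.1 ht⟩ * ⟨x, hx⟩⁻¹) ?_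
  rw [map_mul, map_mul, map_inv]
  exact conj_mem_of_normalizer hn ⟨_, ht, rfl⟩

theorem conj_W {x : G} (hx : x ∈ normalizer (V : Set G)) (hxT : x ∈ normalizer (T : Set G))
    {w : G} (hw : w ∈ V ⊓ centralizer (T : Set G)) : x * w * x⁻¹ ∈ V ⊓ centralizer (T : Set G) :=
  ⟨conj_mem_of_normalizer hx hw.1, centralizer_conj hxT hw.2⟩

theorem torus_comm {x y : G} (hx : x ∈ normalizer (V : Set G)) (hxT : x ∈ normalizer (T : Set G))
    (hy : y ∈ normalizer (V : Set G)) (hyT : y ∈ normalizer (T : Set G))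
    {w : G} (hw : w ∈ V ⊓ centralizer (T : Set G)) :
    x * (y * w * y⁻¹) * x⁻¹ = y * (x * w * x⁻¹) * y⁻¹ := by
  obtain ⟨o, -⟩ := h.setup H hT
  exact congrArg Subtype.val (o.normalizer_comm (h.act H)
    (h.mem_normalizer_img H hT (x := ⟨x, hx⟩) hxT) (h.mem_normalizer_img H hT (x := ⟨y, hy⟩) hyT)
    (w := ⟨w, hw.1⟩) (Subgroup.mem_subgroupOf.2 hw))

theorem torus_trans {w w' : G} (hw : w ∈ V ⊓ centralizer (T : Set G)) (hw1 : w ≠ 1)
    (hw' : w' ∈ V ⊓ centralizer (T : Set G)) (hw'1 : w' ≠ 1) :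
    ∃ x ∈ normalizer (V : Set G), x ∈ normalizer (T : Set G) ∧ x * w * x⁻¹ = w' := by
  obtain ⟨o, -⟩ := h.setup H hT
  obtain ⟨s, hs, e⟩ := o.normalizer_trans (h.act H) (w := ⟨w, hw.1⟩) (w' := ⟨w', hw'.1⟩)
    (Subgroup.mem_subgroupOf.2 hw) (fun e => hw1 (congrArg Subtype.val e))
    (Subgroup.mem_subgroupOf.2 hw') (fun e => hw'1 (congrArg Subtype.val e))
  obtain ⟨y, rfl⟩ := V.normalizerMonoidHom.rangeRestrict_surjective s
  refine ⟨y, y.2, h.mem_normalizer_of_W H hT y.2 fun u hu => ?_, congrArg Subtype.val e⟩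
  exact Subgroup.mem_subgroupOf.1
    (o.tor_preserves (h.act H) hs (w := ⟨u, hu.1⟩) (Subgroup.mem_subgroupOf.2 hu))

/-- The weights of the torus. -/
theorem weights : ∃ gA gU : G → G,
    (∀ t ∈ T, gA t ∈ V ⊓ centralizer (T : Set G)) ∧ (∀ s ∈ T, ∀ t ∈ T, gA (s * t) = gA s * gA t) ∧
    (∀ t ∈ T, gA t = 1 ↔ t ∈ centralizer (V : Set G)) ∧
    (∀ x ∈ normalizer (V : Set G), x ∈ normalizer (T : Set G) → ∀ t ∈ T,
      gA (x * t * x⁻¹) = x * (x * gA t * x⁻¹) * x⁻¹) ∧
    (∀ v ∈ V, gU v ∈ V ⊓ centralizer (T : Set G)) ∧ (∀ u ∈ V, ∀ v ∈ V, gU (u * v) = gU u * gU v) ∧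
    (∀ v ∈ V, gU v = 1 ↔ v ∈ V ⊓ centralizer (T : Set G)) ∧
    (∀ w ∈ V ⊓ centralizer (T : Set G), ∃ v ∈ V, gU v = w) ∧
    (∀ x ∈ normalizer (V : Set G), x ∈ normalizer (T : Set G) → ∀ v ∈ V,
      gU (x * v * x⁻¹) = x⁻¹ * gU v * x) := by
  classical
  obtain ⟨o, -⟩ := h.setup H hT
  obtain ⟨fA, fU, a1, a2, a3, a4, u1, u3, u4, u5⟩ := o.exists_weights (h.act H)
  let π := fun (t : G) (ht : t ∈ normalizer (V : Set G)) => V.normalizerMonoidHom.rangeRestrict ⟨t, ht⟩
  have hmem : ∀ {t : G} (ht : t ∈ T), π t (hT.1 ht) ∈ img V T := fun ht => ⟨_, ht, rfl⟩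
  let gA : G → G := fun t => if ht : t ∈ normalizer (V : Set G) then (fA (π t ht) : G) else 1
  let gU : G → G := fun v => if hv : v ∈ V then (fU ⟨v, hv⟩ : G) else 1
  have eA : ∀ {t} (ht : t ∈ normalizer (V : Set G)), gA t = (fA (π t ht) : G) := fun ht => dif_pos ht
  have eU : ∀ {v} (hv : v ∈ V), gU v = (fU ⟨v, hv⟩ : G) := fun hv => dif_pos hv
  refine ⟨gA, gU, fun t ht => ?_, fun s hs t ht => ?_, fun t ht => ⟨fun e => ?_, fun e => ?_⟩, fun x hx hxT t ht => ?_,
    fun v hv => ?_, fun u hu v hv => ?_, fun v hv => ?_, fun w hw => ?_, fun x hx hxT v hv => ?_⟩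
  · rw [eA (hT.1 ht)]; exact Subgroup.mem_subgroupOf.1 (a1 _ (hmem ht))
  · rw [eA (hT.1 (T.mul_mem hs ht)), eA (hT.1 hs), eA (hT.1 ht), ← Subgroup.coe_mul,
      ← a2 _ (hmem hs) _ (hmem ht)]
    simp only [π, ← map_mul]
    rfl
  · rw [eA (hT.1 ht)] at e
    exact (hom_eq_one_iff V ⟨t, hT.1 ht⟩).1 (a3 _ (hmem ht) (Subtype.ext e))
  · have e1 : π t (hT.1 ht) = 1 := (hom_eq_one_iff V ⟨t, hT.1 ht⟩).2 e
    have e2 := a2 1 (img V T).one_mem 1 (img V T).one_mem
    rw [one_mul, left_eq_mul] at e2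
    rw [eA (hT.1 ht), e1, e2, Subgroup.coe_one]
  · rw [eA (hT.1 (conj_mem_of_normalizer hxT ht)), eA (hT.1 ht)]
    have := congrArg Subtype.val
      (a4 _ (h.mem_normalizer_img H hT (x := ⟨x, hx⟩) hxT) _ (hmem ht))
    refine Eq.trans ?_ this
    simp only [π, ← map_inv, ← map_mul]
    rfl
  · rw [eU hv]; exact Subgroup.mem_subgroupOf.1 (u1 _)
  · rw [eU (V.mul_mem hu hv), eU hu, eU hv, ← Subgroup.coe_mul, ← map_mul]; rfl
  · rw [eU hv, ← Subgroup.coe_one V, Subtype.coe_inj, u3, Subgroup.mem_subgroupOf]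
  · obtain ⟨v, e⟩ := u4 ⟨w, hw.1⟩ (Subgroup.mem_subgroupOf.2 hw)
    exact ⟨v, v.2, by rw [eU v.2]; exact congrArg Subtype.val e⟩
  · rw [eU (conj_mem_of_normalizer hx hv), eU hv]
    have := congrArg Subtype.val
      (u5 _ (h.mem_normalizer_img H hT (x := ⟨x, hx⟩) hxT) ⟨v, hv⟩)
    refine this.trans ?_
    show (((V.normalizerMonoidHom.rangeRestrict ⟨x, hx⟩)⁻¹ : Aut' V).1 (fU ⟨v, hv⟩) : G) = _
    rw [← map_inv]
    show x⁻¹ * _ * x⁻¹⁻¹ = _
    rw [inv_inv]

end Consequences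

end Natural

end CfsgLib.Recognition.CIT
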