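import Cfsg.Agent.Lib.Recognition.PrimeOrders.Basic
import Cfsg.Agent.Lib.Involution.Dihedral

/-!
Quadratic offenders in a group whose involution centralisers are 2-groups and whose elements of odd
order act without fixed points: the group acts on the conjugates of `W` as `PSL(2, q)` does on the
points of the line, and on the module as on its natural module.
-/

set_option autoImplicit false
set_option linter.unusedSectionVars false
set_option linter.style.haveILetI false

open Subgroup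

namespace CfsgLib.Recognition.CIT

open CfsgLib.Recognition.PrimeOrders CfsgLib.Involution.Dihedral

variable {X V : Type*} [Group X] [Group V]

/-- A faithful action on an elementary 2-group without fixed points of odd order elements. -/
structure Act (φ : X →* MulAut V) : Prop where
  elem : ∀ v : V, v * v = 1
  inj : Function.Injective φ
  cit : ∀ t : X, orderOf t = 2 → IsPGroup 2 ↥(centralizer ({t} : Set X))
  fpf : ∀ x : X, Odd (orderOf x) → ∀ v : V, φ x v = v → v ≠ 1 → x = 1
  core : ∀ N : Subgroup X, N.Normal → IsPGroup 2 N → N = ⊥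

/-- The fixed points of `x`. -/
def fx (φ : X →* MulAut V) (x : X) : Subgroup V where
  carrier := {v | φ x v = v}
  one_mem' := map_one _
  mul_mem' := fun {a b} ha hb => by
    show φ x (a * b) = a * b
    rw [map_mul, show φ x a = a from ha, show φ x b = b from hb]
  inv_mem' := fun {a} ha => by
    show φ x a⁻¹ = a⁻¹
    rw [map_inv, show φ x a = a from ha]

theorem mem_fx {φ : X →* MulAut V} {x : X} {v : V} : v ∈ fx φ x ↔ φ x v = v := Iff.rfl

/-- The image of `W` under `x`. -/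
def im (φ : X →* MulAut V) (x : X) (W : Subgroup V) : Subgroup V := W.map (φ x).toMonoidHom

theorem mem_im {φ : X →* MulAut V} {x : X} {W : Subgroup V} {v : V} :
    v ∈ im φ x W ↔ φ x⁻¹ v ∈ W := by
  constructor
  · rintro ⟨w, hw, rfl⟩
    show φ x⁻¹ (φ x w) ∈ W
    rwa [← MulAut.mul_apply, ← map_mul, inv_mul_cancel, map_one, MulAut.one_apply]
  · intro h
    refine ⟨_, h, ?_⟩
    show φ x (φ x⁻¹ v) = v
    rw [← MulAut.mul_apply, ← map_mul, mul_inv_cancel, map_one, MulAut.one_apply]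

theorem apply_mem_im {φ : X →* MulAut V} {x : X} {W : Subgroup V} {w : V} (hw : w ∈ W) :
    φ x w ∈ im φ x W := ⟨w, hw, rfl⟩

theorem im_mul (φ : X →* MulAut V) (x y : X) (W : Subgroup V) :
    im φ (x * y) W = im φ x (im φ y W) := by
  ext v
  rw [mem_im, mem_im, mem_im, mul_inv_rev, map_mul, MulAut.mul_apply]

theorem im_one (φ : X →* MulAut V) (W : Subgroup V) : im φ 1 W = W := by
  ext v
  rw [mem_im, inv_one, map_one, MulAut.one_apply]

theorem im_inv {φ : X →* MulAut V} {x : X} {W U : Subgroup V} (h : im φ x W = U) :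
    im φ x⁻¹ U = W := by rw [← h, ← im_mul, inv_mul_cancel, im_one]

theorem card_im (φ : X →* MulAut V) (x : X) (W : Subgroup V) :
    Nat.card (im φ x W) = Nat.card W :=
  Nat.card_congr (W.equivMapOfInjective _ (φ x).injective).symm.toEquiv

theorem apply_inv_apply (φ : X →* MulAut V) (x : X) (v : V) : φ x (φ x⁻¹ v) = v := by
  rw [← MulAut.mul_apply, ← map_mul, mul_inv_cancel, map_one, MulAut.one_apply]

theorem inv_apply_apply (φ : X →* MulAut V) (x : X) (v : V) : φ x⁻¹ (φ x v) = v := by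
  rw [← MulAut.mul_apply, ← map_mul, inv_mul_cancel, map_one, MulAut.one_apply]

theorem mul_apply' (φ : X →* MulAut V) (x y : X) (v : V) : φ (x * y) v = φ x (φ y v) := by
  rw [map_mul, MulAut.mul_apply]

variable {φ : X →* MulAut V}

theorem Act.comm (h : Act φ) (a b : V) : a * b = b * a :=
  Elem.comm (A := (⊤ : Subgroup V)) (fun v _ => h.elem v) trivial trivial

theorem Act.inv' (h : Act φ) (a : V) : a⁻¹ = a := inv_eq_of_mul_eq_one_right (h.elem a)

theorem Act.mul_left (h : Act φ) (a b : V) : a * (a * b) = b := by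
  rw [← mul_assoc, h.elem, one_mul]

/-- The commutator map `v ↦ [v, x]`. -/
def cm (h : Act φ) (x : X) : V →* V where
  toFun v := v * φ x v
  map_one' := by rw [map_one, one_mul]
  map_mul' a b := by
    rw [map_mul, mul_assoc, ← mul_assoc b, h.comm b (φ x a), mul_assoc, ← mul_assoc]

theorem cm_apply (h : Act φ) (x : X) (v : V) : cm h x v = v * φ x v := rfl

theorem apply_eq (h : Act φ) (x : X) (v : V) : φ x v = v * cm h x v := (h.mul_left v _).symm

theorem cm_conj (h : Act φ) (x a : X) (v : V) :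
    cm h (x * a * x⁻¹) v = φ x (cm h a (φ x⁻¹ v)) := by
  rw [cm_apply, cm_apply, map_mul (φ x), apply_inv_apply, mul_apply', mul_apply']

variable [Finite X] [Finite V]

theorem odd_pow_ne {d : X} (hd : Odd (orderOf d)) (hd1 : d ≠ 1) :
    Odd (orderOf (d ^ 2)) ∧ d ^ 2 ≠ 1 := by
  refine ⟨Odd.of_dvd_nat hd (orderOf_pow_dvd 2), fun h => hd1 ?_⟩
  rcases (Nat.dvd_prime Nat.prime_two).1 (orderOf_dvd_of_pow_eq_one h) with h' | h'
  · exact orderOf_eq_one_iff.1 h'
  · rw [h'] at hd; exact absurd hd (by decide)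

/-- An involution fixes exactly the square root of the module, and these are the commutators. -/
theorem Act.involution (h : Act φ) {s : X} (hs : orderOf s = 2) :
    Nat.card (fx φ s) * Nat.card (fx φ s) = Nat.card V ∧ (cm h s).range = fx φ s := by
  haveI : Fact (Nat.Prime 2) := ⟨Nat.prime_two⟩
  obtain ⟨d, hd1, hdo, hinv⟩ := CfsgLib.Involution.BaerSuzuki.exists_inverted_odd s hs
    (fun N hN h2 hmem => ne_one hs (by rw [h.core N hN h2, Subgroup.mem_bot] at hmem; exact hmem))
  have hs1 := mul_self hs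
  have hup : Nat.card (fx φ s) * Nat.card (fx φ s) ≤ Nat.card V := by
    rw [← Nat.card_prod]
    refine Nat.card_le_card_of_injective (fun p : fx φ s × fx φ s => (p.1 : V) * φ d p.2) ?_
    rintro ⟨a, b⟩ ⟨a', b'⟩ e
    change (a : V) * φ d b = a' * φ d b' at e
    have he : φ d ((b : V) * b') = (a : V) * a' := by
      calc φ d ((b : V) * b') = φ d b * φ d b' := map_mul _ _ _
        _ = (a : V) * (a * φ d b) * φ d b' := by rw [h.mul_left]
        _ = (a : V) * a' := by rw [e, mul_assoc, mul_assoc, h.elem, mul_one]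
    set c := (b : V) * b' with hc
    have hcs : φ s c = c := (fx φ s).mul_mem b.2 b'.2
    have hdcs : φ s (φ d c) = φ d c := he ▸ (fx φ s).mul_mem a.2 a'.2
    have hc1 : c = 1 := by
      by_contra hc1
      refine (odd_pow_ne hdo hd1).2 (h.fpf _ (odd_pow_ne hdo hd1).1 c ?_ hc1)
      have hk : φ d⁻¹ c = φ d c := by
        calc φ d⁻¹ c = φ (s * d * s⁻¹) c := by rw [hinv]
          _ = φ s (φ d (φ s⁻¹ c)) := by rw [mul_apply', mul_apply']
          _ = φ d c := by rw [inv_eq hs, hcs, hdcs]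
      rw [pow_two, mul_apply', ← hk, apply_inv_apply]
    rw [hc1, map_one] at he
    replace hc1 : (b : V) = b' := by rw [← mul_inv_eq_one, h.inv']; exact hc1
    have he' : (a : V) = a' := by rw [← mul_inv_eq_one, h.inv']; exact he.symm
    exact Prod.ext (Subtype.ext he') (Subtype.ext hc1)
  have hker : (cm h s).ker = fx φ s := by
    ext v
    rw [MonoidHom.mem_ker, cm_apply, mem_fx, mul_eq_one_iff_inv_eq, h.inv', eq_comm]
  have hran : (cm h s).range ≤ fx φ s := by
    rintro _ ⟨v, rfl⟩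
    show φ s (v * φ s v) = v * φ s v
    rw [map_mul, ← mul_apply', hs1, map_one, MulAut.one_apply, h.comm]
  have hprod := (cm h s).ker.card_mul_index
  rw [Subgroup.index_ker, hker] at hprod
  have hle := Subgroup.card_le_of_le hran
  have heq : Nat.card (cm h s).range = Nat.card (fx φ s) := by
    refine le_antisymm hle (Nat.le_of_mul_le_mul_left ?_ (Nat.card_pos (α := fx φ s)))
    rw [hprod]; exact hup
  exact ⟨by rw [← heq] at hprod ⊢; exact hprod, Subgroup.eq_of_le_of_card_ge hran heq.ge⟩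

theorem eq_of_sq_eq {a b : ℕ} (h : a * a = b * b) : a = b := Nat.mul_self_inj.1 h

/-- A quadratic offender. -/
structure Quad (φ : X →* MulAut V) (A : Subgroup X) : Prop where
  ne : A ≠ ⊥
  elem : Elem A
  big : ∃ U : Subgroup V, (∀ u ∈ U, ∀ a ∈ A, φ a u = u) ∧ Nat.card V ≤ Nat.card A * Nat.card U
  quad : ∀ a ∈ A, ∀ b ∈ A, ∀ v : V, φ b (v * φ a v) = v * φ a v

/-- An offender with its fixed space. -/
structure Off (φ : X →* MulAut V) (A : Subgroup X) (W : Subgroup V) : Prop where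
  elem : Elem A
  ne : A ≠ ⊥
  card : Nat.card A = Nat.card W
  cardV : Nat.card V = Nat.card W * Nat.card W
  fix : ∀ a ∈ A, a ≠ 1 → fx φ a = W
  cm_mem : ∀ a ∈ A, ∀ v : V, v * φ a v ∈ W
  surj : ∀ v : V, v ∉ W → ∀ w ∈ W, ∃ a ∈ A, v * φ a v = w

theorem order_two {A : Subgroup X} (hA : Elem A) {a : X} (ha : a ∈ A) (ha1 : a ≠ 1) :
    orderOf a = 2 := orderOf_eq_two (hA a ha) ha1

theorem exists_ne_one {G : Type*} [Group G] {A : Subgroup G} (h : A ≠ ⊥) : ∃ a ∈ A, a ≠ 1 := by
  by_contra h'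
  push Not at h'
  exact h ((Subgroup.eq_bot_iff_forall A).2 h')

omit [Finite V] in
theorem two_le_card {A : Subgroup X} (h : A ≠ ⊥) : 2 ≤ Nat.card A :=
  (A.one_lt_card_iff_ne_bot.2 h)

theorem Act.exists_off (h : Act φ) {A : Subgroup X} (hA : Quad φ A) : ∃ W, Off φ A W := by
  obtain ⟨U, hU, hbig⟩ := hA.big
  obtain ⟨a₀, ha₀, ha₀1⟩ := exists_ne_one hA.ne
  set W := fx φ a₀ with hW
  obtain ⟨hWc, hWr⟩ := h.involution (order_two hA.elem ha₀ ha₀1)
  have hfix : ∀ a ∈ A, a ≠ 1 → fx φ a = W := by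
    intro a ha ha1
    obtain ⟨hac, -⟩ := h.involution (order_two hA.elem ha ha1)
    refine (Subgroup.eq_of_le_of_card_ge ?_ (eq_of_sq_eq (hac.trans hWc.symm)).le).symm
    rw [← hWr]
    rintro _ ⟨v, rfl⟩
    exact hA.quad a₀ ha₀ a ha v
  have hcm : ∀ a ∈ A, ∀ v : V, v * φ a v ∈ W := by
    intro a ha v
    by_cases ha1 : a = 1
    · rw [ha1, map_one, MulAut.one_apply, h.elem]; exact W.one_mem
    · obtain ⟨-, hr⟩ := h.involution (order_two hA.elem ha ha1)
      rw [← hfix a ha ha1, ← hr]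
      exact ⟨v, rfl⟩
  have hqA : Nat.card W ≤ Nat.card A := by
    refine Nat.le_of_mul_le_mul_right ?_ (Nat.card_pos (α := W))
    calc Nat.card W * Nat.card W = Nat.card V := hWc
      _ ≤ Nat.card A * Nat.card U := hbig
      _ ≤ Nat.card A * Nat.card W := Nat.mul_le_mul_left _ (Subgroup.card_le_of_le
        fun u hu => mem_fx.2 (hU u hu a₀ ha₀))
  have hinj : ∀ v : V, v ∉ W → Function.Injective (fun a : A => (⟨v * φ a v, hcm a a.2 v⟩ : W)) := by
    intro v hv a b e
    have e' : φ (a : X) v = φ (b : X) v := mul_left_cancel (congrArg Subtype.val e)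
    by_contra hab
    refine hv ?_
    have hne : ((b⁻¹ * a : A) : X) ≠ 1 := fun e => hab (by
      have e' : b⁻¹ * a = 1 := Subtype.ext e
      exact (inv_mul_eq_one.1 e').symm)
    rw [← hfix _ (b⁻¹ * a).2 hne, mem_fx, Subgroup.coe_mul, Subgroup.coe_inv, mul_apply', e',
      inv_apply_apply]
  have hVW : Nat.card W < Nat.card V := by
    rw [← hWc]
    refine lt_mul_of_one_lt_left Nat.card_pos ?_
    by_contra hlt
    have hV : Nat.card V ≤ 1 := hWc ▸ Nat.mul_le_mul (not_lt.1 hlt) (not_lt.1 hlt)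
    haveI := Finite.card_le_one_iff_subsingleton.1 hV
    exact ha₀1 (h.inj ((MulEquiv.ext fun v => Subsingleton.elim _ _).trans (map_one φ).symm))
  obtain ⟨v₀, hv₀⟩ : ∃ v : V, v ∉ W := by
    by_contra h'
    push Not at h'
    rw [(Subgroup.eq_top_iff' W).2 h', Subgroup.card_top] at hVW
    exact lt_irrefl _ hVW
  have hcard : Nat.card A = Nat.card W :=
    le_antisymm (Nat.card_le_card_of_injective _ (hinj v₀ hv₀)) hqA
  refine ⟨W, hA.elem, hA.ne, hcard, hWc.symm, hfix, hcm, fun v hv w hw => ?_⟩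
  obtain ⟨a, ha⟩ := ((Nat.bijective_iff_injective_and_card _).2 ⟨hinj v hv, hcard⟩).2 ⟨w, hw⟩
  exact ⟨a, a.2, congrArg Subtype.val ha⟩

namespace Off

variable {A : Subgroup X} {W : Subgroup V}

theorem two_le (o : Off φ A W) : 2 ≤ Nat.card W := o.card ▸ two_le_card o.ne

theorem fixed (o : Off φ A W) {a : X} (ha : a ∈ A) {w : V} (hw : w ∈ W) : φ a w = w := by
  by_cases ha1 : a = 1
  · rw [ha1, map_one, MulAut.one_apply]
  · exact mem_fx.1 ((o.fix a ha ha1).symm ▸ hw)

theorem exists_not_mem (o : Off φ A W) : ∃ v : V, v ∉ W := by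
  by_contra h'
  push Not at h'
  have hV := o.cardV
  rw [(Subgroup.eq_top_iff' W).2 h', Subgroup.card_top] at hV
  have h2 := o.two_le
  rw [(Subgroup.eq_top_iff' W).2 h', Subgroup.card_top] at h2
  nlinarith

theorem W_ne_bot (o : Off φ A W) : W ≠ ⊥ := fun e => by
  have := o.two_le
  rw [e, Subgroup.card_bot] at this
  omega

/-- The kernel of the two-step series. -/
theorem kernel (o : Off φ A W) (h : Act φ) {x : X} (hW : ∀ w ∈ W, φ x w = w)
    (hV : ∀ v : V, v * φ x v ∈ W) : x ∈ A := by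
  obtain ⟨v₀, hv₀⟩ := o.exists_not_mem
  obtain ⟨a, ha, hav⟩ := o.surj v₀ hv₀ _ (hV v₀)
  have hyW : ∀ w ∈ W, φ (a * x) w = w := fun w hw => by rw [mul_apply', hW w hw, o.fixed ha hw]
  have hy0 : φ (a * x) v₀ = v₀ := by
    calc φ (a * x) v₀ = φ a (φ x v₀) := mul_apply' _ _ _ _
      _ = φ a v₀ * φ a (v₀ * φ x v₀) := by rw [← map_mul, h.mul_left]
      _ = φ a v₀ * (v₀ * φ a v₀) := by rw [o.fixed ha (hV v₀), hav]
      _ = v₀ := by rw [h.comm v₀, h.mul_left]
  have hyV : ∀ v : V, v * φ (a * x) v ∈ W := fun v => by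
    have : v * φ (a * x) v = (v * φ a v) * φ a (v * φ x v) := by
      rw [map_mul (φ a), mul_assoc v, h.mul_left, mul_apply']
    rw [this, o.fixed ha (hV v)]
    exact W.mul_mem (o.cm_mem a ha v) (hV v)
  have hy2 : (a * x) * (a * x) = 1 := by
    refine h.inj (MulEquiv.ext fun v => ?_)
    rw [map_one, MulAut.one_apply, mul_apply']
    calc φ (a * x) (φ (a * x) v) = φ (a * x) (v * (v * φ (a * x) v)) := by rw [h.mul_left]
      _ = φ (a * x) v * (v * φ (a * x) v) := by rw [map_mul, hyW _ (hyV v)]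
      _ = v := by rw [h.comm v, h.mul_left]
  have hy1 : a * x = 1 := by
    by_contra hy1
    obtain ⟨hc, -⟩ := h.involution (orderOf_eq_two hy2 hy1)
    have e := eq_of_sq_eq (hc.trans o.cardV)
    have hle : W ≤ fx φ (a * x) := fun w hw => mem_fx.2 (hyW w hw)
    exact hv₀ ((Subgroup.eq_of_le_of_card_ge hle e.le).symm ▸ (mem_fx.2 hy0))
  have : x = a⁻¹ := (inv_eq_of_mul_eq_one_right hy1).symm
  exact this ▸ A.inv_mem ha

theorem conj (o : Off φ A W) (x : X) : Off φ (cj x A) (im φ x W) := by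
  refine ⟨fun a ha => ?_, cj_ne_bot o.ne, ?_, ?_, ?_, ?_, ?_⟩
  · rw [mem_cj] at ha
    have := o.elem _ ha
    calc a * a = x * ((x⁻¹ * a * x) * (x⁻¹ * a * x)) * x⁻¹ := by group
      _ = 1 := by rw [this]; group
  · rw [card_cj, card_im, o.card]
  · rw [card_im, o.cardV]
  · intro a ha ha1
    rw [mem_cj] at ha
    have hne : x⁻¹ * a * x ≠ 1 := fun e => ha1 (by
      calc a = x * (x⁻¹ * a * x) * x⁻¹ := by group
        _ = 1 := by rw [e]; group)
    ext v
    rw [mem_im, ← o.fix _ ha hne, mem_fx, mem_fx, mul_apply', mul_apply', apply_inv_apply]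
    exact (φ x⁻¹).injective.eq_iff.symm
  · intro a ha v
    rw [mem_cj] at ha
    rw [mem_im]
    have := o.cm_mem _ ha (φ x⁻¹ v)
    rwa [mul_apply', mul_apply', apply_inv_apply, ← map_mul] at this
  · intro v hv w hw
    rw [mem_im] at hv hw
    obtain ⟨a, ha, e⟩ := o.surj _ hv _ hw
    refine ⟨x * a * x⁻¹, conj_mem_cj ha, (φ x⁻¹).injective ?_⟩
    rw [← e, map_mul, mul_apply', mul_apply', inv_apply_apply]

theorem eq_of_fix {A' : Subgroup X} (o : Off φ A W) (o' : Off φ A' W) (h : Act φ) : A' = A :=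
  Subgroup.eq_of_le_of_card_ge (fun a ha => o.kernel h (fun w hw => o'.fixed ha hw) (o'.cm_mem a ha))
    (by rw [o.card, o'.card])

theorem eq_of_mem {A' : Subgroup X} {W' : Subgroup V} (o : Off φ A W) (o' : Off φ A' W')
    (h : Act φ) {a : X} (ha : a ∈ A) (ha' : a ∈ A') (ha1 : a ≠ 1) : A' = A := by
  have e : W' = W := (o'.fix a ha' ha1).symm.trans (o.fix a ha ha1)
  subst e
  exact o.eq_of_fix o' h

theorem mem_normalizer_iff (o : Off φ A W) (h : Act φ) (x : X) :
    x ∈ normalizer (A : Set X) ↔ im φ x W = W := by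
  rw [mem_normalizer_iff_cj]
  constructor
  · intro e
    obtain ⟨a, ha, ha1⟩ := exists_ne_one o.ne
    have ha' : a ∈ PrimeOrders.cj x A := by rw [e]; exact ha
    exact ((o.conj x).fix a ha' ha1).symm.trans (o.fix a ha ha1)
  · intro e
    have o' := o.conj x
    rw [e] at o'
    exact o.eq_of_fix o' h

/-- An involution acting on a nontrivial subgroup fixes a nontrivial element of it. -/
theorem exists_fixed (h : Act φ) {a : X} (ha : a * a = 1) {U : Subgroup V} (hU : U ≠ ⊥)
    (hi : im φ a U = U) : ∃ u ∈ U, u ≠ 1 ∧ φ a u = u := by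
  obtain ⟨u, hu, hu1⟩ := exists_ne_one hU
  by_cases hf : φ a u = u
  · exact ⟨u, hu, hu1, hf⟩
  refine ⟨u * φ a u, U.mul_mem hu (hi ▸ apply_mem_im hu), fun e => hf ?_, ?_⟩
  · rw [← h.mul_left u (φ a u), e, mul_one]
  · rw [map_mul, ← mul_apply', ha, map_one, MulAut.one_apply, h.comm]

/-- Two offenders normalising each other are equal. -/
theorem eq_of_normalizes {A' : Subgroup X} {W' : Subgroup V} (o : Off φ A W) (o' : Off φ A' W')
    (h : Act φ) (h1 : A ≤ normalizer (A' : Set X)) (h2 : A' ≤ normalizer (A : Set X)) : A' = A := by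
  by_contra hne
  have hdis : ∀ a ∈ A, a ∈ A' → a = 1 := fun a ha ha' => by_contra fun ha1 =>
    hne (o.eq_of_mem o' h ha ha' ha1)
  have hcomm : ∀ a ∈ A, ∀ s ∈ A', s * a = a * s := by
    intro a ha s hs
    refine mul_inv_eq_iff_eq_mul.1 (mul_inv_eq_one.1 (hdis (s * a * s⁻¹ * a⁻¹)
      (A.mul_mem ((Subgroup.mem_normalizer_iff.1 (h2 hs) a).1 ha) (A.inv_mem ha)) ?_))
    have := A'.mul_mem hs ((Subgroup.mem_normalizer_iff.1 (h1 ha) s⁻¹).1 (A'.inv_mem hs))
    simpa [mul_assoc] using this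
  obtain ⟨s, hs, hs1⟩ := exists_ne_one o'.ne
  have hsW : im φ s W = W := (o.mem_normalizer_iff h s).1 (h2 hs)
  -- a vector outside `W` moved by `s` only inside `W`
  obtain ⟨v₀, hv₀, hv₀s⟩ : ∃ v : V, v ∉ W ∧ v * φ s v ∈ W := by
    obtain ⟨v, hv⟩ := o.exists_not_mem
    by_cases hc : v * φ s v ∈ W
    · exact ⟨v, hv, hc⟩
    refine ⟨_, hc, ?_⟩
    have e : φ s (v * φ s v) = v * φ s v := by
      rw [map_mul, ← mul_apply', o'.elem s hs, map_one, MulAut.one_apply, h.comm]
    rw [e, h.elem]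
    exact W.one_mem
  have hfixW : ∀ w ∈ W, φ s w = w := by
    intro w hw
    obtain ⟨b, hb, hbv⟩ := o.surj v₀ hv₀ w hw
    rw [← hbv]
    calc φ s (v₀ * φ b v₀) = φ s v₀ * φ b (φ s v₀) := by
          rw [map_mul, ← mul_apply', hcomm b hb s hs, mul_apply']
      _ = v₀ * (v₀ * φ s v₀) * φ b (v₀ * (v₀ * φ s v₀)) := by rw [h.mul_left]
      _ = v₀ * φ b v₀ := by
          rw [map_mul (φ b) v₀ (v₀ * φ s v₀), o.fixed hb hv₀s, h.comm (φ b v₀), mul_assoc,
            ← mul_assoc (v₀ * φ s v₀), h.elem, one_mul]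
  refine hs1 (hdis s (o.kernel h hfixW ?_) hs)
  intro v
  obtain ⟨a, ha, ha1⟩ := exists_ne_one o.ne
  have h' : φ s (φ a v) = φ s v * (v * φ a v) := by
    calc φ s (φ a v) = φ s (v * (v * φ a v)) := by rw [h.mul_left]
      _ = φ s v * (v * φ a v) := by rw [map_mul, hfixW _ (o.cm_mem a ha v)]
  rw [← o.fix a ha ha1, mem_fx, map_mul, ← mul_apply', ← hcomm a ha s hs, mul_apply', h',
    h.comm v (φ a v), h.comm (φ s v), mul_assoc (φ a v) v, ← mul_assoc (φ a v) (φ a v),
    h.elem, one_mul]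

/-- An offender is normal in every Sylow 2-subgroup containing it. -/
theorem le_normalizer_of_isSyl (o : Off φ A W) (h : Act φ) {R : Subgroup X}
    (hR : IsPGroup 2 R) (hAR : A ≤ R) : R ≤ normalizer (A : Set X) := by
  set T := R ⊓ normalizer (A : Set X) with hT
  rcases eq_or_lt_of_le (inf_le_left : T ≤ R) with e | hlt
  · exact e ▸ inf_le_right
  exfalso
  obtain ⟨r, hr, hrT⟩ := SetLike.exists_of_lt (PrimeOrders.exists_normalizing hR hlt)
  have hAT : A ≤ T := le_inf hAR Subgroup.le_normalizer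
  have e : PrimeOrders.cj r T = T := mem_normalizer_iff_cj.1 hr.2
  have h2 : PrimeOrders.cj r A ≤ normalizer (A : Set X) :=
    ((cj_mono hAT).trans e.le).trans inf_le_right
  have h1 : A ≤ normalizer (PrimeOrders.cj r A : Set X) := by
    rw [normalizer_cj]
    exact hAT.trans (e.ge.trans (cj_mono inf_le_right))
  exact hrT ⟨hr.1, mem_normalizer_iff_cj.2 (o.eq_of_normalizes (o.conj r) h h1 h2)⟩

/-- Every 2-subgroup normalises a conjugate of the offender. -/
theorem exists_normalized (o : Off φ A W) (h : Act φ) {P : Subgroup X} (hP : IsPGroup 2 P) :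
    ∃ g, P ≤ normalizer (PrimeOrders.cj g A : Set X) := by
  obtain ⟨R, hAR, hR⟩ := exists_isSyl (le_top : A ≤ ⊤) o.elem.isPGroup
  obtain ⟨m, -, hm⟩ := hR.conj_le (le_top : P ≤ ⊤) hP
  refine ⟨m⁻¹, ?_⟩
  rw [normalizer_cj]
  have := cj_mono (g := m⁻¹) (hm.trans (o.le_normalizer_of_isSyl h hR.2.1 hAR))
  rwa [cj_inv_cj] at this

/-- Two conjugates of the offender with a common fixed element are equal. -/
theorem eq_of_common_fixed (o : Off φ A W) (h : Act φ) {x : X} {w : V} (hw1 : w ≠ 1) (hw : w ∈ W)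
    (hw' : w ∈ im φ x W) : x ∈ normalizer (A : Set X) := by
  let C : Subgroup X :=
    { carrier := {y | φ y w = w}
      one_mem' := by simp
      mul_mem' := fun {a b} ha hb => by
        show φ (a * b) w = w
        rw [mul_apply', show φ b w = w from hb, show φ a w = w from ha]
      inv_mem' := fun {a} ha => by
        show φ a⁻¹ w = w
        conv_lhs => rw [← show φ a w = w from ha]
        exact inv_apply_apply φ a w }
  have hC : IsPGroup 2 C := by
    rintro ⟨y, hy⟩
    obtain ⟨k, m, hm, hkm⟩ := Nat.exists_eq_two_pow_mul_odd (orderOf_pos y).ne'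
    refine ⟨k, Subtype.ext ?_⟩
    refine h.fpf (y ^ 2 ^ k) ?_ w (C.pow_mem hy _) hw1
    rw [orderOf_pow' _ (by positivity), hkm, Nat.gcd_eq_right (Dvd.intro _ rfl),
      Nat.mul_div_cancel_left _ (by positivity)]
    exact hm
  obtain ⟨R, hCR, hR⟩ := exists_isSyl (le_top : C ≤ ⊤) hC
  have hA : A ≤ R := le_trans (fun a ha => show φ a w = w from o.fixed ha hw) hCR
  have hA' : PrimeOrders.cj x A ≤ R :=
    le_trans (fun a ha => show φ a w = w from (o.conj x).fixed ha hw') hCR
  rw [mem_normalizer_iff_cj]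
  exact o.eq_of_normalizes (o.conj x) h
    (hA.trans ((o.conj x).le_normalizer_of_isSyl h hR.2.1 hA'))
    (hA'.trans (o.le_normalizer_of_isSyl h hR.2.1 hA))

/-- An element of an offender preserves no other conjugate of the fixed space. -/
theorem not_preserve (o : Off φ A W) (h : Act φ) {x a : X} (hx : x ∉ normalizer (A : Set X))
    (ha : a ∈ A) (ha1 : a ≠ 1) : im φ a (im φ x W) ≠ im φ x W := by
  intro e
  obtain ⟨u, hu, hu1, hau⟩ := exists_fixed h (o.elem a ha) (o.conj x).W_ne_bot e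
  exact hx (o.eq_of_common_fixed h hu1 (o.fix a ha ha1 ▸ mem_fx.2 hau) hu)

/-- An involution preserves at most one conjugate of the fixed space. -/
theorem eq_of_preserve (o : Off φ A W) (h : Act φ) {s x : X} (hs : orderOf s = 2)
    (h1 : s ∈ normalizer (A : Set X)) (h2 : s ∈ normalizer (PrimeOrders.cj x A : Set X)) :
    x ∈ normalizer (A : Set X) := by
  by_contra hx
  set C := centralizer ({s} : Set X)
  obtain ⟨g, hg⟩ := o.exists_normalized h (h.cit s hs)
  have key : ∀ (A' : Subgroup X) (W' : Subgroup V), Off φ A' W' → s ∈ normalizer (A' : Set X) →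
      ∃ a ∈ A', a ≠ 1 ∧ a ∈ C := by
    intro A' W' o' hn
    obtain ⟨b, hb, hb1⟩ := exists_ne_one o'.ne
    have hsb : s * b * s⁻¹ ∈ A' := (Subgroup.mem_normalizer_iff.1 hn b).1 hb
    by_cases hc : s * b * s⁻¹ = b
    · exact ⟨b, hb, hb1, Subgroup.mem_centralizer_singleton_iff.2 (mul_inv_eq_iff_eq_mul.1 hc).symm⟩
    refine ⟨b * (s * b * s⁻¹), A'.mul_mem hb hsb, fun e => hc ?_, ?_⟩
    · rw [← inv_eq_of_mul_eq_one_right e, inv_eq_of_mul_eq_one_right (o'.elem b hb)]
    · rw [Subgroup.mem_centralizer_singleton_iff]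
      refine ((mul_inv_eq_iff_eq_mul.1 ?_)).symm
      calc s * (b * (s * b * s⁻¹)) * s⁻¹ = (s * b * s⁻¹) * ((s * s) * b * (s * s)⁻¹) := by group
        _ = b * (s * b * s⁻¹) := by
          rw [mul_self hs, one_mul, inv_one, mul_one, o'.elem.comm hsb hb]
  obtain ⟨a, ha, ha1, haC⟩ := key A W o h1
  obtain ⟨a', ha', ha'1, ha'C⟩ := key _ _ (o.conj x) h2
  have e1 : g ∈ normalizer (A : Set X) := by
    by_contra hgn
    exact o.not_preserve h hgn ha ha1 (((o.conj g).mem_normalizer_iff h a).1 (hg haC))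
  have hgA : PrimeOrders.cj g A = A := mem_normalizer_iff_cj.1 e1
  rw [hgA] at hg
  rw [mem_cj] at ha'
  refine o.not_preserve h (x := x⁻¹) (fun e => hx (inv_mem_iff.1 e)) ha'
    (fun e => ha'1 (conj_eq_one_iff.1 (show x⁻¹ * a' * x⁻¹⁻¹ = 1 by rwa [inv_inv]))) ?_
  have hW : im φ a' W = W := (o.mem_normalizer_iff h a').1 (hg ha'C)
  rw [← im_mul, mul_assoc (x⁻¹ * a') x x⁻¹, mul_inv_cancel, mul_one, im_mul, hW]

/-- The conjugates of the fixed space. -/
def points (φ : X →* MulAut V) (W : Subgroup V) : Set (Subgroup V) := Set.range fun x => im φ x W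

theorem points_card (o : Off φ A W) (h : Act φ) {x : X} (hx : x ∉ normalizer (A : Set X)) :
    (points φ W).ncard = Nat.card W + 1 ∧
      ∀ y ∉ normalizer (A : Set X), ∃ a ∈ A, im φ (a * x) W = im φ y W := by
  classical
  have hup : (points φ W).ncard ≤ Nat.card W + 1 := by
    let f : (Σ U : points φ W, {v : (U : Subgroup V) // v ≠ 1}) → {v : V // v ≠ 1} :=
      fun p => ⟨(p.2.1 : V), fun e => p.2.2 (Subtype.ext e)⟩
    have hf : Function.Injective f := by
      have key : ∀ U ∈ points φ W, ∀ U' ∈ points φ W, ∀ v ∈ U, v ∈ U' → v ≠ 1 → U = U' := by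
        rintro _ ⟨y, rfl⟩ _ ⟨y', rfl⟩ v hv hv' hv1
        have hmem : y⁻¹ * y' ∈ normalizer (A : Set X) := by
          refine o.eq_of_common_fixed h (w := φ y⁻¹ v) (fun e => hv1 ?_) (mem_im.1 hv) ?_
          · exact (φ y⁻¹).injective (e.trans (map_one _).symm)
          · rw [im_mul]
            exact apply_mem_im hv'
        show im φ y W = im φ y' W
        conv_lhs => rw [← (o.mem_normalizer_iff h _).1 hmem, ← im_mul, mul_inv_cancel_left]
      rintro ⟨⟨U, hU⟩, ⟨⟨v, hv⟩, hv1⟩⟩ ⟨⟨U', hU'⟩, ⟨⟨v', hv'⟩, hv'1⟩⟩ e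
      have e' : v = v' := congrArg Subtype.val e
      subst e'
      have eU := key U hU U' hU' v hv hv' fun e => hv1 (Subtype.ext e)
      subst eU
      rfl
    haveI := Fintype.ofFinite (points φ W)
    have hcnt := Nat.card_le_card_of_injective f hf
    have hV : Nat.card {v : V // v ≠ 1} = Nat.card V - 1 := by
      haveI := Fintype.ofFinite V
      rw [Nat.card_eq_fintype_card, Fintype.card_subtype_compl, Fintype.card_subtype_eq,
        Nat.card_eq_fintype_card]
    have hU : ∀ U : points φ W, Nat.card {v : (U : Subgroup V) // v ≠ 1} = Nat.card W - 1 := by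
      rintro ⟨U, y, rfl⟩
      haveI := Fintype.ofFinite (im φ y W)
      rw [Nat.card_eq_fintype_card, Fintype.card_subtype_compl, Fintype.card_subtype_eq,
        ← Nat.card_eq_fintype_card, card_im]
    rw [Nat.card_sigma, Finset.sum_congr rfl fun U _ => hU U, Finset.sum_const, Finset.card_univ,
      ← Nat.card_eq_fintype_card, Nat.card_coe_set_eq, smul_eq_mul, hV, o.cardV] at hcnt
    have h2 := o.two_le
    obtain ⟨r, hr⟩ : ∃ r, Nat.card W = r + 1 := ⟨Nat.card W - 1, by omega⟩
    rw [hr, Nat.add_sub_cancel] at hcnt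
    rw [hr]
    refine Nat.le_of_mul_le_mul_right ?_ (show 0 < r by omega)
    calc _ ≤ (r + 1) * (r + 1) - 1 := hcnt
      _ ≤ (r + 1 + 1) * r := by rw [Nat.sub_le_iff_le_add]; nlinarith
  let g : A → Subgroup V := fun a => im φ ((a : X) * x) W
  have hg : Function.Injective g := by
    intro a b e
    by_contra hab
    have hne : ((b⁻¹ * a : A) : X) ≠ 1 := fun e => hab (by
      have e' : b⁻¹ * a = 1 := Subtype.ext e
      exact (inv_mul_eq_one.1 e').symm)
    refine o.not_preserve h hx (b⁻¹ * a).2 hne ?_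
    simp only [g, im_mul] at e
    rw [Subgroup.coe_mul, Subgroup.coe_inv, im_mul, e, im_inv rfl]
  have hWg : W ∉ Set.range g := by
    rintro ⟨a, ha⟩
    refine hx ((o.mem_normalizer_iff h x).2 ?_)
    simp only [g, im_mul] at ha
    rw [← im_inv ha]
    exact ((o.mem_normalizer_iff h _).1 (Subgroup.le_normalizer (A.inv_mem a.2)))
  have hsub : insert W (Set.range g) ⊆ points φ W :=
    Set.insert_subset ⟨1, im_one φ W⟩ (by rintro _ ⟨a, rfl⟩; exact ⟨_, rfl⟩)
  have hcard : (insert W (Set.range g)).ncard = Nat.card W + 1 := by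
    rw [Set.ncard_insert_of_notMem hWg (Set.toFinite _), ← Nat.card_coe_set_eq,
      Nat.card_range_of_injective hg, o.card]
  have heq := Set.eq_of_subset_of_ncard_le hsub (hup.trans hcard.ge) (Set.toFinite _)
  refine ⟨by rw [← heq, hcard], fun y hy => ?_⟩
  have hmem : im φ y W ∈ insert W (Set.range g) := heq ▸ ⟨y, rfl⟩
  rcases hmem with e | ⟨a, ha⟩
  · exact absurd ((o.mem_normalizer_iff h y).2 e) hy
  · exact ⟨a, a.2, ha⟩

theorem exists_outside (o : Off φ A W) (h : Act φ) :
    ∃ u : X, orderOf u = 2 ∧ u ∉ normalizer (A : Set X) := by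
  obtain ⟨x, hx⟩ : ∃ x, x ∉ normalizer (A : Set X) := by
    by_contra h'
    push Not at h'
    exact o.ne (h.core A (Subgroup.normalizer_eq_top_iff.1 ((Subgroup.eq_top_iff' _).2 h'))
      o.elem.isPGroup)
  obtain ⟨a, ha, ha1⟩ := exists_ne_one o.ne
  refine ⟨x * a * x⁻¹, (orderOf_conj x a).trans (order_two o.elem ha ha1), fun hmem => hx ?_⟩
  exact o.eq_of_preserve h ((orderOf_conj x a).trans (order_two o.elem ha ha1)) hmem
    (Subgroup.le_normalizer (conj_mem_cj ha))

end Off

end CfsgLib.Recognition.CIT
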