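import Cfsg.Agent.Lib.Recognition.CIT.Conj

/-!
Two natural modules with a common Sylow 2-subgroup of their normalisers are self-centralising and
of the same order.
-/

set_option autoImplicit false
set_option linter.unusedSectionVars false
set_option linter.style.haveILetI false

open Subgroup

namespace CfsgLib.Recognition.CIT

open CfsgLib.Recognition.PrimeOrders

variable {G : Type*} [Group G] [Finite G]

theorem sq_le_centralizer {V : Subgroup G} (hV : Natural V) (H : IsCIT G) {T : Subgroup G}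
    (hT : IsSyl T (normalizer (V : Set G))) :
    Nat.card ↥(V ⊓ centralizer (T : Set G)) * Nat.card ↥(V ⊓ centralizer (T : Set G)) ≤
      Nat.card ↥(centralizer (V : Set G)) :=
  (hV.card_eq H hT).ge.trans (Subgroup.card_le_of_le hV.le_centralizer)

/-- Neither of two natural modules centralises the other with the larger centraliser. -/
theorem not_le_of_le {V V' T : Subgroup G} (H : IsCIT G) (hV : Natural V) (hV' : Natural V')
    (hne : V' ≠ V) (hT : IsSyl T (normalizer (V : Set G))) (hT' : IsSyl T (normalizer (V' : Set G)))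
    (hVQ : V' ≤ centralizer (V : Set G))
    (hle : centralizer (V' : Set G) ≤ centralizer (V : Set G)) : False := by
  have hQT := hV.centralizer_le_syl H hT
  have hVQ' : V ≤ centralizer (V' : Set G) := fun v hv =>
    Subgroup.mem_centralizer_iff.2 fun u hu => (Subgroup.mem_centralizer_iff.1 (hVQ hu) v hv).symm
  have hsub : V ≤ V' := fun v hv => hV'.self v (hVQ' hv) (hV.elem v hv) fun q hq =>
    Subgroup.mem_centralizer_iff.1 (hle hq) v hv
  set W := V ⊓ centralizer (T : Set G) with hW
  set W' := V' ⊓ centralizer (T : Set G) with hW'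
  have hlt : Nat.card W < Nat.card W' := by
    by_contra hge
    refine hne (Subgroup.eq_of_le_of_card_ge hsub ?_).symm
    rw [hV.card_eq H hT, hV'.card_eq H hT']
    exact Nat.mul_le_mul (not_lt.1 hge) (not_lt.1 hge)
  obtain ⟨v, hv, hvW⟩ : ∃ v ∈ V, v ∉ W' := by
    by_contra h'
    push Not at h'
    have hTQ : T ≤ centralizer (V : Set G) := fun t ht => Subgroup.mem_centralizer_iff.2 fun u hu =>
      (Subgroup.mem_centralizer_iff.1 (h' u hu).2 t ht).symm
    have h1 := Subgroup.card_le_of_le hTQ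
    rw [hV.card_syl H hT] at h1
    have h2 := hV.two_le H hT
    have h3 : 0 < Nat.card ↥(centralizer (V : Set G)) := Nat.card_pos
    nlinarith
  refine absurd (Subgroup.card_le_of_le (show W' ≤ W from fun w hw => ?_)) (not_le.2 hlt)
  obtain ⟨t, ht, e⟩ := hV'.exists_commutator H hT' (hsub hv) hvW hw
  exact e ▸ hV.commutator_mem H hT ht hv

/-- Neither of two natural modules centralises the other. -/
theorem not_le_centralizer {V V' T : Subgroup G} (H : IsCIT G) (hV : Natural V) (hV' : Natural V')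
    (hne : V' ≠ V) (hT : IsSyl T (normalizer (V : Set G))) (hT' : IsSyl T (normalizer (V' : Set G))) :
    ¬ V' ≤ centralizer (V : Set G) := by
  intro hsub
  set Q := centralizer (V : Set G) with hQ
  set Q' := centralizer (V' : Set G) with hQ'
  by_cases hle : Q' ≤ Q
  · exact not_le_of_le H hV hV' hne hT hT' hsub hle
  obtain ⟨a, haQ', haQ⟩ := SetLike.not_le_iff_exists.1 hle
  have hQT : Q ≤ T := hV.centralizer_le_syl H hT
  have haT : a ∈ T := hV'.centralizer_le_syl H hT' haQ'
  obtain ⟨σ, hσN, hσ3, hσQ, hσfix, hσW⟩ := hV.exists_sigma H hT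
  have hQn : ∀ q ∈ Q, ∀ u ∈ V', q * u * q⁻¹ ∈ V' := fun q hq u hu =>
    conj_mem_of_normalizer (hT'.1 (hQT hq)) hu
  have hinW : ∀ u ∈ V', (∀ q ∈ Q, q * u = u * q) → u ∈ V ⊓ centralizer (T : Set G) := fun u hu hc =>
    hV.mem_W_of_commute H hT haT haQ
      (hV.self u (hsub hu) (hV'.elem u hu) fun q hq => (hc q hq).symm)
      (Subgroup.mem_centralizer_iff.1 haQ' u hu).symm
  have hinf : ∀ u ∈ V', σ * u * σ⁻¹ ∈ V' → u = 1 := by
    by_contra hcon
    push Not at hcon
    obtain ⟨u, hu, hσu, hu1⟩ := hcon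
    set U := V' ⊓ PrimeOrders.cj σ V' with hU
    have hUQ : U ≤ Q := inf_le_left.trans hsub
    have hU1 : U ≠ ⊥ := fun e => hu1 (by
      have hmem : σ * u * σ⁻¹ ∈ U := ⟨hσu, conj_mem_cj hu⟩
      rw [e, Subgroup.mem_bot] at hmem
      exact conj_eq_one_iff.1 hmem)
    haveI : (U.subgroupOf Q).Normal := ⟨fun w hw q => by
      refine ⟨hQn q q.2 w hw.1, mem_cj.2 ?_⟩
      have h1 := centralizer_conj ((normalizer (V : Set G)).inv_mem hσN) q.2
      rw [inv_inv] at h1
      have := hQn _ h1 _ (mem_cj.1 hw.2)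
      simpa [mul_assoc] using this⟩
    haveI : Fact (Nat.Prime 2) := ⟨Nat.prime_two⟩
    haveI := (hV.centralizer_isPGroup H).isNilpotent
    obtain ⟨w, ⟨hw, hwc'⟩, hw1⟩ := exists_ne_one
      (CfsgLib.Solvable.FrattiniFitting.inf_center_ne_bot (U.subgroupOf Q) (by
        rw [ne_eq, Subgroup.subgroupOf_eq_bot, disjoint_iff, inf_eq_left.2 hUQ]
        exact hU1))
    have hwc : ∀ q ∈ Q, q * (w : G) = w * q := fun q hq =>
      congrArg Subtype.val (Subgroup.mem_center_iff.1 hwc' ⟨q, hq⟩)
    have h1 := hinW _ hw.1 hwc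
    have h2 := hinW _ (mem_cj.1 hw.2) fun q hq => by
      have h := hwc _ (hσQ q hq)
      calc q * (σ⁻¹ * (w : G) * σ) = σ⁻¹ * ((σ * q * σ⁻¹) * w) * σ := by group
        _ = σ⁻¹ * (w : G) * σ * q := by rw [h]; group
    have h3 : σ⁻¹ * (w : G) * σ = 1 := hσW _ h2 (by
      have e : σ * (σ⁻¹ * (w : G) * σ) * σ⁻¹ = w := by group
      rw [e]; exact h1)
    refine hw1 (Subtype.ext ?_)
    calc (w : G) = σ * (σ⁻¹ * (w : G) * σ) * σ⁻¹ := by group
      _ = 1 := by rw [h3]; group
  have hcomm := centralizes_of_inf_conj Q V' (by rw [← hσ3, pow_orderOf_eq_one]) hσQ hσfix hsub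
    hQn hinf
  refine not_le_of_le H hV' hV hne.symm hT' hT (fun v hv => ?_) fun q hq => ?_
  · exact Subgroup.mem_centralizer_iff.2 fun u hu =>
      (Subgroup.mem_centralizer_iff.1 (hsub hu) v hv).symm
  · exact Subgroup.mem_centralizer_iff.2 fun u hu => (hcomm q hq u hu).symm

/-- The centraliser of `V` is at most the square of the index of the other centraliser. -/
theorem card_le_sq {V V' T : Subgroup G} (H : IsCIT G) (hV : Natural V) (hV' : Natural V')
    (hne : V' ≠ V) (hT : IsSyl T (normalizer (V : Set G))) (hT' : IsSyl T (normalizer (V' : Set G))) :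
    Nat.card ↥(centralizer (V : Set G)) ≤
      Nat.card ↥(V' ⊓ centralizer (T : Set G)) * Nat.card ↥(V' ⊓ centralizer (T : Set G)) := by
  obtain ⟨v, hv, hvQ⟩ := SetLike.not_le_iff_exists.1 (not_le_centralizer H hV hV' hne hT hT')
  set Q := centralizer (V : Set G) with hQ
  set Q' := centralizer (V' : Set G) with hQ'
  have hQT : Q ≤ T := hV.centralizer_le_syl H hT
  have hQ'T : Q' ≤ T := hV'.centralizer_le_syl H hT'
  have hvT : v ∈ T := hQ'T (hV'.le_centralizer hv)
  have hv2 : orderOf v = 2 :=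
    orderOf_eq_prime (by rw [pow_two]; exact hV'.elem v hv) fun e => hvQ (e ▸ Q.one_mem)
  obtain ⟨hle, -⟩ := card_le_relIndex_sq (normalizer (V : Set G)) Q (centralizer_le_normalizer V)
    (fun m hm q hq => centralizer_conj hm hq) (hT.1 hvT) hv2
    (fun W hW hn h2 hmem => hvQ (hV.red (le_O2 hW hn h2 hmem)))
    (fun d _ hd1 hdo q hq e => hV.fpf H hdo hd1 hq e) Q'
    (fun x hx => Subgroup.mem_centralizer_iff.1 hx v hv)
  have hidx : (Q'.subgroupOf T).index = Nat.card ↥(V' ⊓ centralizer (T : Set G)) := by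
    have := Subgroup.card_mul_index (Q'.subgroupOf T)
    rw [Nat.card_congr (Subgroup.subgroupOfEquivOfLe hQ'T).toEquiv, hV'.card_syl H hT',
      mul_comm (Nat.card ↥(V' ⊓ centralizer (T : Set G)))] at this
    exact Nat.eq_of_mul_eq_mul_left Nat.card_pos this
  have hrel : Q'.relIndex Q ≤ Nat.card ↥(V' ⊓ centralizer (T : Set G)) :=
    (Subgroup.relIndex_le_of_le_right hQT
      (Subgroup.index_ne_zero_of_finite (H := Q'.subgroupOf T))).trans hidx.le
  refine hle.trans ?_
  rw [pow_two]
  exact Nat.mul_le_mul hrel hrel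

/-- A pair of natural modules is self-centralising and of one order. -/
theorem IsCIT.pair {V V' T : Subgroup G} (H : IsCIT G) (hV : Natural V) (hV' : Natural V')
    (hne : V' ≠ V) (hT : IsSyl T (normalizer (V : Set G))) (hT' : IsSyl T (normalizer (V' : Set G))) :
    centralizer (V : Set G) = V ∧
      Nat.card ↥(V' ⊓ centralizer (T : Set G)) = Nat.card ↥(V ⊓ centralizer (T : Set G)) := by
  set q := Nat.card ↥(V ⊓ centralizer (T : Set G)) with hq
  set q' := Nat.card ↥(V' ⊓ centralizer (T : Set G)) with hq'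
  have h1 : Nat.card ↥(centralizer (V : Set G)) ≤ q' * q' := card_le_sq H hV hV' hne hT hT'
  have h2 : Nat.card ↥(centralizer (V' : Set G)) ≤ q * q := card_le_sq H hV' hV hne.symm hT' hT
  have h3 : q * q ≤ Nat.card ↥(centralizer (V : Set G)) := sq_le_centralizer hV H hT
  have h4 : q' * q' ≤ Nat.card ↥(centralizer (V' : Set G)) := sq_le_centralizer hV' H hT'
  have hqq : q' = q := by
    have a : q ≤ q' := Nat.mul_self_le_mul_self_iff.1 (h3.trans h1)
    have b : q' ≤ q := Nat.mul_self_le_mul_self_iff.1 (h4.trans h2)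
    omega
  refine ⟨(Subgroup.eq_of_le_of_card_ge hV.le_centralizer ?_).symm, hqq⟩
  rw [hV.card_eq H hT, ← hq]
  exact h1.trans (le_of_eq (by rw [hqq]))

end CfsgLib.Recognition.CIT
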