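import Cfsg.Agent.Lib.Recognition.CIT.Pair

/-!
The shape of a pair of natural modules, and the bound four on their field.
-/

set_option autoImplicit false
set_option linter.unusedSectionVars false
set_option linter.style.haveILetI false

open Subgroup

namespace CfsgLib.Recognition.CIT

open CfsgLib.Recognition.PrimeOrders

variable {G : Type*} [Group G]

/-- Two self-centralising natural modules generating a common Sylow 2-subgroup of their
normalisers. -/
structure Shape (V V' T : Subgroup G) : Prop where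
  nat : Natural V
  nat' : Natural V'
  ne : V' ≠ V
  syl : IsSyl T (normalizer (V : Set G))
  syl' : IsSyl T (normalizer (V' : Set G))
  self : centralizer (V : Set G) = V
  self' : centralizer (V' : Set G) = V'
  le : V ≤ T
  le' : V' ≤ T
  inter : V ⊓ centralizer (T : Set G) = V ⊓ V'
  inter' : V' ⊓ centralizer (T : Set G) = V ⊓ V'
  gen : ∀ t ∈ T, ∃ v ∈ V, ∃ v' ∈ V', t = v * v'
  cardV : Nat.card V = Nat.card ↥(V ⊓ V') * Nat.card ↥(V ⊓ V')
  cardV' : Nat.card V' = Nat.card ↥(V ⊓ V') * Nat.card ↥(V ⊓ V')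
  cardT : Nat.card T = Nat.card ↥(V ⊓ V') * Nat.card ↥(V ⊓ V') * Nat.card ↥(V ⊓ V')

variable [Finite G]

theorem Shape.symm {V V' T : Subgroup G} (P : Shape V V' T) : Shape V' V T := by
  refine ⟨P.nat', P.nat, P.ne.symm, P.syl', P.syl, P.self', P.self, P.le', P.le, ?_, ?_, ?_, ?_, ?_, ?_⟩
  · rw [P.inter', inf_comm]
  · rw [P.inter, inf_comm]
  · intro t ht
    obtain ⟨v, hv, v', hv', e⟩ := P.gen t⁻¹ (T.inv_mem ht)
    exact ⟨v'⁻¹, V'.inv_mem hv', v⁻¹, V.inv_mem hv, by rw [← mul_inv_rev, ← e, inv_inv]⟩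
  · rw [inf_comm V' V]; exact P.cardV'
  · rw [inf_comm V' V]; exact P.cardV
  · rw [inf_comm V' V]; exact P.cardT

theorem IsCIT.shape (H : IsCIT G) {V V' T : Subgroup G} (hV : Natural V) (hV' : Natural V')
    (hne : V' ≠ V) (hT : IsSyl T (normalizer (V : Set G))) (hT' : IsSyl T (normalizer (V' : Set G))) :
    Shape V V' T := by
  obtain ⟨hself, hqq⟩ := H.pair hV hV' hne hT hT'
  obtain ⟨hself', -⟩ := H.pair hV' hV hne.symm hT' hT
  have hle : V ≤ T := hself ▸ hV.centralizer_le_syl H hT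
  have hle' : V' ≤ T := hself' ▸ hV'.centralizer_le_syl H hT'
  obtain ⟨v', hv', hv'V⟩ := SetLike.not_le_iff_exists.1 (not_le_centralizer H hV hV' hne hT hT')
  obtain ⟨v, hv, hvV'⟩ := SetLike.not_le_iff_exists.1 (not_le_centralizer H hV' hV hne.symm hT' hT)
  set q := Nat.card ↥(V ⊓ centralizer (T : Set G)) with hq
  have hs1 : V ⊓ V' ≤ V ⊓ centralizer (T : Set G) := fun x hx =>
    hV.mem_W_of_commute H hT (hle' hv') hv'V hx.1 (hV'.elem.comm hv' hx.2)
  have hs2 : V ⊓ V' ≤ V' ⊓ centralizer (T : Set G) := fun x hx =>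
    hV'.mem_W_of_commute H hT' (hle hv) hvV' hx.2 (hV.elem.comm hv hx.1)
  have hcV : Nat.card V = q * q := hV.card_eq H hT
  have hcV' : Nat.card V' = q * q := by
    rw [hV'.card_eq H hT', hqq]
  have hcT : Nat.card T = q * (q * q) := by
    rw [hV.card_syl H hT, hself, hcV]
  have hqpos : 0 < q := Nat.card_pos
  have hprod := card_mul_le V V'
  have hsup : V ⊔ V' ≤ T := sup_le hle hle'
  rw [hcV, hcV'] at hprod
  have hinf1 : Nat.card ↥(V ⊓ V') ≤ q := Subgroup.card_le_of_le hs1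
  have hsupc := Subgroup.card_le_of_le hsup
  rw [hcT] at hsupc
  have hinf : Nat.card ↥(V ⊓ V') = q := by
    refine le_antisymm hinf1 (Nat.le_of_mul_le_mul_left ?_ (show 0 < q * (q * q) by positivity))
    calc q * (q * q) * q = q * q * (q * q) := by ring
      _ ≤ _ := hprod
      _ ≤ _ := Nat.mul_le_mul_right _ hsupc
  have hT_eq : V ⊔ V' = T := by
    refine Subgroup.eq_of_le_of_card_ge hsup ?_
    rw [hcT]
    refine Nat.le_of_mul_le_mul_right ?_ hqpos
    calc q * (q * q) * q = q * q * (q * q) := by ring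
      _ ≤ _ := hprod
      _ = _ := by rw [hinf]
  refine ⟨hV, hV', hne, hT, hT', hself, hself', hle, hle',
    (Subgroup.eq_of_le_of_card_ge hs1 (by rw [hinf])).symm,
    (Subgroup.eq_of_le_of_card_ge hs2 (by rw [hinf, hqq])).symm, ?_, by rw [hinf, hcV],
    by rw [hinf, hcV'], by rw [hinf, hcT]; ring⟩
  intro t ht
  let P : Subgroup G :=
    { carrier := {x | ∃ a ∈ V, ∃ b ∈ V', x = a * b}
      one_mem' := ⟨1, V.one_mem, 1, V'.one_mem, (one_mul 1).symm⟩
      mul_mem' := by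
        rintro _ _ ⟨a, ha, b, hb, rfl⟩ ⟨a', ha', b', hb', rfl⟩
        exact ⟨a * (b * a' * b⁻¹), V.mul_mem ha (conj_mem_of_normalizer (hT.1 (hle' hb)) ha'),
          b * b', V'.mul_mem hb hb', by group⟩
      inv_mem' := by
        rintro _ ⟨a, ha, b, hb, rfl⟩
        exact ⟨b⁻¹ * a⁻¹ * b⁻¹⁻¹, conj_mem_of_normalizer (hT.1 (hle' (V'.inv_mem hb))) (V.inv_mem ha),
          b⁻¹, V'.inv_mem hb, by group⟩ }
  have hP : V ⊔ V' ≤ P := sup_le (fun a ha => ⟨a, ha, 1, V'.one_mem, (mul_one a).symm⟩)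
    (fun b hb => ⟨1, V.one_mem, b, hb, (one_mul b).symm⟩)
  exact hP (hT_eq.symm ▸ ht)

namespace Shape

variable {V V' T : Subgroup G}

theorem W_fixed (P : Shape V V' T) {w t : G} (hw : w ∈ V ⊓ V') (ht : t ∈ T) : t * w = w * t := by
  rw [← P.inter] at hw
  exact Subgroup.mem_centralizer_iff.1 hw.2 t ht

/-- The involutions of `T` lie in the two modules. -/
theorem involution_mem (P : Shape V V' T) (H : IsCIT G) {t : G} (ht : t ∈ T) (h2 : t * t = 1) :
    t ∈ V ∨ t ∈ V' := by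
  obtain ⟨v, hv, v', hv', rfl⟩ := P.gen t ht
  by_cases hv'V : v' ∈ V
  · exact Or.inl (V.mul_mem hv hv'V)
  by_cases hvV' : v ∈ V'
  · exact Or.inr (V'.mul_mem hvV' hv')
  exfalso
  refine hvV' (P.inter ▸ P.nat.mem_W_of_commute H P.syl (P.le' hv') (P.self.symm ▸ hv'V) hv ?_).2
  calc v' * v = v * v * (v' * v) * (v' * v') := by
        rw [P.nat.elem v hv, P.nat'.elem v' hv', one_mul, mul_one]
    _ = v * (v * v' * (v * v')) * v' := by group
    _ = v * v' := by rw [h2, mul_one]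

theorem elem_le (P : Shape V V' T) (H : IsCIT G) {E : Subgroup G} (hE : Elem E) (hET : E ≤ T) :
    E ≤ V ∨ E ≤ V' := by
  by_contra hc
  push Not at hc
  obtain ⟨a, ha, haV⟩ := SetLike.not_le_iff_exists.1 hc.1
  obtain ⟨b, hb, hbV'⟩ := SetLike.not_le_iff_exists.1 hc.2
  have ha' : a ∈ V' := (P.involution_mem H (hET ha) (hE a ha)).resolve_left haV
  have hb' : b ∈ V := (P.involution_mem H (hET hb) (hE b hb)).resolve_right hbV'
  rcases P.involution_mem H (hET (E.mul_mem ha hb)) (hE _ (E.mul_mem ha hb)) with h | h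
  · exact haV (by simpa using V.mul_mem h (V.inv_mem hb'))
  · exact hbV' (by simpa using V'.mul_mem (V'.inv_mem ha') h)

/-- The normaliser of `T` in one module's normaliser normalises the other module. -/
theorem normalizer_other (P : Shape V V' T) (H : IsCIT G) {x : G}
    (hx : x ∈ normalizer (V : Set G)) (hxT : x ∈ normalizer (T : Set G)) :
    x ∈ normalizer (V' : Set G) := by
  rw [mem_normalizer_iff_cj]
  have hcard := card_cj x V'
  have hle : PrimeOrders.cj x V' ≤ T := by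
    have := cj_mono (g := x) P.le'
    rwa [mem_normalizer_iff_cj.1 hxT] at this
  rcases P.elem_le H (P.nat'.cj x).elem hle with h | h
  · exfalso
    refine P.ne ?_
    have e : PrimeOrders.cj x V' = V := Subgroup.eq_of_le_of_card_ge h (by rw [hcard, P.cardV', P.cardV])
    calc V' = PrimeOrders.cj x⁻¹ (PrimeOrders.cj x V') := (cj_inv_cj x V').symm
      _ = V := by rw [e, mem_normalizer_iff_cj.1 ((normalizer (V : Set G)).inv_mem hx)]
  · exact Subgroup.eq_of_le_of_card_ge h (by rw [hcard])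

end Shape

/-- An abelian group transitive on the nonidentity elements of `W` whose inverse and square
actions are isomorphic forces order at most four. -/
theorem card_le_four {W : Subgroup G} (hW : Elem W) (K : Subgroup G)
    (hK : ∀ x ∈ K, ∀ w ∈ W, x * w * x⁻¹ ∈ W)
    (hcomm : ∀ x ∈ K, ∀ y ∈ K, ∀ w ∈ W, x * (y * w * y⁻¹) * x⁻¹ = y * (x * w * x⁻¹) * y⁻¹)
    (htrans : ∀ w ∈ W, w ≠ 1 → ∀ w' ∈ W, w' ≠ 1 → ∃ x ∈ K, x * w * x⁻¹ = w')
    (ψ : G → G) (hψW : ∀ w ∈ W, ψ w ∈ W) (hψm : ∀ a ∈ W, ∀ b ∈ W, ψ (a * b) = ψ a * ψ b)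
    (hψ1 : ∀ a ∈ W, ψ a = 1 → a = 1)
    (hψe : ∀ x ∈ K, ∀ y ∈ W, ψ (x⁻¹ * y * x) = x * (x * ψ y * x⁻¹) * x⁻¹) :
    Nat.card W ≤ 4 := by
  classical
  by_cases hW1 : W = ⊥
  · rw [hW1, Subgroup.card_bot]; omega
  obtain ⟨w₀, hw₀, hw₀1⟩ := exists_ne_one hW1
  obtain ⟨s, hs, hsw⟩ := htrans w₀ hw₀ hw₀1 (ψ w₀) (hψW _ hw₀) (fun e => hw₀1 (hψ1 _ hw₀ e))
  obtain ⟨act, hact⟩ : ∃ act : G → G → G, ∀ x w, act x w = x * w * x⁻¹ := ⟨_, fun _ _ => rfl⟩
  have am : ∀ x a b, act x (a * b) = act x a * act x b := fun x a b => by simp only [hact]; group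
  have ac : ∀ x y w, act (x * y) w = act x (act y w) := fun x y w => by simp only [hact]; group
  have ainj : ∀ x a b, act x a = act x b → a = b := fun x a b e => by
    rw [hact, hact] at e
    exact mul_left_cancel (mul_right_cancel e)
  have hcomm' : ∀ x ∈ K, ∀ y ∈ K, ∀ w ∈ W, act x (act y w) = act y (act x w) := by
    simp only [hact]; exact hcomm
  have hW' : ∀ x ∈ K, ∀ w ∈ W, act x w ∈ W := by simp only [hact]; exact hK
  replace htrans : ∀ w ∈ W, w ≠ 1 → ∀ w' ∈ W, w' ≠ 1 → ∃ x ∈ K, act x w = w' := by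
    simp only [hact]; exact htrans
  replace hsw : act s w₀ = ψ w₀ := by rw [hact]; exact hsw
  -- the image of a point
  have hψx : ∀ x ∈ K, ψ (act x w₀) = act s (act x⁻¹ (act x⁻¹ w₀)) := by
    intro x hx
    have h := hψe x⁻¹ (K.inv_mem hx) w₀ hw₀
    rw [inv_inv] at h
    have h' : ψ (act x w₀) = act x⁻¹ (act x⁻¹ (ψ w₀)) := by simpa [hact] using h
    rw [h', show ψ w₀ = act s w₀ from hsw.symm, hcomm' _ (K.inv_mem hx) _ hs _ hw₀,
      hcomm' _ (K.inv_mem hx) _ hs _ (hW' _ (K.inv_mem hx) _ hw₀)]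
  -- the key relation
  have key : ∀ r ∈ K, act r w₀ ≠ w₀ → act (r * r) w₀ * act (r * r)⁻¹ w₀ = w₀ := by
    intro r hr hrw
    have hrW := hW' r hr _ hw₀
    have hne : w₀ * act r w₀ ≠ 1 := fun e =>
      hrw (by rw [← inv_eq_of_mul_eq_one_right e, inv_eq_of_mul_eq_one_right (hW w₀ hw₀)])
    obtain ⟨t, ht, htw⟩ := htrans w₀ hw₀ hw₀1 _ (W.mul_mem hw₀ hrW) hne
    have htw' : act t w₀ = w₀ * act r w₀ := htw
    have h1 : w₀ * act r⁻¹ (act r⁻¹ w₀) = act t⁻¹ (act t⁻¹ w₀) := by
      refine ainj s _ _ ?_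
      rw [am, ← hψx t ht, htw', hψm _ hw₀ _ hrW, hψx r hr, show ψ w₀ = act s w₀ from hsw.symm]
    have htr : act t (act r w₀) = act r w₀ * act r (act r w₀) := by
      rw [hcomm' t ht r hr w₀ hw₀, htw', am]
    have htt : act t (act t w₀) = w₀ * act r (act r w₀) := by
      rw [htw', am, htr, htw', mul_assoc, ← mul_assoc (act r w₀), hW _ hrW, one_mul]
    have h2 : act t (act t (w₀ * act r⁻¹ (act r⁻¹ w₀))) = w₀ := by
      rw [h1]; simp only [hact]; group
    rw [am, am, hcomm' t ht _ (K.inv_mem hr) _ (hW' _ (K.inv_mem hr) _ hw₀),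
      hcomm' t ht _ (K.inv_mem hr) _ hw₀,
      hcomm' t ht _ (K.inv_mem hr) _ (hW' _ (K.inv_mem hr) _ (hW' _ ht _ hw₀)),
      hcomm' t ht _ (K.inv_mem hr) _ (hW' _ ht _ hw₀), htt, am, am] at h2
    have e : act r⁻¹ (act r⁻¹ (act r (act r w₀))) = w₀ := by simp only [hact]; group
    have hrr := hW' r hr _ hrW
    have hii := hW' _ (K.inv_mem hr) _ (hW' _ (K.inv_mem hr) _ hw₀)
    rw [e] at h2
    rw [ac, mul_inv_rev, ac]
    calc act r (act r w₀) * act r⁻¹ (act r⁻¹ w₀)
        = w₀ * act r (act r w₀) * (act r⁻¹ (act r⁻¹ w₀) * w₀) := by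
          rw [hW.comm hii hw₀, mul_assoc w₀, ← mul_assoc (act r (act r w₀)) w₀,
            hW.comm hrr hw₀, mul_assoc w₀ (act r (act r w₀)), ← mul_assoc w₀ w₀, hW _ hw₀, one_mul]
      _ = w₀ := h2
  -- squaring is injective
  have hsq : ∀ a ∈ K, ∀ b ∈ K, act (a * a) w₀ = act (b * b) w₀ → act a w₀ = act b w₀ := by
    intro a ha b hb e
    set g := b⁻¹ * a with hg
    have hgK : g ∈ K := K.mul_mem (K.inv_mem hb) ha
    have hgg : act g (act g w₀) = w₀ := by
      have e1 : act g (act g w₀) = act b⁻¹ (act b⁻¹ (act a (act a w₀))) := by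
        rw [hg, ac, ac, hcomm' a ha b⁻¹ (K.inv_mem hb) _ (hW' a ha _ hw₀)]
      rw [e1, ← ac a a, e, ac]
      simp only [hact]; group
    have hfix : act g w₀ = w₀ := by
      by_contra hne
      set u := w₀ * act g w₀ with hu
      have huW : u ∈ W := W.mul_mem hw₀ (hW' g hgK _ hw₀)
      have hu1 : u ≠ 1 := fun e => hne (by
        rw [← inv_eq_of_mul_eq_one_right e, inv_eq_of_mul_eq_one_right (hW w₀ hw₀)])
      have hgu : act g u = u := by
        rw [hu, am, hgg, hW.comm (hW' g hgK _ hw₀) hw₀]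
      obtain ⟨p, hp, hpw⟩ := htrans u huW hu1 w₀ hw₀ hw₀1
      refine hne ?_
      rw [show w₀ = act p u from hpw.symm, hcomm' g hgK p hp u huW, hgu]
    calc act a w₀ = act b (act g w₀) := by rw [hg]; simp only [hact]; group
      _ = act b w₀ := by rw [hfix]
  -- at most two values
  set D := {w : W // (w : G) ≠ 1 ∧ (w : G) ≠ w₀}
  have hpt : ∀ w : D, ∃ r ∈ K, act r w₀ = ((w : W) : G) := fun w =>
    htrans w₀ hw₀ hw₀1 _ w.1.2 w.2.1
  choose r hr hrw using hpt
  have hD : Nat.card D ≤ 2 := by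
    rcases isEmpty_or_nonempty D with he | ⟨⟨d₀⟩⟩
    · simp
    set z := r d₀ * r d₀ with hz
    have hzK : z ∈ K := K.mul_mem (hr d₀) (hr d₀)
    let f : D → ({act z w₀, act z⁻¹ w₀} : Set G) := fun d => ⟨act (r d * r d) w₀, by
      set z' := r d * r d with hz'
      have hz'K : z' ∈ K := K.mul_mem (hr d) (hr d)
      have h1 : act z w₀ * act z⁻¹ w₀ = w₀ := key _ (hr d₀) (by rw [hrw]; exact d₀.2.2)
      have h2 : act z' w₀ * act z'⁻¹ w₀ = w₀ := key _ (hr d) (by rw [hrw]; exact d.2.2)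
      set Z := act z w₀
      set Z' := act z' w₀
      have hZ : Z ∈ W := hW' z hzK _ hw₀
      have hZ' : Z' ∈ W := hW' z' hz'K _ hw₀
      have hB : act z Z' ∈ W := hW' z hzK _ hZ'
      set y := act z Z' * w₀ with hy
      have hyW : y ∈ W := W.mul_mem hB hw₀
      have e1 : act z (act z Z') * Z' = act z Z' := by
        have := congrArg (fun w => act z (act z' w)) h1
        simp only [am] at this
        rw [hcomm' z' hz'K z hzK w₀ hw₀, hcomm' z' hz'K z⁻¹ (K.inv_mem hzK) w₀ hw₀] at this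
        have e : act z (act z⁻¹ Z') = Z' := by simp only [hact]; group
        rwa [e] at this
      have e2 : act z' (act z Z') * Z = act z Z' := by
        have := congrArg (fun w => act z (act z' w)) h2
        simp only [am] at this
        have e : act z' (act z'⁻¹ w₀) = w₀ := by simp only [hact]; group
        rwa [e, ← hcomm' z' hz'K z hzK Z' hZ'] at this
      have e3 : act z y = act z' y := by
        rw [hy, am, am]
        show act z (act z Z') * Z = act z' (act z Z') * Z'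
        have a1 : act z (act z Z') = act z Z' * Z' := by
          calc act z (act z Z') = act z (act z Z') * Z' * Z' := by rw [mul_assoc, hW _ hZ', mul_one]
            _ = _ := by rw [e1]
        have a2 : act z' (act z Z') = act z Z' * Z := by
          calc act z' (act z Z') = act z' (act z Z') * Z * Z := by rw [mul_assoc, hW _ hZ, mul_one]
            _ = _ := by rw [e2]
        rw [a1, a2, mul_assoc, mul_assoc, hW.comm hZ' hZ]
      by_cases hy1 : y = 1
      · right
        show Z' = act z⁻¹ w₀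
        have hyw : act z Z' = w₀ := by
          rw [← inv_eq_of_mul_eq_one_left hy1, inv_eq_of_mul_eq_one_right (hW w₀ hw₀)]
        rw [← hyw]; simp only [hact]; group
      · left
        show Z' = Z
        obtain ⟨p, hp, hpw⟩ := htrans y hyW hy1 w₀ hw₀ hw₀1
        show act z' w₀ = act z w₀
        rw [show w₀ = act p y from hpw.symm, hcomm' z' hz'K p hp y hyW, hcomm' z hzK p hp y hyW, e3]⟩
    have hf : Function.Injective f := fun a b e => by
      have := hsq _ (hr a) _ (hr b) (congrArg Subtype.val e)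
      rw [hrw, hrw] at this
      exact Subtype.ext (Subtype.ext this)
    refine (Nat.card_le_card_of_injective f hf).trans ?_
    rw [Nat.card_coe_set_eq]
    exact (Set.ncard_insert_le _ _).trans (by rw [Set.ncard_singleton])
  haveI := Fintype.ofFinite W
  have hsplit : Nat.card W ≤ Nat.card D + 2 := by
    rw [Nat.card_eq_fintype_card, show Nat.card D = _ from Nat.card_eq_fintype_card,
      show Fintype.card D = _ from Fintype.card_subtype _, ← Finset.card_univ (α := W),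
      ← Finset.card_filter_add_card_filter_not (fun w : W => (w : G) ≠ 1 ∧ (w : G) ≠ w₀)]
    refine Nat.add_le_add_left ((Finset.card_le_card (t := {(1 : W), ⟨w₀, hw₀⟩}) ?_).trans
      Finset.card_le_two) _
    intro w hw
    simp only [Finset.mem_filter, not_and_or, not_not] at hw
    rcases hw.2 with h | h
    · simp [Subtype.ext_iff, h]
    · simp [Subtype.ext_iff, h]
  omega

/-- A pair of natural modules has order at most sixteen. -/
theorem Shape.le_four {V V' T : Subgroup G} (P : Shape V V' T) (H : IsCIT G) :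
    Nat.card ↥(V ⊓ V') ≤ 4 := by
  classical
  obtain ⟨gA, -, a1, a2, a3, a4, -, -, -, -, -⟩ := P.nat.weights H P.syl
  obtain ⟨-, gU, -, -, -, -, u1, u2, u3, u4, u5⟩ := P.nat'.weights H P.syl'
  rw [P.inter] at a1
  rw [P.inter'] at u1 u3 u4
  rw [P.self] at a3
  have hpick : ∀ y ∈ V ⊓ V', ∃ v ∈ V', gU v = y := u4
  choose pick hpick hgU using hpick
  let ψ : G → G := fun y => if hy : y ∈ V ⊓ V' then gA (pick y hy) else 1
  have eψ : ∀ {y}, y ∈ V ⊓ V' → ∀ v ∈ V', gU v = y → ψ y = gA v := by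
    intro y hy v hv e
    rw [show ψ y = gA (pick y hy) from dif_pos hy]
    set p := pick y hy
    have hp : p ∈ V' := hpick y hy
    have hd : p * v ∈ V ⊓ V' := (u3 _ (V'.mul_mem hp hv)).1 (by
      rw [u2 _ hp _ hv, hgU y hy, e]
      exact P.nat.elem y hy.1)
    have h1 : gA (p * v) = 1 := (a3 _ (P.le' (V'.mul_mem hp hv))).2 hd.1
    rw [a2 _ (P.le' hp) _ (P.le' hv), mul_eq_one_iff_inv_eq] at h1
    rw [← h1, inv_eq_of_mul_eq_one_right (P.nat.elem _ (a1 _ (P.le' hp)).1)]
  refine card_le_four (fun w hw => P.nat.elem w hw.1) (normalizer (V : Set G) ⊓ normalizer (T : Set G))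
    ?_ ?_ ?_ ψ ?_ ?_ ?_ ?_
  · intro x hx w hw
    rw [← P.inter] at hw ⊢
    exact P.nat.conj_W H P.syl hx.1 hx.2 hw
  · intro x hx y hy w hw
    rw [← P.inter] at hw
    exact P.nat.torus_comm H P.syl hx.1 hx.2 hy.1 hy.2 hw
  · intro w hw hw1 w' hw' hw'1
    rw [← P.inter] at hw hw'
    obtain ⟨x, h1, h2, e⟩ := P.nat.torus_trans H P.syl hw hw1 hw' hw'1
    exact ⟨x, ⟨h1, h2⟩, e⟩
  · intro w hw
    rw [eψ hw _ (hpick w hw) (hgU w hw)]
    exact a1 _ (P.le' (hpick w hw))
  · intro a ha b hb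
    rw [eψ ((V ⊓ V').mul_mem ha hb) _ (V'.mul_mem (hpick a ha) (hpick b hb))
        (by rw [u2 _ (hpick a ha) _ (hpick b hb), hgU, hgU]),
      eψ ha _ (hpick a ha) (hgU a ha), eψ hb _ (hpick b hb) (hgU b hb),
      a2 _ (P.le' (hpick a ha)) _ (P.le' (hpick b hb))]
  · intro a ha e
    rw [eψ ha _ (hpick a ha) (hgU a ha)] at e
    rw [← hgU a ha]
    exact (u3 _ (hpick a ha)).2 ⟨(a3 _ (P.le' (hpick a ha))).1 e, hpick a ha⟩
  · intro x hx y hy
    have hx' : x ∈ normalizer (V' : Set G) := P.normalizer_other H hx.1 hx.2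
    have hy' : x⁻¹ * y * x ∈ V ⊓ V' := by
      have h1 := conj_mem_of_normalizer ((normalizer (V : Set G)).inv_mem hx.1) hy.1
      have h2 := conj_mem_of_normalizer ((normalizer (V' : Set G)).inv_mem hx') hy.2
      rw [inv_inv] at h1 h2
      exact ⟨h1, h2⟩
    rw [eψ hy' _ (conj_mem_of_normalizer hx' (hpick y hy))
      (by rw [u5 x hx' hx.2 _ (hpick y hy), hgU]),
      eψ hy _ (hpick y hy) (hgU y hy), a4 x hx.1 hx.2 _ (P.le' (hpick y hy))]

end CfsgLib.Recognition.CIT
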